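import Groth.Agent.MonoFibre.FixedPt
import Groth.Agent.GrpSchLib.Basic
import Groth.Agent.FpqcDesc.Stalk
import Groth.Agent.PullbackMod.Flat

/-!
# Flatness of orbit maps spreads from one point, over a one-point base
-/

set_option autoImplicit false

universe u

open CategoryTheory MonoidalCategory CartesianMonoidalCategory MonObj GrpObj AlgebraicGeometry Limits

noncomputable section

namespace Groth.Agent.MonoFibre

open FlatDescStalk

variable {S : Scheme.{u}} {G X : Over S} [GrpObj G] (a : AlgGrp.Action G X)

/-- Translation of `X ⊗ T` by a `T`-point of the group. -/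
def actTransl {T : Over S} (c : T ⟶ G) : X ⊗ T ≅ X ⊗ T where
  hom := lift (lift (snd X T ≫ c) (fst X T) ≫ a.act) (snd X T)
  inv := lift (lift (snd X T ≫ c⁻¹) (fst X T) ≫ a.act) (snd X T)
  hom_inv_id := by
    apply CartesianMonoidalCategory.hom_ext
    · rw [Category.assoc, lift_fst, ← Category.assoc, comp_lift, lift_fst, ← Category.assoc, lift_snd, ← act_mul,
        ← MonObj.comp_mul, inv_mul_cancel, MonObj.comp_one, act_one, Category.id_comp]
    · simp
  inv_hom_id := by
    apply CartesianMonoidalCategory.hom_ext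
    · rw [Category.assoc, lift_fst, ← Category.assoc, comp_lift, lift_fst, ← Category.assoc, lift_snd, ← act_mul,
        ← MonObj.comp_mul, mul_inv_cancel, MonObj.comp_one, act_one, Category.id_comp]
    · simp

/-- Left translation of `G ⊗ T` by a `T`-point. -/
def lTransl {T : Over S} (c : T ⟶ G) : G ⊗ T ≅ G ⊗ T where
  hom := lift ((snd G T ≫ c) * fst G T) (snd G T)
  inv := lift ((snd G T ≫ c⁻¹) * fst G T) (snd G T)
  hom_inv_id := by
    apply CartesianMonoidalCategory.hom_ext
    · rw [Category.assoc, lift_fst, MonObj.comp_mul, lift_fst, ← Category.assoc, lift_snd,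
        GrpObj.comp_inv, inv_mul_cancel_left, Category.id_comp]
    · simp
  inv_hom_id := by
    apply CartesianMonoidalCategory.hom_ext
    · rw [Category.assoc, lift_fst, MonObj.comp_mul, lift_fst, ← Category.assoc, lift_snd,
        GrpObj.comp_inv, mul_inv_cancel_left, Category.id_comp]
    · simp

theorem orbitMap_apply {V : Over S} (o : 𝟙_ (Over S) ⟶ X) (g : V ⟶ G) :
    g ≫ a.orbitMap o = lift g (toUnit V ≫ o) ≫ a.act := by
  rw [AlgGrp.Action.orbitMap, ← Category.assoc, comp_lift, Category.comp_id, ← Category.assoc, comp_toUnit]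

theorem lTransl_naturality {T : Over S} (c : T ⟶ G) (o : 𝟙_ (Over S) ⟶ X) :
    (lTransl c).hom ≫ a.orbitMap o ▷ T = a.orbitMap o ▷ T ≫ (actTransl a c).hom := by
  apply CartesianMonoidalCategory.hom_ext
  · simp only [lTransl, actTransl, Category.assoc, whiskerRight_fst, lift_fst]
    rw [← Category.assoc, lift_fst, orbitMap_apply, act_mul, ← Category.assoc, comp_lift, whiskerRight_fst,
      whiskerRight_snd_assoc, orbitMap_apply]
  · simp [lTransl, actTransl]

/-- An orbit map flat at one point is flat, for a flat group over a one-point base. -/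
theorem flat_orbitMap_of_flat_at [Subsingleton S] [Flat G.hom] (o : 𝟙_ (Over S) ⟶ X)
    (h : ∃ x : G.left, ((a.orbitMap o).left.stalkMap x).hom.Flat) : Flat (a.orbitMap o).left := by
  obtain ⟨x, hx⟩ := h
  refine Flat.of_stalkMap _ fun g => ?_
  obtain ⟨r, hr1, hr2⟩ := Scheme.Pullback.exists_preimage_pullback (f := G.hom) (g := G.hom) g x (Subsingleton.elim _ _)
  let T := G ⊗ G
  let R : T.left := r
  let φ := a.orbitMap o
  let c : T ⟶ G := fst G G * (snd G G)⁻¹
  let p' := (lift (snd G G) (𝟙 T)).left R
  let g' := (lift (fst G G) (𝟙 T)).left R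
  have hsec : lift (snd G G) (𝟙 T) ≫ (lTransl c).hom = lift (fst G G) (𝟙 T) := by
    apply CartesianMonoidalCategory.hom_ext
    · simp only [lTransl, Category.assoc, lift_fst]
      rw [MonObj.comp_mul, lift_fst, ← Category.assoc, lift_snd, Category.id_comp, inv_mul_cancel_right]
    · simp [lTransl]
  have hp' : (fst G T).left p' = x := by
    rw [← Scheme.Hom.comp_apply, ← Over.comp_left, lift_fst]; exact hr2
  have hg' : (fst G T).left g' = g := by
    rw [← Scheme.Hom.comp_apply, ← Over.comp_left, lift_fst]; exact hr1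
  haveI hT : Flat T.hom := by
    haveI : Flat (fst G G).left :=
      MorphismProperty.of_isPullback (P := @Flat) GrpSchLib.isPullback_fst_snd.flip ‹Flat G.hom›
    rw [← Over.w (fst G G)]; infer_instance
  have hsq : IsPullback (fst G T).left (φ ▷ T).left φ.left (fst X T).left := by
    refine IsPullback.of_bot (v₂₁ := (snd X T).left) (v₂₂ := X.hom) (h₃₁ := T.hom) ?_ ?_
      GrpSchLib.isPullback_fst_snd
    · rw [← Over.comp_left, whiskerRight_snd, Over.w]
      exact GrpSchLib.isPullback_fst_snd
    · rw [← Over.comp_left, ← Over.comp_left, whiskerRight_fst]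
  have hfp : ((φ ▷ T).left.stalkMap p').hom.Flat :=
    PullbackMod.flat_stalkMap_of_isPullback hsq.flip p' (by rw [hp']; exact hx)
  haveI : IsIso (lTransl c).hom.left := ((Over.forget _).mapIso (lTransl c)).isIso_hom
  haveI : IsIso (actTransl a c).hom.left := ((Over.forget _).mapIso (actTransl a c)).isIso_hom
  have hcomp : (((lTransl c).hom.left ≫ (φ ▷ T).left).stalkMap p').hom.Flat := by
    rw [← Over.comp_left, lTransl_naturality, Over.comp_left]
    exact (flat_stalkMap_comp_iff _ _ p' hfp).mpr (Flat.stalkMap _ _)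
  have hfg : ((φ ▷ T).left.stalkMap g').hom.Flat := by
    have := (flat_stalkMap_comp_iff (lTransl c).hom.left (φ ▷ T).left p' (Flat.stalkMap _ _)).mp hcomp
    rwa [show (lTransl c).hom.left p' = g' by rw [← Scheme.Hom.comp_apply, ← Over.comp_left, hsec]] at this
  haveI : Flat (fst X T).left := MorphismProperty.of_isPullback (P := @Flat) GrpSchLib.isPullback_fst_snd.flip hT
  haveI : Flat (fst G T).left := MorphismProperty.of_isPullback (P := @Flat) GrpSchLib.isPullback_fst_snd.flip hT
  have h5 : (((fst G T).left ≫ φ.left).stalkMap g').hom.Flat := by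
    rw [hsq.w]
    exact (flat_stalkMap_comp_iff _ _ g' hfg).mpr (Flat.stalkMap _ _)
  have := (flat_stalkMap_comp_iff (fst G T).left φ.left g' (Flat.stalkMap _ _)).mp h5
  rwa [hg'] at this

/-- A homomorphism as the orbit map of the unit. -/
theorem flat_hom_of_flat_at [Subsingleton S] {H : Over S} [GrpObj H] [Flat G.hom] (u : G ⟶ H) [IsMonHom u]
    (h : ∃ x : G.left, (u.left.stalkMap x).hom.Flat) : Flat u.left := by
  have hw : u ▷ H ≫ μ[H] = (fst G H ≫ u) * snd G H := GrpSchLib.whiskerRight_mul u
  let b : AlgGrp.Action G H :=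
    { act := u ▷ H ≫ μ[H]
      one_act := by rw [← comp_whiskerRight_assoc, IsMonHom.one_hom, MonObj.one_mul]
      mul_act := by
        have hm : μ[G] = fst G G * snd G G := by rw [Hom.mul_def, lift_fst_snd, Category.id_comp]
        simp only [hw, MonObj.comp_mul, whiskerRight_fst_assoc, whiskerRight_snd, whiskerLeft_fst_assoc,
          whiskerLeft_snd]
        rw [hm, MonObj.mul_comp, MonObj.comp_mul, _root_.mul_assoc]
        simp }
  have he : b.orbitMap η[H] = u := by
    rw [AlgGrp.Action.orbitMap]
    show lift (𝟙 G) (toUnit G ≫ η[H]) ≫ u ▷ H ≫ μ[H] = u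
    rw [hw, MonObj.comp_mul, lift_fst_assoc, lift_snd, ← Hom.one_def, _root_.mul_one, Category.id_comp]
  rw [← he]
  exact flat_orbitMap_of_flat_at b η[H] (he.symm ▸ h)

end Groth.Agent.MonoFibre
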