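import Groth.Agent.MonoFibre.Homogeneous2
import Groth.Agent.GrpSchLib.Immersion
import Groth.Agent.SpreadOut.Components
import Groth.Agent.FpqcDesc.Stalk
import Groth.Agent.IntImage.Spread

/-!
# Dominant quasi-compact homomorphisms of group schemes over a field

They are surjective, and flat when the target is reduced.
-/

set_option autoImplicit false

universe u

open CategoryTheory MonoidalCategory CartesianMonoidalCategory MonObj GrpObj AlgebraicGeometry Limits

noncomputable section

namespace Groth.Agent.MonoFibre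

open GrpSchLib FlatDescStalk

/-- A quasi-compact dominant morphism hits all maximal points. -/
theorem maxPt_mem_range {X Y : Scheme.{u}} (f : X ⟶ Y) [QuasiCompact f] (hf : DenseRange f.base) {y : Y}
    (hy : IsMaxPt y) : y ∈ Set.range f := by
  obtain ⟨x, -, hx⟩ := SpreadOut.exists_specializes_of_mem_closure_image f (Z := Set.univ) isClosed_univ
    (y := y) (by rw [Set.image_univ]; exact hf y)
  exact ⟨x, hy _ hx⟩

theorem isField_stalk_of_isMaxPt {Y : Scheme.{u}} [IsReduced Y] {y : Y} (hy : IsMaxPt y) :
    IsField (Y.presheaf.stalk y) := by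
  haveI : Subsingleton (PrimeSpectrum (Y.presheaf.stalk y)) := ⟨fun p q => (Y.fromSpecStalk y).injective (by
    have hp : Y.fromSpecStalk y p ⤳ y := Scheme.range_fromSpecStalk.le ⟨p, rfl⟩
    have hq : Y.fromSpecStalk y q ⤳ y := Scheme.range_fromSpecStalk.le ⟨q, rfl⟩
    rw [hy _ hp, hy _ hq])⟩
  exact Ring.KrullDimLE.isField_of_isReduced

theorem flat_to_field {R : CommRingCat.{u}} (hR : IsField R) {X : Scheme.{u}} (f : X ⟶ Spec R) : Flat f := by
  letI := hR.toField
  haveI : Flat (X := X) (Y := Spec (CommRingCat.of R)) f := by infer_instance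
  exact this

/-- Flatness at the points over a maximal point of a reduced scheme survives base change. -/
theorem flat_stalkMap_of_isPullback_maxPt {X Y X' Y' : Scheme.{u}} {a : X' ⟶ X} {f' : X' ⟶ Y'} {f : X ⟶ Y}
    {b : Y' ⟶ Y} (h : IsPullback a f' f b) [IsReduced Y] (x' : X') (hx : IsMaxPt (f (a x'))) :
    (f'.stalkMap x').hom.Flat := by
  let y := f (a x')
  let j := Y.fromSpecStalk y
  have hflat : Flat (pullback.snd f j) := flat_to_field (isField_stalk_of_isMaxPt hx) _
  haveI : Flat j := IntImage.flat_fromSpecStalk _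
  let p := pullback.fst b j
  let i := pullback.fst f' p
  let q := pullback.snd f' p
  haveI hp : Flat p := MorphismProperty.of_isPullback (P := @Flat) (IsPullback.of_hasPullback b j).flip inferInstance
  haveI : Flat i := MorphismProperty.of_isPullback (P := @Flat) (IsPullback.of_hasPullback f' p).flip hp
  have h1 : IsPullback (i ≫ a) q f (pullback.snd b j ≫ j) := by
    rw [← pullback.condition]
    exact ((IsPullback.of_hasPullback f' p).flip.paste_vert h.flip).flip
  let e : pullback f' p ⟶ pullback f j := pullback.lift (i ≫ a) (q ≫ pullback.snd b j) (by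
    rw [h1.w, Category.assoc])
  have hle : e ≫ pullback.fst f j = i ≫ a := pullback.lift_fst _ _ _
  have h2 : IsPullback e q (pullback.snd f j) (pullback.snd b j) :=
    IsPullback.of_right (hle.symm ▸ h1) (pullback.lift_snd _ _ _) (IsPullback.of_hasPullback f j)
  haveI : Flat q := MorphismProperty.of_isPullback (P := @Flat) h2 hflat
  obtain ⟨z, hz, -⟩ := Scheme.Pullback.exists_preimage_pullback (f := b) (g := j) (f' x')
    (IsLocalRing.closedPoint _) (by
      rw [Scheme.fromSpecStalk_closedPoint, ← Scheme.Hom.comp_apply, ← h.w, Scheme.Hom.comp_apply])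
  obtain ⟨w, hw, -⟩ := Scheme.Pullback.exists_preimage_pullback (f := f') (g := p) x' z hz.symm
  have h3 : Flat (i ≫ f') := by rw [show i ≫ f' = q ≫ p from pullback.condition]; infer_instance
  have := (flat_stalkMap_comp_iff i f' w (Flat.stalkMap i w)).mp (Flat.stalkMap (i ≫ f') w)
  rwa [show i w = x' from hw] at this

section Hom

variable {K : Type u} [Field K] {G H : Over (Spec (CommRingCat.of K))} [GrpObj G] [GrpObj H]

/-- Right translation on `G ⊗ T` by a `T`-point. -/
def rTransl {T : Over (Spec (CommRingCat.of K))} (c : T ⟶ G) : G ⊗ T ≅ G ⊗ T where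
  hom := lift (fst G T * (snd G T ≫ c)) (snd G T)
  inv := lift (fst G T * (snd G T ≫ c)⁻¹) (snd G T)
  hom_inv_id := by
    apply CartesianMonoidalCategory.hom_ext
    · rw [Category.assoc, lift_fst, MonObj.comp_mul, GrpObj.comp_inv, lift_fst, ← Category.assoc, lift_snd,
        mul_inv_cancel_right, Category.id_comp]
    · simp
  inv_hom_id := by
    apply CartesianMonoidalCategory.hom_ext
    · rw [Category.assoc, lift_fst, MonObj.comp_mul, lift_fst, ← Category.assoc, lift_snd,
        inv_mul_cancel_right, Category.id_comp]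
    · simp

theorem rTransl_naturality {T : Over (Spec (CommRingCat.of K))} (c : T ⟶ G) (f : G ⟶ H) [IsMonHom f] :
    (rTransl c).hom ≫ f ▷ T = f ▷ T ≫ (rTransl (c ≫ f)).hom := by
  apply CartesianMonoidalCategory.hom_ext
  · simp [rTransl, MonObj.mul_comp, MonObj.comp_mul]
  · simp [rTransl]

theorem flat_to_spec_field {T : Over (Spec (CommRingCat.of K))} : Flat T.hom :=
  flat_to_field (Field.toIsField K) _

/-- A quasi-compact dominant homomorphism of group schemes over a field is surjective. -/
theorem surjective_of_denseRange (f : G ⟶ H) [IsMonHom f] [QuasiCompact f.left] (hf : DenseRange f.left.base) :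
    Surjective f.left := by
  refine ⟨fun h => ?_⟩
  let T := H ⊗ ptObj h
  let c : T ⟶ H := snd _ _ ≫ ptHom h
  let u : T ⟶ H := c * (fst _ _)⁻¹
  let φ : T ≅ T :=
    { hom := lift u (snd _ _)
      inv := lift ((fst _ _)⁻¹ * c) (snd _ _)
      hom_inv_id := by
        apply CartesianMonoidalCategory.hom_ext
        · rw [Category.assoc, lift_fst, MonObj.comp_mul, GrpObj.comp_inv, lift_fst, ← Category.assoc,
            lift_snd, Category.id_comp]
          simp [u, c]
        · simp
      inv_hom_id := by
        apply CartesianMonoidalCategory.hom_ext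
        · rw [Category.assoc, lift_fst, MonObj.comp_mul, GrpObj.comp_inv, lift_fst, ← Category.assoc,
            lift_snd, Category.id_comp]
          simp [c]
        · simp }
  haveI : Flat (fst H (ptObj h)).left :=
    MorphismProperty.of_isPullback (P := @Flat) GrpSchLib.isPullback_fst_snd.flip flat_to_spec_field
  obtain ⟨pt⟩ : Nonempty (ptObj h).left := inferInstance
  haveI : Nonempty H.left := ⟨h⟩
  obtain ⟨t₀, -⟩ := surjective_snd (G := ptObj h) H pt
  obtain ⟨t, -, ht⟩ := exists_isMaxPt t₀
  have h1 : IsMaxPt ((fst H (ptObj h)).left t) := isMaxPt_of_flat _ ht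
  have h2 : IsMaxPt (u.left t) := by
    haveI : IsIso φ.hom.left := ((Over.forget _).mapIso φ).isIso_hom
    have h3 : IsMaxPt (φ.hom.left t) := isMaxPt_map φ.hom.left.homeomorph ht
    have h4 := isMaxPt_of_flat (fst H (ptObj h)).left h3
    rwa [← Scheme.Hom.comp_apply, ← Over.comp_left, show φ.hom ≫ fst H (ptObj h) = u from lift_fst _ _] at h4
  have h3 := mul_mem_range f u (fst H (ptObj h)) t (maxPt_mem_range _ hf h2) (maxPt_mem_range _ hf h1)
  rw [show u * fst H (ptObj h) = c from inv_mul_cancel_right _ _] at h3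
  simpa [c, ptHom_apply] using h3

/-- A homomorphism to a reduced group scheme over a field hitting a maximal point is flat. -/
theorem flat_of_maxPt_mem_range (f : G ⟶ H) [IsMonHom f] [IsReduced H.left]
    (hmax : ∀ ξ : H.left, IsMaxPt ξ → ξ ∈ Set.range f.left) : Flat f.left := by
  refine Flat.of_stalkMap _ fun g => ?_
  obtain ⟨ξ, -, hξ⟩ := exists_isMaxPt (η[H].left (IsLocalRing.closedPoint K))
  obtain ⟨p, hp⟩ := hmax ξ hξ
  obtain ⟨r, hr1, hr2⟩ := Scheme.Pullback.exists_preimage_pullback (f := G.hom) (g := G.hom) g p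
    (Subsingleton.elim _ _)
  let R : ↥(G ⊗ G).left := r
  let T := ptObj R
  let cg : T ⟶ G := ptHom R ≫ fst G G
  let cp : T ⟶ G := ptHom R ≫ snd G G
  obtain ⟨pt⟩ : Nonempty T.left := inferInstance
  have hcg : cg.left pt = g := by
    rw [Over.comp_left, Scheme.Hom.comp_apply, ptHom_apply]; exact hr1
  have hcp : cp.left pt = p := by
    rw [Over.comp_left, Scheme.Hom.comp_apply, ptHom_apply]; exact hr2
  let sec : (T ⟶ G) → (T ⟶ G ⊗ T) := fun x => lift x (𝟙 T)
  let τ := rTransl (cp⁻¹ * cg)
  have hsec : sec cp ≫ τ.hom = sec cg := by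
    apply CartesianMonoidalCategory.hom_ext <;> simp [sec, τ, rTransl, MonObj.comp_mul]
  let p' := (sec cp).left pt
  let g' := (sec cg).left pt
  have hp' : (fst G T).left p' = p := by
    rw [← Scheme.Hom.comp_apply, ← Over.comp_left, lift_fst, hcp]
  have hg' : (fst G T).left g' = g := by
    rw [← Scheme.Hom.comp_apply, ← Over.comp_left, lift_fst, hcg]
  have hsq : IsPullback (fst G T).left (f ▷ T).left f.left (fst H T).left := by
    refine IsPullback.of_bot (v₂₁ := (snd H T).left) (v₂₂ := H.hom) (h₃₁ := T.hom) ?_ ?_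
      GrpSchLib.isPullback_fst_snd
    · rw [← Over.comp_left, whiskerRight_snd, Over.w]
      exact GrpSchLib.isPullback_fst_snd
    · rw [← Over.comp_left, ← Over.comp_left, whiskerRight_fst]
  have hfp : ((f ▷ T).left.stalkMap p').hom.Flat :=
    flat_stalkMap_of_isPullback_maxPt hsq p' (by rw [hp', hp]; exact hξ)
  haveI : IsIso τ.hom.left := inferInstanceAs (IsIso ((Over.forget _).map τ.hom))
  haveI : IsIso (rTransl ((cp⁻¹ * cg) ≫ f)).hom.left :=
    inferInstanceAs (IsIso ((Over.forget _).map (rTransl ((cp⁻¹ * cg) ≫ f)).hom))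
  have hcomp : ((τ.hom.left ≫ (f ▷ T).left).stalkMap p').hom.Flat := by
    rw [← Over.comp_left, rTransl_naturality, Over.comp_left]
    exact (flat_stalkMap_comp_iff _ _ p' hfp).mpr (Flat.stalkMap _ _)
  have hfg : ((f ▷ T).left.stalkMap g').hom.Flat := by
    have := (flat_stalkMap_comp_iff τ.hom.left (f ▷ T).left p' (Flat.stalkMap _ _)).mp hcomp
    rwa [show τ.hom.left p' = g' by
      rw [← Scheme.Hom.comp_apply, ← Over.comp_left, hsec]] at this
  haveI : Flat (fst H T).left :=
    MorphismProperty.of_isPullback (P := @Flat) GrpSchLib.isPullback_fst_snd.flip flat_to_spec_field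
  haveI : Flat (fst G T).left :=
    MorphismProperty.of_isPullback (P := @Flat) GrpSchLib.isPullback_fst_snd.flip flat_to_spec_field
  have h5 : (((fst G T).left ≫ f.left).stalkMap g').hom.Flat := by
    rw [hsq.w]
    exact (flat_stalkMap_comp_iff _ _ g' hfg).mpr (Flat.stalkMap _ _)
  have := (flat_stalkMap_comp_iff (fst G T).left f.left g' (Flat.stalkMap _ _)).mp h5
  rwa [hg'] at this

/-- A quasi-compact dominant homomorphism to a reduced group scheme over a field is flat. -/
theorem flat_of_denseRange (f : G ⟶ H) [IsMonHom f] [QuasiCompact f.left] (hf : DenseRange f.left.base)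
    [IsReduced H.left] : Flat f.left :=
  flat_of_maxPt_mem_range f fun _ hξ => maxPt_mem_range _ hf hξ

/-- A surjective homomorphism to a reduced group scheme over a field is flat. -/
theorem flat_of_surjective (f : G ⟶ H) [IsMonHom f] [Surjective f.left] [IsReduced H.left] : Flat f.left :=
  flat_of_maxPt_mem_range f fun ξ _ => f.left.surjective ξ

end Hom

end Groth.Agent.MonoFibre
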