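import Mathlib

/-! A ring map `R → A` into a noetherian ring which is injective and such that `A ⊗[R] A` is flat over `A`
is flat at every prime over a minimal prime of `R`. -/

set_option autoImplicit false
universe u

open TensorProduct IsLocalRing

namespace Groth.Agent.MonoFibre

/-- Over a local ring whose maximal ideal is nil, a module which becomes flat over a noetherian ring containing
the base is flat. -/
theorem flat_of_injective_of_flat_tensor {B : Type u} [CommRing B] [IsLocalRing B]
    (hnil : maximalIdeal B ≤ nilradical B) {T : Type u} [CommRing T] [Algebra B T] [IsNoetherianRing T]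
    (hinj : Function.Injective (algebraMap B T)) (M : Type u) [AddCommGroup M] [Module B M]
    [Module.Flat T (T ⊗[B] M)] : Module.Flat B M := by
  classical
  set m := maximalIdeal B
  set I : Ideal T := m.map (algebraMap B T)
  have hI : I ≤ nilradical T := by
    rw [Ideal.map_le_iff_le_comap]
    intro x hx
    exact mem_nilradical.mpr ((mem_nilradical.mp (hnil hx)).map (algebraMap B T))
  obtain ⟨N, hN⟩ := IsNoetherianRing.isNilpotent_nilradical T
  have hIN : I ^ N = ⊥ := eq_bot_iff.mpr ((Ideal.pow_right_mono hI N).trans_eq hN)
  have hmN : m ^ N = ⊥ := by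
    have h : (m ^ N).map (algebraMap B T) = ⊥ := by rw [Ideal.map_pow]; exact hIN
    rwa [Ideal.map_eq_bot_iff_of_injective hinj] at h
  let := Ideal.Quotient.field m
  let b := Module.Free.chooseBasis (B ⧸ m) (M ⧸ m • (⊤ : Submodule B M))
  choose v hv using fun i => Submodule.Quotient.mk_surjective _ (b i)
  have hspan : ⊤ ≤ Submodule.span B (Set.range v) := by
    have h1 : (⊤ : Submodule B M) ≤ Submodule.span B (Set.range v) ⊔ m • ⊤ := by
      intro x _
      have hx : Submodule.Quotient.mk x ∈ Submodule.span B (Set.range b) := by
        have := b.span_eq.ge (Submodule.mem_top (x := (Submodule.Quotient.mk x : M ⧸ m • (⊤ : Submodule B M))))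
        rwa [← Submodule.restrictScalars_mem B, Submodule.restrictScalars_span B (B ⧸ m) Ideal.Quotient.mk_surjective]
          at this
      have hr : Set.range b = (m • ⊤ : Submodule B M).mkQ '' Set.range v := by
        rw [← Set.range_comp]; exact congrArg Set.range (funext fun i => (hv i).symm)
      rw [hr, Submodule.span_image] at hx
      obtain ⟨y, hy, hyx⟩ := hx
      have hd : x - y ∈ m • (⊤ : Submodule B M) := (Submodule.Quotient.eq _).mp hyx.symm
      exact (add_sub_cancel y x) ▸ Submodule.add_mem_sup hy hd
    have h2 : ∀ n, (⊤ : Submodule B M) ≤ Submodule.span B (Set.range v) ⊔ m ^ n • ⊤ := by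
      intro n
      induction n with
      | zero => simp
      | succ n ih =>
        refine ih.trans (sup_le le_sup_left ?_)
        refine (Submodule.smul_mono le_rfl h1).trans ?_
        rw [Submodule.smul_sup, ← Submodule.mul_smul, ← pow_succ]
        exact sup_le (Submodule.smul_le_right.trans le_sup_left) le_sup_right
    simpa [hmN] using h2 N
  have hli : LinearIndependent B v := by
    rw [linearIndependent_iff']
    intro s g hg i hi
    apply hinj
    rw [map_zero]
    let f : s → T := fun j => algebraMap B T (g j)
    let x : s → T ⊗[B] M := fun j => 1 ⊗ₜ[B] v j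
    have hfx : ∑ j, f j • x j = 0 := by
      have : ∑ j : s, f j • x j = (1 : T) ⊗ₜ[B] (∑ j ∈ s, g j • v j) := by
        rw [TensorProduct.tmul_sum, ← Finset.sum_attach s fun j => (1 : T) ⊗ₜ[B] (g j • v j),
          ← Finset.univ_eq_attach]
        exact Finset.sum_congr rfl fun j _ => by simp only [f, x, TensorProduct.tmul_smul, algebraMap_smul]
      rw [this, hg, TensorProduct.tmul_zero]
    obtain ⟨l, a, y, hxy, hfa⟩ := Module.Flat.isTrivialRelation_of_sum_smul_eq_zero hfx
    suffices ∀ n (j : s), f j ∈ I ^ n by
      have := this N ⟨i, hi⟩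
      rwa [hIN, Submodule.mem_bot] at this
    intro n
    induction n with
    | zero => simp
    | succ n ih =>
      intro k
      let c : M →ₗ[B] B ⧸ m := ((b.coord k.1).restrictScalars B).comp (m • ⊤ : Submodule B M).mkQ
      let q : B ⧸ m →ₗ[B] T ⧸ I := Submodule.liftQ m ((Ideal.Quotient.mkₐ B I).comp (Algebra.ofId B T)).toLinearMap
        (fun r hr => (Ideal.Quotient.eq_zero_iff_mem.mpr (Ideal.mem_map_of_mem _ hr) : Ideal.Quotient.mk I (algebraMap B T r) = 0))
      let p : T ⊗[B] M →ₗ[T] T ⧸ I := (q.comp c).liftBaseChange T
      have hpx : ∀ j : s, p (x j) = if j = k then 1 else 0 := by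
        intro j
        have hc : c (v j) = if j = k then 1 else 0 := by
          simp only [c, LinearMap.comp_apply, LinearMap.coe_restrictScalars, Submodule.mkQ_apply, hv]
          rw [Module.Basis.coord_apply, Module.Basis.repr_self, Finsupp.single_apply]
          exact if_congr Subtype.ext_iff.symm rfl rfl
        have hq : q 1 = 1 := map_one (Ideal.Quotient.mk I |>.comp (algebraMap B T))
        simp only [p, x, LinearMap.liftBaseChange_tmul, one_smul, LinearMap.comp_apply, hc]
        split_ifs <;> simp [hq]
      choose z hz using fun l => Ideal.Quotient.mk_surjective (p (y l))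
      have hd : ∀ j, (if j = k then 1 else 0 : T) - ∑ l, a j l * z l ∈ I := by
        intro j
        rw [← Ideal.Quotient.eq_zero_iff_mem, map_sub, sub_eq_zero]
        have := congrArg p (hxy j)
        rw [hpx, map_sum] at this
        rw [apply_ite (Ideal.Quotient.mk I), map_one, map_zero, this, map_sum]
        refine Finset.sum_congr rfl fun l _ => ?_
        rw [map_smul, map_mul, hz, Algebra.smul_def, Ideal.Quotient.algebraMap_eq]
      have hsum : ∑ j, f j * (∑ l, a j l * z l) = 0 := by
        simp_rw [Finset.mul_sum]
        rw [Finset.sum_comm]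
        refine Finset.sum_eq_zero fun l _ => ?_
        simp_rw [← mul_assoc]
        rw [← Finset.sum_mul, hfa, zero_mul]
      have : f k = ∑ j, f j * ((if j = k then 1 else 0) - ∑ l, a j l * z l) := by
        simp only [mul_sub, Finset.sum_sub_distrib, hsum, sub_zero, mul_ite, mul_one, mul_zero]
        simp
      rw [this, pow_succ]
      exact Ideal.sum_mem _ fun j _ => Ideal.mul_mem_mul (ih j) (hd j)
  have : Module.Free B M := Module.Free.of_basis (Module.Basis.mk hli hspan)
  infer_instance

/-- An injective map to a noetherian ring with flat "base change along itself" is flat at the primes over a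
minimal prime. -/
theorem flat_localization_of_minimalPrime {R A : Type u} [CommRing R] [CommRing A] [Algebra R A] [IsNoetherianRing A]
    (hinj : Function.Injective (algebraMap R A)) [Module.Flat A (A ⊗[R] A)] {P : Ideal R} (hP : P ∈ minimalPrimes R)
    (Q : Ideal A) [Q.IsPrime] (hQ : Q.comap (algebraMap R A) = P) : Module.Flat R (Localization.AtPrime Q) := by
  haveI : P.IsPrime := hP.1.1
  let S := Algebra.algebraMapSubmonoid A P.primeCompl
  let B := Localization.AtPrime P
  let T := Localization S
  haveI : IsNoetherianRing T := IsLocalization.isNoetherianRing S T inferInstance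
  have hnil : maximalIdeal B ≤ nilradical B := by
    rw [nilradical_eq_sInf]
    refine le_sInf fun J hJ => ?_
    haveI : J.IsPrime := hJ
    have hle : J.comap (algebraMap R B) ≤ P := by
      conv_rhs => rw [← Localization.AtPrime.comap_maximalIdeal (I := P)]
      exact Ideal.comap_mono (IsLocalRing.le_maximalIdeal hJ.ne_top)
    have heq : J.comap (algebraMap R B) = P := le_antisymm hle (hP.2 ⟨inferInstance, bot_le⟩ hle)
    rw [← IsLocalization.map_comap P.primeCompl B J]
    rw [show J.under R = P from heq, Localization.AtPrime.map_eq_maximalIdeal]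
  have hinjT : Function.Injective (algebraMap B T) := by
    rw [injective_iff_map_eq_zero]
    intro x hx
    obtain ⟨r, c, rfl⟩ := IsLocalization.exists_mk'_eq P.primeCompl x
    have h1 : algebraMap A T (algebraMap R A r) = 0 := by
      rw [← IsScalarTower.algebraMap_apply R A T, IsScalarTower.algebraMap_apply R B T,
        ← IsLocalization.mk'_spec B r c, map_mul, hx, zero_mul]
    obtain ⟨⟨_, d, hd, rfl⟩, hd'⟩ := (IsLocalization.map_eq_zero_iff S T _).mp h1
    rw [IsLocalization.mk'_eq_zero_iff]
    exact ⟨⟨d, hd⟩, hinj (by rw [map_zero, map_mul]; exact hd')⟩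
  haveI hpo : Algebra.IsPushout R B A T := (Algebra.isPushout_of_isLocalization P.primeCompl B A T).symm
  haveI : Module.Flat T (T ⊗[A] (A ⊗[R] A)) := inferInstance
  haveI : Module.Flat T (T ⊗[R] A) :=
    Module.Flat.of_linearEquiv (TensorProduct.AlgebraTensorModule.cancelBaseChange R A T T A).symm
  haveI : Module.Flat T (T ⊗[B] T) :=
    Module.Flat.of_linearEquiv ((TensorProduct.AlgebraTensorModule.congr (LinearEquiv.refl T T) hpo.out.equiv.symm).trans
      (TensorProduct.AlgebraTensorModule.cancelBaseChange R B T T A))
  haveI : Module.Flat B T := flat_of_injective_of_flat_tensor hnil hinjT T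
  haveI : Module.Flat R B := IsLocalization.flat B P.primeCompl
  haveI : Module.Flat R T := Module.Flat.trans R B T
  have hle : S ≤ Q.primeCompl := by
    rintro _ ⟨s, hs, rfl⟩ h
    exact hs (hQ ▸ (Ideal.mem_comap.mpr h))
  let := IsLocalization.localizationAlgebraOfSubmonoidLe T (Localization.AtPrime Q) S Q.primeCompl hle
  haveI := IsLocalization.localization_isScalarTower_of_submonoid_le T (Localization.AtPrime Q) S Q.primeCompl hle
  haveI := IsLocalization.isLocalization_of_submonoid_le T (Localization.AtPrime Q) S Q.primeCompl hle
  haveI : Module.Flat T (Localization.AtPrime Q) := IsLocalization.flat _ (Q.primeCompl.map (algebraMap A T))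
  haveI : IsScalarTower R T (Localization.AtPrime Q) := .of_algebraMap_eq fun r => by
    rw [IsScalarTower.algebraMap_apply R A (Localization.AtPrime Q), IsScalarTower.algebraMap_apply R A T,
      ← IsScalarTower.algebraMap_apply A T (Localization.AtPrime Q)]
  exact Module.Flat.trans R T (Localization.AtPrime Q)

end Groth.Agent.MonoFibre
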