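import Mathlib
import Groth.Agent.MonoFibre.MinFlat
import Groth.Agent.MonoFibre.HomFlat
import Groth.Agent.MonoFibre.FlatOrbit
import Groth.Agent.GrpSchLib.Component
import Groth.Agent.FpqcDesc.Stalk
import Groth.Agent.QFCoverLib.FTDescent
import Groth.Prelude.Def_AlgGrp

/-! Schematically dominant homomorphisms from a group of finite type over a field to an affine group are
faithfully flat, and the target is then of finite type. -/

set_option autoImplicit false
universe u

open CategoryTheory CategoryTheory.Limits MonoidalCategory CartesianMonoidalCategory MonObj AlgebraicGeometry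

namespace Groth.Agent.MonoFibre

/-- If `N` is the kernel of `b`, then `(x, n) ↦ x * n` identifies `G × N` with `G ×_Q G`. -/
theorem isPullback_kernel_translate {S : Scheme.{u}} {N G Q : Over S} [GrpObj G] [GrpObj Q] (a : N ⟶ G) (b : G ⟶ Q)
    [IsMonHom b] (h : AlgGrp.IsKernel a b) :
    IsPullback (fst G N * snd G N ≫ a) (fst G N) b b := by
  have ha : ∀ {T : Over S} (n : T ⟶ N), n ≫ a ≫ b = 1 := fun n => by
    rw [h.w, Hom.one_def, ← Category.assoc, toUnit_unique (n ≫ toUnit N) (toUnit _)]
  have w : (fst G N * snd G N ≫ a) ≫ b = fst G N ≫ b := by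
    rw [MonObj.mul_comp, Category.assoc, ha, _root_.mul_one]
  have key : ∀ c : PullbackCone b b, (c.snd⁻¹ * c.fst) ≫ b = toUnit c.pt ≫ η[Q] := fun c => by
    rw [MonObj.mul_comp, GrpObj.inv_comp, c.condition, inv_mul_cancel, Hom.one_def]
  refine ⟨⟨w⟩, ⟨PullbackCone.IsLimit.mk w (fun c => lift c.snd (h.lift _ (toUnit c.pt) (key c))) ?_ ?_ ?_⟩⟩
  · intro c
    rw [MonObj.comp_mul, lift_fst, ← Category.assoc, lift_snd, h.lift_fst]
    exact mul_inv_cancel_left _ _
  · intro c
    exact lift_fst _ _
  · intro c m hm1 hm2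
    refine CartesianMonoidalCategory.hom_ext _ _ (hm2.trans (lift_fst _ _).symm) ?_
    rw [lift_snd]
    refine h.hom_ext ?_ (toUnit_unique _ _)
    rw [h.lift_fst, ← hm1, ← hm2, MonObj.comp_mul, Category.assoc, inv_mul_cancel_left]

variable {K : Type u} [Field K] {G H : Over (Spec (CommRingCat.of K))} [GrpObj G] [GrpObj H]

theorem flat_pullback_snd_self (f : G ⟶ H) [IsMonHom f] : Flat (pullback.snd f.left f.left) := by
  let N := pullback f η[H]
  have hN : AlgGrp.IsKernel (pullback.fst f η[H]) f := by
    rw [AlgGrp.IsKernel, toUnit_unique (toUnit N) (pullback.snd f η[H])]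
    exact IsPullback.of_hasPullback f η[H]
  have P := (isPullback_kernel_translate (pullback.fst f η[H]) f hN).map (Over.forget _)
  haveI : Flat (fst G N).left :=
    MorphismProperty.of_isPullback (P := @Flat) GrpSchLib.isPullback_fst_snd.flip flat_to_spec_field
  have he : P.isoPullback.inv ≫ (fst G N).left = pullback.snd f.left f.left := P.isoPullback_inv_snd
  rw [← he]
  exact MorphismProperty.comp_mem _ _ _ (inferInstance : Flat P.isoPullback.inv) (inferInstance : Flat (fst G N).left)

theorem injective_appTop_of_flat_surjective {X Y : Scheme.{u}} (p : X ⟶ Y) [Flat p] [Surjective p] :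
    Function.Injective p.appTop.hom := by
  rw [injective_iff_map_eq_zero]
  intro s hs
  apply TopCat.Presheaf.section_ext Y.sheaf ⊤
  intro y _
  obtain ⟨x, rfl⟩ := p.surjective y
  algebraize [(p.stalkMap x).hom]
  haveI : IsLocalHom (algebraMap (Y.presheaf.stalk (p x)) (X.presheaf.stalk x)) :=
    inferInstanceAs (IsLocalHom (p.stalkMap x).hom)
  haveI : Module.Flat (Y.presheaf.stalk (p x)) (X.presheaf.stalk x) := Flat.stalkMap p x
  haveI : Module.FaithfullyFlat (Y.presheaf.stalk (p x)) (X.presheaf.stalk x) :=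
    Module.FaithfullyFlat.of_flat_of_isLocalHom
  apply FaithfulSMul.algebraMap_injective (Y.presheaf.stalk (p x)) (X.presheaf.stalk x)
  have h := Scheme.Hom.germ_stalkMap_apply p ⊤ x trivial s
  have h0 : (p.app ⊤).hom s = 0 := hs
  rw [h0, map_zero] at h
  refine h.trans (Eq.symm ?_)
  exact (congrArg _ (map_zero _)).trans (map_zero _)

theorem flat_surjective_locallyOfFiniteType [LocallyOfFiniteType G.hom] [QuasiCompact G.hom] [IsAffine H.left]
    (f : G ⟶ H) [IsMonHom f] (hdom : f.left.ker = ⊥) :
    Flat f.left ∧ Surjective f.left ∧ LocallyOfFiniteType H.hom := by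
  haveI : CompactSpace G.left := QuasiCompact.compactSpace_of_compactSpace G.hom
  haveI : IsSeparated G.hom := GrpSchLib.isSeparated_hom
  haveI : QuasiCompact (f.left ≫ H.hom) := by rw [Over.w]; infer_instance
  haveI : QuasiCompact f.left := QuasiCompact.of_comp f.left H.hom
  haveI : LocallyOfFiniteType (f.left ≫ H.hom) := by rw [Over.w]; infer_instance
  haveI : LocallyOfFiniteType f.left := locallyOfFiniteType_of_comp f.left H.hom
  have hdense : DenseRange f.left.base := by
    rw [DenseRange, dense_iff_closure_eq, ← Scheme.Hom.support_ker, hdom]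
    simp
  haveI hsurj : Surjective f.left := surjective_of_denseRange f hdense
  let 𝒰 := G.left.affineCover.finiteSubcover
  let U : Scheme.{u} := ∐ 𝒰.X
  let p : U ⟶ G.left := Sigma.desc 𝒰.f
  haveI : ∀ i, IsAffine (𝒰.X i) := fun i => by dsimp [𝒰, Scheme.OpenCover.finiteSubcover]; infer_instance
  haveI : IsAffine U := inferInstance
  haveI : Flat p := inferInstance
  haveI : LocallyOfFiniteType p := by
    have : IsZariskiLocalAtSource (@LocallyOfFiniteType : MorphismProperty Scheme.{u}) := HasRingHomProperty.instIsZariskiLocalAtSource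
    exact IsZariskiLocalAtSource.sigmaDesc fun i => inferInstance
  haveI : Surjective p := ⟨fun x => by
    obtain ⟨i, y, hy⟩ : ∃ i y, (𝒰.f i) y = x := 𝒰.exists_eq x
    refine ⟨Sigma.ι 𝒰.X i y, ?_⟩
    rw [← Scheme.Hom.comp_apply, Sigma.ι_desc]
    exact hy⟩
  let v : U ⟶ H.left := p ≫ f.left
  -- `Γ(H) → Γ(U)` is injective
  have hinj : Function.Injective v.appTop.hom := by
    have h1 : Function.Injective f.left.appTop.hom := by
      rw [RingHom.injective_iff_ker_eq_bot]
      have h2 := congrArg (fun I : H.left.IdealSheafData => I.ideal ⟨⊤, isAffineOpen_top _⟩) hdom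
      simp only [Scheme.Hom.ker_apply, Scheme.IdealSheafData.ideal_bot] at h2
      exact h2
    intro a b hab
    exact h1 (injective_appTop_of_flat_surjective p hab)
  -- `U ×_H U → U` is flat
  have hvv : Flat (pullback.snd v v) := by
    haveI := flat_pullback_snd_self f
    haveI : Flat (pullback.snd f.left v) := by
      rw [← Iso.inv_hom_id_assoc (pullbackLeftPullbackSndIso f.left f.left p) (pullback.snd f.left v),
        pullbackLeftPullbackSndIso_hom_snd]
      infer_instance
    rw [← Iso.inv_hom_id_assoc (pullbackRightPullbackFstIso f.left v p) (pullback.snd v v),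
      pullbackRightPullbackFstIso_hom_snd]
    infer_instance
  let R := Γ(H.left, ⊤)
  let A := Γ(U, ⊤)
  algebraize [v.appTop.hom]
  haveI : LocallyOfFiniteType (U.isoSpec.inv ≫ p ≫ G.hom) := inferInstance
  obtain ⟨φ, hφ⟩ := Spec.map_surjective (U.isoSpec.inv ≫ p ≫ G.hom)
  have hA : φ.hom.FiniteType := by
    rw [← HasRingHomProperty.Spec_iff (P := @LocallyOfFiniteType), hφ]
    infer_instance
  haveI : IsNoetherianRing A := by
    algebraize [φ.hom]
    exact Algebra.FiniteType.isNoetherianRing K A
  have hkey : Flat (pullback.snd (Spec.map v.appTop) (Spec.map v.appTop)) := by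
    have e := IsPullback.of_hasPullback v v
    have e' : IsPullback (pullback.fst v v ≫ U.isoSpec.hom) (pullback.snd v v ≫ U.isoSpec.hom)
        (Spec.map v.appTop) (Spec.map v.appTop) := by
      refine e.of_iso (Iso.refl _) U.isoSpec U.isoSpec H.left.isoSpec (by simp) (by simp) ?_ ?_ <;>
        exact (Scheme.isoSpec_hom_naturality v).symm
    rw [← e'.isoPullback_inv_snd]
    infer_instance
  haveI : Module.Flat A (TensorProduct R A A) := by
    rw [← RingHom.flat_algebraMap_iff, ← CommRingCat.hom_ofHom (algebraMap A (TensorProduct R A A)), ← Flat.SpecMap_iff]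
    have : Spec.map (CommRingCat.ofHom (algebraMap A (TensorProduct R A A))) =
        (pullbackSpecIso R A A).inv ≫ pullback.fst (Spec.map v.appTop) (Spec.map v.appTop) :=
      (pullbackSpecIso_inv_fst R A A).symm
    rw [this, ← pullbackSymmetry_hom_comp_snd]
    exact MorphismProperty.comp_mem _ _ _ (inferInstance : Flat (pullbackSpecIso R A A).inv)
      (MorphismProperty.comp_mem _ _ _ inferInstance hkey)
  haveI : Nonempty U := by
    obtain ⟨x, -⟩ := p.surjective (η[G].left (IsLocalRing.closedPoint K))
    exact ⟨x⟩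
  haveI : Nontrivial A := @Scheme.component_nontrivial U ⊤ ⟨⟨Classical.arbitrary U, trivial⟩⟩
  haveI : Nontrivial R := RingHom.domain_nontrivial v.appTop.hom
  obtain ⟨⟨P, hP⟩⟩ : Nonempty (minimalPrimes R) := Ideal.nonempty_minimalPrimes bot_ne_top
  haveI : P.IsPrime := hP.1.1
  obtain ⟨Q, hQ, hQP⟩ : ∃ Q : Ideal A, Q.IsPrime ∧ Q.comap (algebraMap R A) = P :=
    Ideal.exists_comap_eq_of_mem_minimalPrimes_of_injective hinj P hP
  have hflat := flat_localization_of_minimalPrime (R := R) (A := A) hinj hP Q hQP
  let q : ↥(Spec Γ(U, ⊤)) := (⟨Q, hQ⟩ : PrimeSpectrum A)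
  haveI : (RingHom.toMorphismProperty RingHom.Flat).RespectsIso :=
    RingHom.toMorphismProperty_respectsIso_iff.mp RingHom.Flat.respectsIso
  have hq : ((Spec.map v.appTop).stalkMap q).hom.Flat := by
    refine ((RingHom.toMorphismProperty RingHom.Flat).arrow_mk_iso_iff (Scheme.arrowStalkMapSpecIso v.appTop q)).mpr ?_
    show (Localization.localRingHom (Q.comap (algebraMap R A)) Q (algebraMap R A) rfl).Flat
    let := (Localization.localRingHom (Q.comap (algebraMap R A)) Q (algebraMap R A) rfl).toAlgebra
    haveI : IsScalarTower R (Localization.AtPrime (Q.comap (algebraMap R A))) (Localization.AtPrime Q) :=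
      .of_algebraMap_eq fun r => by
        exact ((Localization.localRingHom_to_map (Q.comap (algebraMap R A)) Q (algebraMap R A) rfl r).trans
          (IsScalarTower.algebraMap_apply R A (Localization.AtPrime Q) r).symm).symm
    exact (Module.flat_iff_of_isLocalization (Localization.AtPrime (Q.comap (algebraMap R A)))
      (Q.comap (algebraMap R A)).primeCompl (M := Localization.AtPrime Q)).mpr hflat
  have hv : (v.stalkMap (U.isoSpec.inv q)).hom.Flat := by
    have h1 : ((Spec.map v.appTop ≫ H.left.isoSpec.inv).stalkMap q).hom.Flat := by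
      rw [Scheme.Hom.stalkMap_comp]
      exact RingHom.Flat.comp (Flat.stalkMap H.left.isoSpec.inv _) hq
    rw [Scheme.isoSpec_inv_naturality v] at h1
    exact (FlatDescStalk.flat_stalkMap_comp_iff U.isoSpec.inv v q (Flat.stalkMap _ _)).mp h1
  have hflatf : Flat f.left :=
    flat_hom_of_flat_at f ⟨p (U.isoSpec.inv q), (FlatDescStalk.flat_stalkMap_comp_iff p f.left _ (Flat.stalkMap _ _)).mp hv⟩
  refine ⟨hflatf, hsurj, ?_⟩
  have hff : v.appTop.hom.FaithfullyFlat :=
    (Flat.flat_and_surjective_iff_faithfullyFlat_of_isAffine v).mp ⟨inferInstance, inferInstance⟩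
  haveI : Module.FaithfullyFlat R A := hff
  haveI : IsNoetherianRing R := by
    rw [isNoetherianRing_iff_ideal_fg]
    intro I
    exact Ideal.FG.of_FG_map_of_faithfullyFlat (S := A) (IsNoetherian.noetherian _)
  obtain ⟨ψ, hψ⟩ := Spec.map_surjective (H.left.isoSpec.inv ≫ H.hom)
  algebraize [ψ.hom, φ.hom]
  have hcomp : ψ ≫ v.appTop = φ := by
    apply Spec.map_injective
    rw [Spec.map_comp, hψ, hφ, ← Category.assoc, Scheme.isoSpec_inv_naturality v, Category.assoc, Category.assoc,
      Over.w]
  haveI : IsScalarTower K R A := .of_algebraMap_eq' (congrArg CommRingCat.Hom.hom hcomp).symm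
  haveI : Algebra.FiniteType R A := Algebra.FiniteType.of_restrictScalars_finiteType K R A
  haveI : Algebra.FinitePresentation R A := Algebra.FinitePresentation.of_finiteType.mp inferInstance
  haveI : Algebra.FiniteType K R := QFCoverLib.finiteType_of_ff (B := A)
  rw [← Iso.hom_inv_id_assoc H.left.isoSpec H.hom, ← hψ]
  haveI : LocallyOfFiniteType (Spec.map ψ) := HasRingHomProperty.Spec_iff.mpr ‹Algebra.FiniteType K R›
  infer_instance

end Groth.Agent.MonoFibre
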