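import Mathlib
import Groth.Agent.MagnetHom.UnitsAff
import Groth.Agent.GrpSchLib.Component

/-! The affinization `Spec Γ(G)` of a quasi-compact group scheme over a field is a group scheme, and
`G ⟶ Spec Γ(G)` is a homomorphism. -/

set_option autoImplicit false
universe u

open CategoryTheory CategoryTheory.Limits MonoidalCategory CartesianMonoidalCategory MonObj AlgebraicGeometry

namespace Groth.Agent.MonoFibre.Affinization

variable {k : Type u} [Field k]


/-- `t` identifies its affine target with the affinization of its source. -/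
structure IsAffz {X X' : (Over (Spec (CommRingCat.of k)))} (t : X ⟶ X') : Prop where
  affine : IsAffine X'.left
  iso : IsIso t.left.appTop

theorem IsAffz.hom_ext {X X' Z : (Over (Spec (CommRingCat.of k)))} {t : X ⟶ X'} (h : IsAffz t) [IsAffine Z.left] {g g' : X' ⟶ Z}
    (e : t ≫ g = t ≫ g') : g = g' := by
  haveI := h.iso
  apply Over.OverMorphism.ext
  apply ext_of_isAffine
  rw [← cancel_mono t.left.appTop, ← Scheme.Hom.comp_appTop, ← Scheme.Hom.comp_appTop, ← Over.comp_left,
    ← Over.comp_left, e]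

theorem IsAffz.exists_lift {X X' Z : (Over (Spec (CommRingCat.of k)))} {t : X ⟶ X'} (h : IsAffz t) [IsAffine Z.left] (f : X ⟶ Z) :
    ∃ g : X' ⟶ Z, t ≫ g = f := by
  haveI := h.iso
  obtain ⟨g, hg⟩ : ∃ g : X'.left ⟶ Z.left, g.appTop = f.left.appTop ≫ inv t.left.appTop := by
    refine ⟨X'.left.toSpecΓ ≫ Spec.map (f.left.appTop ≫ inv t.left.appTop) ≫ Z.left.isoSpec.inv, ?_⟩
    rw [Scheme.Hom.comp_appTop, Scheme.Hom.comp_appTop, MagnetHom.isoSpec_inv_appTop, Scheme.toSpecΓ_appTop,
      Category.assoc, Scheme.ΓSpecIso_naturality]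
    simp
  have h1 : t.left ≫ g = f.left := ext_of_isAffine (by
    rw [Scheme.Hom.comp_appTop, hg, Category.assoc, IsIso.inv_hom_id, Category.comp_id])
  refine ⟨Over.homMk g (ext_of_isAffine ?_), Over.OverMorphism.ext h1⟩
  rw [Scheme.Hom.comp_appTop, hg, ← Category.assoc, ← Scheme.Hom.comp_appTop, Over.w f]
  rw [IsIso.comp_inv_eq, ← Scheme.Hom.comp_appTop, Over.w t]

theorem isAffz_id_unit : IsAffz (𝟙 (𝟙_ (Over (Spec (CommRingCat.of k))))) :=
  ⟨inferInstanceAs (IsAffine (Spec (CommRingCat.of k))), by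
    rw [Over.id_left, Scheme.Hom.id_appTop]; infer_instance⟩

theorem isAffine_tensor (X Y : (Over (Spec (CommRingCat.of k)))) [IsAffine X.left] [IsAffine Y.left] : IsAffine (X ⊗ Y).left :=
  inferInstanceAs (IsAffine (pullback X.hom Y.hom))

theorem isPushout_appTop (X Y : (Over (Spec (CommRingCat.of k)))) [QuasiCompact X.hom] [QuasiSeparated X.hom]
    [QuasiCompact Y.hom] [QuasiSeparated Y.hom] :
    IsPushout X.hom.appTop Y.hom.appTop (fst X Y).left.appTop (snd X Y).left.appTop := by
  have hflat : ∀ (Z : Scheme.{u}) (g : Z ⟶ Spec (CommRingCat.of k)), g.appTop.hom.Flat := fun Z g => by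
    have hf : IsField Γ(Spec (CommRingCat.of k), ⊤) :=
      MulEquiv.isField (Field.toIsField k) (Scheme.ΓSpecIso (CommRingCat.of k)).commRingCatIsoToRingEquiv.toMulEquiv
    let := hf.toField
    algebraize [g.appTop.hom]
    exact RingHom.flat_algebraMap_iff.mpr inferInstance
  haveI : CompactSpace X.left := QuasiCompact.compactSpace_of_compactSpace X.hom
  haveI : CompactSpace Y.left := QuasiCompact.compactSpace_of_compactSpace Y.hom
  have : QuasiSeparatedSpace X.left := quasiSeparatedSpace_of_quasiSeparated X.hom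
  have : QuasiSeparatedSpace Y.left := quasiSeparatedSpace_of_quasiSeparated Y.hom
  have H : IsPullback (fst X Y).left (snd X Y).left X.hom Y.hom := IsPullback.of_hasPullback X.hom Y.hom
  haveI : Subsingleton ↥(Spec (CommRingCat.of k)) := inferInstanceAs (Subsingleton (PrimeSpectrum k))
  haveI : Flat Y.hom := inferInstance
  have hpo := (isIso_pushoutSection_iff (US := ⊤) (UT := ⊤) (UX := ⊤) (UY := ⊤) H (by simp) (by simp)
      (by simp)).mp
    (isIso_pushoutSection_of_isCompact_of_flat_right_of_ringHomFlat H _ _ _ (isAffineOpen_top _)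
      isCompact_univ isQuasiSeparated_univ isCompact_univ isQuasiSeparated_univ
      (by simpa [Scheme.Hom.appLE, Scheme.Hom.appTop] using hflat _ X.hom))
  simpa [Scheme.Hom.appLE, Scheme.Hom.appTop] using hpo

theorem IsAffz.tensor {X X' Y Y' : (Over (Spec (CommRingCat.of k)))} [QuasiCompact X.hom] [QuasiSeparated X.hom] [QuasiCompact Y.hom]
    [QuasiSeparated Y.hom] {t : X ⟶ X'} (ht : IsAffz t) {s : Y ⟶ Y'} (hs : IsAffz s) : IsAffz (t ⊗ₘ s) := by
  haveI := ht.affine; haveI := hs.affine; haveI := ht.iso; haveI := hs.iso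
  refine ⟨isAffine_tensor X' Y', ?_⟩
  have P := isPushout_appTop X Y
  have P' := isPushout_appTop_of_isPullback (IsPullback.of_hasPullback X'.hom Y'.hom)
  have P'' : IsPushout X.hom.appTop Y.hom.appTop (inv t.left.appTop ≫ (pullback.fst X'.hom Y'.hom).appTop)
      (inv s.left.appTop ≫ (pullback.snd X'.hom Y'.hom).appTop) := by
    refine P'.of_iso (Iso.refl _) (asIso t.left.appTop) (asIso s.left.appTop) (Iso.refl _) ?_ ?_ ?_ ?_
    · simp [← Scheme.Hom.comp_appTop]
    · simp [← Scheme.Hom.comp_appTop]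
    · simp
    · simp
  have he : (t ⊗ₘ s).left.appTop = (P''.isoIsPushout _ _ P).hom := by
    apply P''.hom_ext
    · rw [IsPushout.inl_isoIsPushout_hom, Category.assoc, IsIso.inv_comp_eq]
      have h := congrArg (fun f => f.left.appTop) (tensorHom_fst t s)
      simp only [Over.comp_left, Scheme.Hom.comp_appTop] at h
      exact h
    · rw [IsPushout.inr_isoIsPushout_hom, Category.assoc, IsIso.inv_comp_eq]
      have h := congrArg (fun f => f.left.appTop) (tensorHom_snd t s)
      simp only [Over.comp_left, Scheme.Hom.comp_appTop] at h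
      exact h
  rw [he]
  infer_instance

/-- The affinization of a scheme over `k`. -/
noncomputable abbrev aff (X : (Over (Spec (CommRingCat.of k)))) : (Over (Spec (CommRingCat.of k))) :=
  Over.mk (Spec.map X.hom.appTop ≫ (Spec (CommRingCat.of k)).isoSpec.inv)

/-- The canonical morphism to the affinization. -/
noncomputable def toAff (X : (Over (Spec (CommRingCat.of k)))) : X ⟶ aff X :=
  Over.homMk X.left.toSpecΓ (by
    show X.left.toSpecΓ ≫ Spec.map X.hom.appTop ≫ (Spec (CommRingCat.of k)).isoSpec.inv = X.hom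
    rw [← Category.assoc, ← Scheme.toSpecΓ_naturality, Category.assoc]
    exact (congrArg (X.hom ≫ ·) (Spec (CommRingCat.of k)).isoSpec.hom_inv_id).trans (Category.comp_id _))

theorem isAffz_toAff (X : (Over (Spec (CommRingCat.of k)))) [QuasiCompact X.hom] : IsAffz (toAff X) := by
  haveI : CompactSpace X.left := QuasiCompact.compactSpace_of_compactSpace X.hom
  refine ⟨inferInstanceAs (IsAffine (Spec Γ(X.left, ⊤))), ?_⟩
  show IsIso X.left.toSpecΓ.appTop
  rw [Scheme.toSpecΓ_appTop]
  infer_instance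

variable {G G' : (Over (Spec (CommRingCat.of k)))} [GrpObj G] [QuasiCompact G.hom] (t : G ⟶ G') (ht : IsAffz t)

include ht in
/-- The affine target of the affinization map inherits a group structure. -/
theorem exists_grpObj : ∃ h : GrpObj G', letI := h; IsMonHom t := by
  haveI := ht.affine
  haveI : IsSeparated G.hom := GrpSchLib.isSeparated_hom
  haveI : IsAffine (G' ⊗ G').left := isAffine_tensor G' G'
  haveI : QuasiCompact (G ⊗ G).hom := by
    show QuasiCompact (pullback.fst G.hom G.hom ≫ G.hom); infer_instance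
  haveI : IsSeparated (G ⊗ G).hom := by
    show IsSeparated (pullback.fst G.hom G.hom ≫ G.hom); infer_instance
  haveI : QuasiCompact (𝟙_ (Over (Spec (CommRingCat.of k)))).hom := inferInstanceAs (QuasiCompact (𝟙 _))
  haveI : IsSeparated (𝟙_ (Over (Spec (CommRingCat.of k)))).hom := inferInstanceAs (IsSeparated (𝟙 _))
  have h2 : IsAffz (t ⊗ₘ t) := ht.tensor ht
  obtain ⟨m, hm⟩ := h2.exists_lift (μ[G] ≫ t)
  obtain ⟨i, hi⟩ := ht.exists_lift (GrpObj.inv ≫ t)
  have hone : (η[G] ≫ t) ▷ G' ≫ m = (λ_ G').hom := by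
    apply (isAffz_id_unit.tensor ht).hom_ext
    rw [← tensorHom_id, ← Category.assoc, tensorHom_comp_tensorHom, Category.id_comp, Category.comp_id,
      show (η[G] ≫ t) ⊗ₘ t = (η[G] ⊗ₘ 𝟙 G) ≫ (t ⊗ₘ t) by rw [tensorHom_comp_tensorHom, Category.id_comp],
      Category.assoc, hm, tensorHom_id, MonObj.one_mul_assoc, id_tensorHom, leftUnitor_naturality]
  have hone' : G' ◁ (η[G] ≫ t) ≫ m = (ρ_ G').hom := by
    apply (ht.tensor isAffz_id_unit).hom_ext
    rw [← id_tensorHom, ← Category.assoc, tensorHom_comp_tensorHom, Category.id_comp, Category.comp_id,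
      show t ⊗ₘ (η[G] ≫ t) = (𝟙 G ⊗ₘ η[G]) ≫ (t ⊗ₘ t) by rw [tensorHom_comp_tensorHom, Category.id_comp],
      Category.assoc, hm, id_tensorHom, MonObj.mul_one_assoc, tensorHom_id, rightUnitor_naturality]
  have hassoc : m ▷ G' ≫ m = (α_ G' G' G').hom ≫ G' ◁ m ≫ m := by
    apply (h2.tensor ht).hom_ext
    rw [← tensorHom_id, ← id_tensorHom, ← Category.assoc, tensorHom_comp_tensorHom, hm, Category.comp_id,
      ← Category.assoc, associator_naturality, Category.assoc, ← Category.assoc (t ⊗ₘ t ⊗ₘ t),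
      tensorHom_comp_tensorHom, Category.comp_id, hm,
      show (μ[G] ≫ t) ⊗ₘ t = (μ[G] ⊗ₘ 𝟙 G) ≫ (t ⊗ₘ t) by rw [tensorHom_comp_tensorHom, Category.id_comp],
      show t ⊗ₘ (μ[G] ≫ t) = (𝟙 G ⊗ₘ μ[G]) ≫ (t ⊗ₘ t) by rw [tensorHom_comp_tensorHom, Category.id_comp],
      Category.assoc, Category.assoc, hm, tensorHom_id, id_tensorHom, MonObj.mul_assoc_assoc]
  let M : MonObj G' := { one := η[G] ≫ t, mul := m, one_mul := hone, mul_one := hone', mul_assoc := hassoc }
  haveI hM : @IsMonHom _ _ _ G G' _ M t := ⟨rfl, hm.symm⟩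
  have hl : lift i (𝟙 G') ≫ m = toUnit _ ≫ η[G] ≫ t := by
    apply ht.hom_ext
    rw [comp_lift_assoc, Category.comp_id, hi,
      show lift (GrpObj.inv ≫ t) t = lift GrpObj.inv (𝟙 G) ≫ (t ⊗ₘ t) by rw [lift_map, Category.id_comp],
      Category.assoc, hm, GrpObj.left_inv_assoc, toUnit_unique (toUnit G) (t ≫ toUnit G'), Category.assoc]
  have hr : lift (𝟙 G') i ≫ m = toUnit _ ≫ η[G] ≫ t := by
    apply ht.hom_ext
    rw [comp_lift_assoc, Category.comp_id, hi,
      show lift t (GrpObj.inv ≫ t) = lift (𝟙 G) GrpObj.inv ≫ (t ⊗ₘ t) by rw [lift_map, Category.id_comp],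
      Category.assoc, hm, GrpObj.right_inv_assoc, toUnit_unique (toUnit G) (t ≫ toUnit G'), Category.assoc]
  exact ⟨{ toMonObj := M, inv := i, left_inv := hl, right_inv := hr }, hM⟩

end Groth.Agent.MonoFibre.Affinization
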