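import Mathlib
import Groth.Agent.MonoFibre.Affinization
import Groth.Agent.MonoFibre.AffineTarget

/-! The affinization map of a group of finite type over a field is faithfully flat, with target of finite type;
a quasi-affine group of finite type is affine. -/

set_option autoImplicit false
universe u

open CategoryTheory CategoryTheory.Limits MonoidalCategory CartesianMonoidalCategory MonObj AlgebraicGeometry

namespace Groth.Agent.MonoFibre.Affinization

variable {k : Type u} [Field k] (G : Over (Spec (CommRingCat.of k))) [GrpObj G] [LocallyOfFiniteType G.hom]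
  [QuasiCompact G.hom]

theorem toSpecΓ_props :
    Surjective G.left.toSpecΓ ∧ Flat G.left.toSpecΓ ∧
      LocallyOfFiniteType (Spec.map G.hom.appTop ≫ (Spec (CommRingCat.of k)).isoSpec.inv) := by
  haveI : CompactSpace G.left := QuasiCompact.compactSpace_of_compactSpace G.hom
  obtain ⟨h, hh⟩ := exists_grpObj (toAff G) (isAffz_toAff G)
  letI := h
  haveI := hh
  haveI : IsAffine (aff G).left := inferInstanceAs (IsAffine (Spec Γ(G.left, ⊤)))
  obtain ⟨h1, h2, h3⟩ := flat_surjective_locallyOfFiniteType (toAff G) (Scheme.ker_toSpecΓ G.left)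
  exact ⟨h2, h1, h3⟩

theorem isAffine_of_isQuasiAffine [G.left.IsQuasiAffine] : IsAffine G.left := by
  haveI := (toSpecΓ_props G).1
  exact ⟨(isIso_iff_isOpenImmersion_and_epi_base _).2
    ⟨inferInstance, (TopCat.epi_iff_surjective _).2 G.left.toSpecΓ.surjective⟩⟩

end Groth.Agent.MonoFibre.Affinization
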