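import Mathlib

/-! Two morphisms to a scheme of finite type which agree on all infinitesimal neighbourhoods of a point agree
near that point. -/

set_option autoImplicit false
universe u

open CategoryTheory CategoryTheory.Limits AlgebraicGeometry

namespace Groth.Agent.MonoFibre

/-- Agreement modulo all powers of an ideal spreads out to a neighbourhood of its zero locus. -/
theorem exists_notMem_eq_of_forall_pow {B C : Type u} [CommRing B] [CommRing C] [IsNoetherianRing C]
    (S : Finset B) (φ ψ : B →+* C) (K₀ : Subring B) (hK : ∀ b ∈ K₀, φ b = ψ b)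
    (hgen : ∀ R : Subring B, K₀ ≤ R → (↑S : Set B) ⊆ R → R = ⊤)
    (I : Ideal C) (Q : Ideal C) [Q.IsPrime] (hIQ : I ≤ Q)
    (h : ∀ (n : ℕ) (b : B), φ b - ψ b ∈ I ^ n) :
    ∃ d ∉ Q, ∀ {D : Type u} [CommRing D] (θ : C →+* D), IsUnit (θ d) → θ.comp φ = θ.comp ψ := by
  have hb : ∀ b, ∃ d ∉ Q, d * (φ b - ψ b) = 0 := by
    intro b
    obtain ⟨r, hr⟩ := (I.mem_iInf_smul_pow_eq_bot_iff (φ b - ψ b)).mp (by
      simp only [Submodule.mem_iInf]
      intro n
      simpa using h n b)
    refine ⟨1 - (r : C), fun hq => Q.ne_top_iff_one.mp (‹Q.IsPrime›.ne_top) (by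
      have := Q.add_mem hq (hIQ r.2); simpa using this), ?_⟩
    rw [sub_mul, one_mul, ← smul_eq_mul (r : C), hr, sub_self]
  choose d hd hd' using hb
  refine ⟨∏ b ∈ S, d b, fun hQ => ?_, fun {D} _ θ hθ => ?_⟩
  · obtain ⟨b, -, hb⟩ := Ideal.IsPrime.prod_mem_iff.mp hQ
    exact hd b hb
  · have heq : (θ.comp φ).eqLocus (θ.comp ψ) = ⊤ := by
      refine hgen _ (fun b hb => congrArg θ (hK b hb)) fun b hb => ?_
      show θ (φ b) = θ (ψ b)
      rw [map_prod, IsUnit.prod_iff] at hθ
      rw [← sub_eq_zero, ← map_sub, ← (hθ b hb).mul_right_eq_zero, ← map_mul, hd' b, map_zero]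
    exact RingHom.ext fun b => heq.ge (Subring.mem_top b)

end Groth.Agent.MonoFibre
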