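import Mathlib
import Groth.Agent.MonoFibre.SpreadEq
import Groth.Agent.MonoFibre.AffinizationFlat
import Groth.Agent.GrpSchLib.Component
import Groth.Agent.GrpSchLib.Basic
import Groth.Agent.S0252

/-! Anti-affine groups over a field are connected and commutative. -/

set_option autoImplicit false
universe u

open CategoryTheory CategoryTheory.Limits MonoidalCategory CartesianMonoidalCategory MonObj AlgebraicGeometry

namespace Groth.Agent.MonoFibre.AntiAffine

variable {k : Type u} [Field k] {G : Over (Spec (CommRingCat.of k))} [GrpObj G]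

open GrpSchLib

theorem isAffz_toUnit (hO : Function.Bijective ((Scheme.ΓSpecIso (CommRingCat.of k)).inv ≫ G.hom.appTop).hom) :
    Affinization.IsAffz (toUnit G) := by
  refine ⟨inferInstanceAs (IsAffine (Spec (CommRingCat.of k))), ?_⟩
  haveI : IsIso ((Scheme.ΓSpecIso (CommRingCat.of k)).inv ≫ G.hom.appTop) :=
    (ConcreteCategory.isIso_iff_bijective _).mpr hO
  have h : IsIso G.hom.appTop := IsIso.of_isIso_comp_left (Scheme.ΓSpecIso (CommRingCat.of k)).inv _
  exact h

theorem connectedSpace (hO : Function.Bijective ((Scheme.ΓSpecIso (CommRingCat.of k)).inv ≫ G.hom.appTop).hom) :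
    ConnectedSpace G.left := by
  have hf : IsField Γ(G.left, ⊤) :=
    MulEquiv.isField (Field.toIsField k) (RingEquiv.ofBijective _ hO).symm.toMulEquiv
  haveI : Nonempty G.left := ⟨η[G].left (IsLocalRing.closedPoint k)⟩
  haveI : PreconnectedSpace G.left := by
    refine preconnectedSpace_iff_clopen.mpr fun D hD => ?_
    obtain ⟨e, he, heD⟩ := S0252.exists_idem hD
    rw [← heD]
    let := hf.toField
    rcases IsIdempotentElem.iff_eq_zero_or_one.mp he with rfl | rfl
    · exact Or.inl (by rw [Scheme.basicOpen_zero]; exact TopologicalSpace.Opens.coe_bot)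
    · exact Or.inr (by rw [Scheme.basicOpen_of_isUnit _ isUnit_one]; rfl)
  exact ⟨‹Nonempty G.left›⟩

/-- Morphisms to affine schemes from `G × Z`, `Z` affine, factor through `Z`. -/
theorem factor_snd (hO : Function.Bijective ((Scheme.ΓSpecIso (CommRingCat.of k)).inv ≫ G.hom.appTop).hom)
    [QuasiCompact G.hom] {Z V : Over (Spec (CommRingCat.of k))} [IsAffine Z.left] [IsAffine V.left]
    (f : G ⊗ Z ⟶ V) : f = snd G Z ≫ lift (toUnit Z ≫ η[G]) (𝟙 Z) ≫ f := by
  haveI : IsSeparated G.hom := GrpSchLib.isSeparated_hom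
  have hid : Affinization.IsAffz (𝟙 Z) := ⟨inferInstance, by
    rw [Over.id_left, Scheme.Hom.id_appTop]; infer_instance⟩
  obtain ⟨g, hg⟩ := ((isAffz_toUnit hO).tensor hid).exists_lift f
  have h1 : lift (toUnit Z ≫ η[G]) (𝟙 Z) ≫ (toUnit G ⊗ₘ 𝟙 Z) = (λ_ Z).inv := by
    apply CartesianMonoidalCategory.hom_ext
    · exact toUnit_unique _ _
    · simp
  have h2 : (toUnit G ⊗ₘ 𝟙 Z) = snd G Z ≫ (λ_ Z).inv := by
    apply CartesianMonoidalCategory.hom_ext
    · exact toUnit_unique _ _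
    · simp
  rw [← hg, reassoc_of% h1, h2, Category.assoc]

/-- The conjugation map `(g, x) ↦ g * x * g⁻¹`. -/
noncomputable abbrev conjMap (G : Over (Spec (CommRingCat.of k))) [GrpObj G] : G ⊗ G ⟶ G :=
  fst G G * snd G G * (fst G G)⁻¹

theorem lift_conjMap {T : Over (Spec (CommRingCat.of k))} (g x : T ⟶ G) :
    lift g x ≫ conjMap G = g * x * g⁻¹ := by
  simp [MonObj.comp_mul, GrpObj.comp_inv]

variable [LocallyOfFiniteType G.hom] [QuasiCompact G.hom]

/-- Conjugation is trivial modulo every power of the ideal of the unit section. -/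
theorem sub_mem_pow (hO : Function.Bijective ((Scheme.ΓSpecIso (CommRingCat.of k)).inv ≫ G.hom.appTop).hom)
    {B C : CommRingCat.{u}} (jV : Spec B ⟶ G.left) [IsOpenImmersion jV] (jO : Spec C ⟶ (G ⊗ G).left)
    (β : CommRingCat.of k ⟶ B) (hβ : Spec.map β = jV ≫ G.hom)
    (γ' : CommRingCat.of k ⟶ C) (hγ : Spec.map γ' = jO ≫ (G ⊗ G).hom) (c s : B ⟶ C)
    (hcV : jO ≫ (conjMap G).left = Spec.map c ≫ jV) (hsV : jO ≫ (snd G G).left = Spec.map s ≫ jV)
    (hβs : β ≫ s = γ') (ε : B ⟶ CommRingCat.of k) (hεV : Spec.map ε ≫ jV = η[G].left) (n : ℕ) (b : B) :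
    c.hom b - s.hom b ∈ ((RingHom.ker ε.hom).map s.hom) ^ n := by
  let p : Ideal B := RingHom.ker ε.hom
  let I : Ideal C := p.map s.hom
  refine (eq_zero_or_neZero n).elim (fun hn => by simp [hn]) fun hn => ?_
  haveI : (p ^ n).IsTwoSided := ⟨fun b h => Ideal.mul_mem_right b _ h⟩
  haveI : (I ^ n).IsTwoSided := ⟨fun b h => Ideal.mul_mem_right b _ h⟩
  let qB : B ⟶ CommRingCat.of (B ⧸ p ^ n) := CommRingCat.ofHom (Ideal.Quotient.mk _)
  let qC : C ⟶ CommRingCat.of (C ⧸ I ^ n) := CommRingCat.ofHom (Ideal.Quotient.mk _)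
  let θ : CommRingCat.of (B ⧸ p ^ n) ⟶ CommRingCat.of (C ⧸ I ^ n) :=
    CommRingCat.ofHom (Ideal.quotientMap _ s.hom (by
      rw [← Ideal.map_le_iff_le_comap, Ideal.map_pow]))
  have hθ : qB ≫ θ = s ≫ qC := CommRingCat.hom_ext (RingHom.ext fun b => rfl)
  let Z : Over (Spec (CommRingCat.of k)) := Over.mk (Spec.map (β ≫ qB))
  haveI : IsAffine Z.left := inferInstanceAs (IsAffine (Spec _))
  let i : Z ⟶ G := Over.homMk (Spec.map qB ≫ jV) (by
    show (Spec.map qB ≫ jV) ≫ G.hom = Spec.map (β ≫ qB)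
    rw [Category.assoc, ← hβ, Spec.map_comp])
  -- `G × Z → G` lands in `V`
  have hland : ∀ y : (G ⊗ Z).left, (lift (fst G Z) (snd G Z ≫ i) ≫ conjMap G).left y ∈ Set.range jV := by
    intro y
    have hy : (snd G Z ≫ i).left y = unitPt G := by
      rw [Over.comp_left, Scheme.Hom.comp_apply]
      let pt : ↥(Spec (CommRingCat.of k)) := IsLocalRing.closedPoint k
      show jV (Spec.map qB ((snd G Z).left y)) = η[G].left pt
      refine Eq.trans (congrArg jV ?_) ((Scheme.Hom.comp_apply (Spec.map ε) jV pt).symm.trans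
        (congrArg (fun f : Spec (CommRingCat.of k) ⟶ G.left => f pt) hεV))
      obtain ⟨w₀, hw₀⟩ : ∃ w₀ : PrimeSpectrum (B ⧸ p ^ n), w₀ = (snd G Z).left y := ⟨_, rfl⟩
      rw [← hw₀]
      show PrimeSpectrum.comap (Ideal.Quotient.mk (p ^ n)) w₀ =
        PrimeSpectrum.comap ε.hom (IsLocalRing.closedPoint k)
      apply PrimeSpectrum.ext
      show w₀.asIdeal.comap (Ideal.Quotient.mk (p ^ n)) = (IsLocalRing.maximalIdeal k).comap ε.hom
      haveI := w₀.isPrime
      haveI : (w₀.asIdeal.comap (Ideal.Quotient.mk (p ^ n))).IsPrime := Ideal.comap_isPrime _ _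
      have hle : p ≤ w₀.asIdeal.comap (Ideal.Quotient.mk (p ^ n)) := by
        refine (Ideal.IsPrime.pow_le_iff (NeZero.ne n)).mp fun b hb => ?_
        rw [Ideal.mem_comap, Ideal.Quotient.eq_zero_iff_mem.mpr hb]
        exact Ideal.zero_mem _
      rw [show (IsLocalRing.maximalIdeal k).comap ε.hom = p by rw [IsLocalRing.maximalIdeal_eq_bot]; rfl]
      haveI : p.IsMaximal := RingHom.ker_isMaximal_of_surjective ε.hom (fun x => ⟨β.hom x, by
        have : β ≫ ε = 𝟙 _ := by
          apply Spec.map_injective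
          rw [Spec.map_comp, hβ, ← Category.assoc, hεV, Over.w, Spec.map_id]
          rfl
        exact congrArg (fun f => f.hom x) this⟩)
      exact (Ideal.IsMaximal.eq_of_le ‹p.IsMaximal› (Ideal.IsPrime.ne_top inferInstance) hle).symm
    obtain ⟨T', a, t', ht, ha⟩ := exists_eq_one _ y hy
    have : a ≫ lift (fst G Z) (snd G Z ≫ i) ≫ conjMap G = 1 := by
      rw [lift_conjMap]; simp [MonObj.comp_mul, GrpObj.comp_inv, ha]
    rw [← ht, ← Scheme.Hom.comp_apply, ← Over.comp_left, this, one_apply]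
    let pt : ↥(Spec (CommRingCat.of k)) := IsLocalRing.closedPoint k
    exact ⟨Spec.map ε pt, (Scheme.Hom.comp_apply (Spec.map ε) jV pt).symm.trans
      (congrArg (fun f : Spec (CommRingCat.of k) ⟶ G.left => f pt) hεV)⟩
  let Vo : Over (Spec (CommRingCat.of k)) := Over.mk (jV ≫ G.hom)
  haveI : IsAffine Vo.left := inferInstanceAs (IsAffine (Spec B))
  let f : G ⊗ Z ⟶ Vo := Over.homMk
    (IsOpenImmersion.lift jV (lift (fst G Z) (snd G Z ≫ i) ≫ conjMap G).left (by
      rintro _ ⟨y, rfl⟩; exact hland y))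
    (by
      show IsOpenImmersion.lift jV _ _ ≫ jV ≫ G.hom = _
      exact ((Category.assoc _ _ _).symm.trans (congrArg (· ≫ G.hom) (IsOpenImmersion.lift_fac _ _ _))).trans (Over.w _))
  let vι : Vo ⟶ G := Over.homMk jV rfl
  have hfv : f ≫ vι = lift (fst G Z) (snd G Z ≫ i) ≫ conjMap G :=
    Over.OverMorphism.ext (IsOpenImmersion.lift_fac _ _ _)
  have hconj : lift (fst G Z) (snd G Z ≫ i) ≫ conjMap G = snd G Z ≫ i := by
    rw [← hfv, factor_snd hO f, Category.assoc, Category.assoc, hfv, comp_lift_assoc, comp_lift_assoc,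
      lift_fst, lift_snd_assoc, lift_conjMap, ← Hom.one_def, MonObj.comp_one, _root_.one_mul, inv_one,
      _root_.mul_one, Category.comp_id]
  -- the point with values in `C / I ^ n`
  let T : Over (Spec (CommRingCat.of k)) := Over.mk (Spec.map (γ' ≫ qC))
  let w : T ⟶ G ⊗ G := Over.homMk (Spec.map qC ≫ jO) (by
    show (Spec.map qC ≫ jO) ≫ (G ⊗ G).hom = Spec.map (γ' ≫ qC)
    rw [Category.assoc, ← hγ, Spec.map_comp])
  let w' : T ⟶ Z := Over.homMk (Spec.map θ) (by
    show Spec.map θ ≫ Spec.map (β ≫ qB) = Spec.map (γ' ≫ qC)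
    rw [← Spec.map_comp, Category.assoc, hθ, reassoc_of% hβs])
  have hw' : w' ≫ i = w ≫ snd G G := by
    apply Over.OverMorphism.ext
    show Spec.map θ ≫ Spec.map qB ≫ jV = (Spec.map qC ≫ jO) ≫ (snd G G).left
    rw [Category.assoc, hsV, ← Category.assoc, ← Spec.map_comp, hθ, Spec.map_comp, Category.assoc]
  have h3 := congrArg (fun f => lift (w ≫ fst G G) w' ≫ f) hconj
  simp only [comp_lift_assoc, lift_fst, lift_snd_assoc, hw'] at h3
  simp only [lift_comp_fst_snd] at h3
  have h4 := congrArg CommaMorphism.left h3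
  change (Spec.map qC ≫ jO) ≫ (conjMap G).left = (Spec.map qC ≫ jO) ≫ (snd G G).left at h4
  rw [Category.assoc, Category.assoc, hcV, hsV, ← Category.assoc, ← Category.assoc, ← Spec.map_comp,
    ← Spec.map_comp] at h4
  have h5 := Spec.map_injective ((cancel_mono jV).mp h4)
  exact Ideal.Quotient.eq.mp (congrArg (fun f => f.hom b) h5)

/-- Conjugation is trivial near `G × {e}`. -/
theorem exists_nhd (hO : Function.Bijective ((Scheme.ΓSpecIso (CommRingCat.of k)).inv ≫ G.hom.appTop).hom)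
    (z : (G ⊗ G).left) (hz : (snd G G).left z = unitPt G) :
    ∃ W : (G ⊗ G).left.Opens, z ∈ W ∧ W.ι ≫ (conjMap G).left = W.ι ≫ (snd G G).left := by
  obtain ⟨_, ⟨V : G.left.Opens, hV, rfl⟩, heV, -⟩ :=
    G.left.isBasis_affineOpens.exists_subset_of_mem_open (Set.mem_univ (unitPt G)) isOpen_univ
  have hcz : (conjMap G).left z = unitPt G := by
    obtain ⟨T', a, t', ht, ha⟩ := exists_eq_one (snd G G) z hz
    rw [← ht, ← Scheme.Hom.comp_apply, ← Over.comp_left]
    have : a ≫ conjMap G = 1 := by simp [MonObj.comp_mul, GrpObj.comp_inv, ha]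
    rw [this, one_apply]
  obtain ⟨_, ⟨O : (G ⊗ G).left.Opens, hO', rfl⟩, hzO, hOsub⟩ :=
    (G ⊗ G).left.isBasis_affineOpens.exists_subset_of_mem_open
      (show z ∈ ((conjMap G).left ⁻¹ᵁ V ⊓ (snd G G).left ⁻¹ᵁ V : (G ⊗ G).left.Opens) from
        ⟨by show _ ∈ V; rw [hcz]; exact heV, by show _ ∈ V; rw [hz]; exact heV⟩)
      ((conjMap G).left ⁻¹ᵁ V ⊓ (snd G G).left ⁻¹ᵁ V).2
  haveI : IsAffine (V : Scheme) := hV
  haveI : IsAffine (O : Scheme) := hO'
  let c : (O : Scheme) ⟶ (V : Scheme) := IsOpenImmersion.lift V.ι (O.ι ≫ (conjMap G).left) (by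
    rw [Scheme.Opens.range_ι]; rintro _ ⟨y, rfl⟩; exact (hOsub y.2).1)
  let s : (O : Scheme) ⟶ (V : Scheme) := IsOpenImmersion.lift V.ι (O.ι ≫ (snd G G).left) (by
    rw [Scheme.Opens.range_ι]; rintro _ ⟨y, rfl⟩; exact (hOsub y.2).2)
  let B : CommRingCat.{u} := Γ(V, ⊤)
  let C : CommRingCat.{u} := Γ(O, ⊤)
  let jV : Spec B ⟶ G.left := (V : Scheme).isoSpec.inv ≫ V.ι
  let jO : Spec C ⟶ (G ⊗ G).left := (O : Scheme).isoSpec.inv ≫ O.ι
  have hcV : jO ≫ (conjMap G).left = Spec.map c.appTop ≫ jV := by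
    simp only [jO, jV]
    rw [← Category.assoc (Spec.map c.appTop), Scheme.isoSpec_inv_naturality c, Category.assoc, Category.assoc,
      IsOpenImmersion.lift_fac]
  have hsV : jO ≫ (snd G G).left = Spec.map s.appTop ≫ jV := by
    simp only [jO, jV]
    rw [← Category.assoc (Spec.map s.appTop), Scheme.isoSpec_inv_naturality s, Category.assoc, Category.assoc,
      IsOpenImmersion.lift_fac]
  -- finitely many generators of `B` over `k`
  haveI : LocallyOfFiniteType (jV ≫ G.hom) := inferInstance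
  obtain ⟨β, hβ⟩ := Spec.map_surjective (jV ≫ G.hom)
  have hBft : β.hom.FiniteType := by
    rw [← HasRingHomProperty.Spec_iff (P := @LocallyOfFiniteType), hβ]; infer_instance
  haveI : LocallyOfFiniteType (G ⊗ G).hom := by
    show LocallyOfFiniteType (pullback.fst G.hom G.hom ≫ G.hom); infer_instance
  haveI : LocallyOfFiniteType (jO ≫ (G ⊗ G).hom) := inferInstance
  obtain ⟨γ', hγ⟩ := Spec.map_surjective (jO ≫ (G ⊗ G).hom)
  have hCft : γ'.hom.FiniteType := by
    rw [← HasRingHomProperty.Spec_iff (P := @LocallyOfFiniteType), hγ]; infer_instance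
  haveI : IsNoetherianRing C := by
    algebraize [γ'.hom]
    exact Algebra.FiniteType.isNoetherianRing k C
  have hβc : β ≫ c.appTop = γ' := by
    apply Spec.map_injective
    rw [Spec.map_comp, hβ, hγ, ← Category.assoc, ← hcV, Category.assoc, Over.w]
  have hβs : β ≫ s.appTop = γ' := by
    apply Spec.map_injective
    rw [Spec.map_comp, hβ, hγ, ← Category.assoc, ← hsV, Category.assoc, Over.w]
  algebraize [β.hom]
  obtain ⟨S, hS⟩ := ‹Algebra.FiniteType k B›.out
  let ε₀ : (Spec (CommRingCat.of k)) ⟶ (V : Scheme) := IsOpenImmersion.lift V.ι η[G].left (by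
    rw [Scheme.Opens.range_ι]
    rintro _ ⟨y, rfl⟩
    rw [Subsingleton.elim (α := PrimeSpectrum k) y (IsLocalRing.closedPoint k)]
    exact heV)
  obtain ⟨ε, hε⟩ := Spec.map_surjective (ε₀ ≫ (V : Scheme).isoSpec.hom)
  have hεV : Spec.map ε ≫ jV = η[G].left := by
    simp only [hε, jV, Category.assoc, Iso.hom_inv_id_assoc, ε₀]
    exact IsOpenImmersion.lift_fac _ _ _
  let p : Ideal B := RingHom.ker ε.hom
  let zO : ↥(Spec C) := (O : Scheme).isoSpec.hom (⟨z, hzO⟩ : ↥(O : Scheme))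
  let I : Ideal C := p.map s.appTop.hom
  have hzO' : jO zO = z := by
    show ((O : Scheme).isoSpec.hom ≫ (O : Scheme).isoSpec.inv ≫ O.ι) (⟨z, hzO⟩ : ↥(O : Scheme)) = z
    rw [Iso.hom_inv_id_assoc]
    rfl
  haveI : IsOpenImmersion jV := IsOpenImmersion.comp (V : Scheme).isoSpec.inv V.ι
  haveI hzP : zO.asIdeal.IsPrime := PrimeSpectrum.isPrime zO
  have hIQ : I ≤ zO.asIdeal := by
    rw [Ideal.map_le_iff_le_comap]
    have h1 : jV (Spec.map s.appTop zO) = jV (Spec.map ε (IsLocalRing.closedPoint k)) := by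
      refine (Scheme.Hom.comp_apply (Spec.map s.appTop) jV zO).symm.trans (Eq.trans ?_
        (Scheme.Hom.comp_apply (Spec.map ε) jV (IsLocalRing.closedPoint k : PrimeSpectrum k)))
      rw [← hsV, hεV, Scheme.Hom.comp_apply, hzO', hz]
    have h2 := congrArg PrimeSpectrum.asIdeal (jV.isOpenEmbedding.injective h1)
    change zO.asIdeal.comap s.appTop.hom = (IsLocalRing.closedPoint k).asIdeal.comap ε.hom at h2
    rw [h2]
    intro b hb
    rw [Ideal.mem_comap, show ε.hom b = 0 from hb]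
    exact Ideal.zero_mem _
  have key := sub_mem_pow hO jV jO β hβ γ' hγ c.appTop s.appTop hcV hsV hβs ε hεV
  obtain ⟨d, hd, hdD⟩ := exists_notMem_eq_of_forall_pow S c.appTop.hom s.appTop.hom (algebraMap k B).range
    (by
      rintro _ ⟨x, rfl⟩
      show (β ≫ c.appTop).hom x = (β ≫ s.appTop).hom x
      rw [hβc, hβs])
    (fun R hR hS' => by
      let R' : Subalgebra k B := { R.toSubsemiring with algebraMap_mem' := fun x => hR ⟨x, rfl⟩ }
      have : Algebra.adjoin k (↑S : Set B) ≤ R' := Algebra.adjoin_le hS'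
      rw [hS] at this
      exact eq_top_iff.mpr fun b _ => this Algebra.mem_top)
    I zO.asIdeal hIQ key
  let jd : Spec (CommRingCat.of (Localization.Away d)) ⟶ (G ⊗ G).left :=
    Spec.map (CommRingCat.ofHom (algebraMap C (Localization.Away d))) ≫ jO
  haveI : IsOpenImmersion (Spec.map (CommRingCat.ofHom (algebraMap C (Localization.Away d)))) :=
    IsOpenImmersion.of_isLocalization d
  refine ⟨jd.opensRange, ?_, ?_⟩
  · obtain ⟨y, hy⟩ : zO ∈ Set.range (Spec.map (CommRingCat.ofHom (algebraMap C (Localization.Away d)))) := by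
      show zO ∈ Set.range (PrimeSpectrum.comap (algebraMap C (Localization.Away d)))
      rw [PrimeSpectrum.localization_away_comap_range (Localization.Away d) d]
      exact hd
    exact ⟨y, by rw [Scheme.Hom.comp_apply, hy, hzO']⟩
  · rw [← cancel_epi jd.isoOpensRange.hom, ← Category.assoc, ← Category.assoc, Scheme.Hom.isoOpensRange_hom_ι]
    simp only [jd, Category.assoc]
    rw [hcV, hsV, ← Spec.map_comp_assoc, ← Spec.map_comp_assoc]
    congr 2
    exact CommRingCat.hom_ext (hdD (algebraMap C (Localization.Away d))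
      (IsLocalization.Away.algebraMap_isUnit d))

omit [GrpObj G] [LocallyOfFiniteType G.hom] [QuasiCompact G.hom] in
theorem app_comp {X Y Z : Over (Spec (CommRingCat.of k))} (a : X ⟶ Y) (b : Y ⟶ Z) (x : X.left) :
    (a ≫ b).left x = b.left (a.left x) := rfl

omit [GrpObj G] [LocallyOfFiniteType G.hom] [QuasiCompact G.hom] in
theorem id_apply {X : Over (Spec (CommRingCat.of k))} (x : X.left) : (𝟙 X : X ⟶ X).left x = x := rfl

omit [GrpObj G] [LocallyOfFiniteType G.hom] [QuasiCompact G.hom] in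
theorem mem_pre {X Y : Scheme.{u}} {f : X ⟶ Y} {U : Y.Opens} {x : X} : x ∈ f ⁻¹ᵁ U ↔ f x ∈ U := Iff.rfl

omit [LocallyOfFiniteType G.hom] [QuasiCompact G.hom] in
theorem flat_whiskerLeft_mul : Flat (G ◁ μ[G]).left := by
  let m : G ⊗ (G ⊗ G) ⟶ G ⊗ G := G ◁ μ[G]
  haveI : Flat μ[G].left := by
    rw [GrpSchLib.mul_eq_shear, Over.comp_left]
    haveI : IsIso (GrpSchLib.shear (𝟙 G)).hom.left := ((Over.forget _).mapIso (GrpSchLib.shear (𝟙 G))).isIso_hom
    haveI := GrpSchLib.flat_snd (G := G) (T := G) flat_to_spec_field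
    infer_instance
  have hsq : IsPullback m.left (snd G (G ⊗ G)).left (snd G G).left μ[G].left := by
    refine IsPullback.of_right (h₁₂ := (fst G G).left) (h₂₂ := G.hom) ?_ ?_ GrpSchLib.isPullback_fst_snd
    · rw [← Over.comp_left, Over.w, whiskerLeft_fst]
      exact GrpSchLib.isPullback_fst_snd
    · rw [← Over.comp_left, ← Over.comp_left, whiskerLeft_snd]
  haveI : Flat m.left := MorphismProperty.of_isPullback (P := @Flat) hsq.flip ‹Flat μ[G].left›
  exact ‹Flat m.left›

omit [LocallyOfFiniteType G.hom] [QuasiCompact G.hom] in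
theorem irreducibleSpace_tensor [ConnectedSpace G.left] (T : Over (Spec (CommRingCat.of k)))
    [IrreducibleSpace T.left] : IrreducibleSpace (G ⊗ T).left := by
  haveI : IrreducibleSpace G.left := irreducibleSpace_of_connectedSpace
  have hs : Function.Surjective (idIncl G ▷ T).left := by
    haveI : Surjective (idIncl G).left := ⟨Set.range_eq_univ.mp (by
      rw [range_idIncl]
      exact (eq_irreducibleComponent (x := unitPt G) ((irreducibleComponents_eq_singleton (X := G.left)).ge rfl)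
        trivial).symm)⟩
    have hsq : IsPullback (fst (idObj G) T).left (idIncl G ▷ T).left (idIncl G).left (fst G T).left := by
      refine IsPullback.of_bot (v₂₁ := (snd G T).left) (v₂₂ := G.hom) (h₃₁ := T.hom) ?_ ?_
        GrpSchLib.isPullback_fst_snd
      · rw [← Over.comp_left, whiskerRight_snd, Over.w]
        exact GrpSchLib.isPullback_fst_snd
      · rw [← Over.comp_left, ← Over.comp_left, whiskerRight_fst]
    exact (MorphismProperty.of_isPullback (P := @Surjective) hsq ‹Surjective (idIncl G).left›).surj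
  haveI := irreducibleSpace_idObj_tensor (G := G) T
  exact irreducibleSpace_def _ |>.mpr (by
    rw [Set.top_eq_univ, ← hs.range_eq, ← Set.image_univ]
    exact ((irreducibleSpace_def _).mp this).image _ (idIncl G ▷ T).left.continuous.continuousOn)

theorem exists_point_over_pt [ConnectedSpace G.left] (U : (G ⊗ G).left.Opens)
    (hUe : ∀ z : (G ⊗ G).left, (snd G G).left z = unitPt G → z ∈ U)
    {T : Over (Spec (CommRingCat.of k))} [IrreducibleSpace T.left] (pt : T.left) (w : T ⟶ G ⊗ G) :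
    ∃ x : (G ⊗ (G ⊗ G)).left, (G ◁ fst G G).left x ∈ U ∧ (G ◁ snd G G).left x ∈ U ∧
      (G ◁ μ[G]).left x ∈ Set.range w.left := by
  let P : Over (Spec (CommRingCat.of k)) := G ⊗ (G ⊗ G)
  let l₁ : P ⟶ G ⊗ G := G ◁ fst G G
  let l₂ : P ⟶ G ⊗ G := G ◁ snd G G
  let m : P ⟶ G ⊗ G := G ◁ μ[G]
  let g : T ⟶ G := w ≫ fst G G
  let y : T ⟶ G := w ≫ snd G G
  let E : G ⊗ T ⟶ G ⊗ G := lift (snd G T ≫ g) (fst G T)
  haveI : IrreducibleSpace (G ⊗ T).left := irreducibleSpace_tensor T
  let U₁ : (G ⊗ T).left.Opens := E.left ⁻¹ᵁ U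
  let τ : G ⊗ T ⟶ G ⊗ T := lift ((fst G T)⁻¹ * snd G T ≫ y) (snd G T)
  let U₂ : (G ⊗ T).left.Opens := τ.left ⁻¹ᵁ U₁
  have hne₁ : (U₁ : Set (G ⊗ T).left).Nonempty := by
    refine ⟨(lift (1 : T ⟶ G) (𝟙 T)).left pt, mem_pre.mpr ?_⟩
    rw [← app_comp]
    have : (lift (1 : T ⟶ G) (𝟙 T) ≫ E ≫ snd G G).left pt = unitPt G := by
      simp only [E, lift_snd, lift_fst, one_apply]
    rw [← Category.assoc, app_comp] at this
    exact hUe _ this
  have hne₂ : (U₂ : Set (G ⊗ T).left).Nonempty := by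
    obtain ⟨r, hr⟩ := hne₁
    have hτ : τ ≫ lift (snd G T ≫ y * (fst G T)⁻¹) (snd G T) = 𝟙 _ := by
      apply CartesianMonoidalCategory.hom_ext <;> simp [τ, MonObj.comp_mul, GrpObj.comp_inv]
    have hτ' : lift (snd G T ≫ y * (fst G T)⁻¹) (snd G T) ≫ τ = 𝟙 _ := by
      apply CartesianMonoidalCategory.hom_ext <;> simp [τ, MonObj.comp_mul, GrpObj.comp_inv]
    refine ⟨(lift (snd G T ≫ y * (fst G T)⁻¹) (snd G T)).left r, mem_pre.mpr ?_⟩
    rw [← app_comp, hτ', id_apply]
    exact hr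
  obtain ⟨r, hr₁, hr₂⟩ := nonempty_preirreducible_inter U₁.2 U₂.2 hne₁ hne₂
  let ρ : G ⊗ T ⟶ P := lift (snd G T ≫ g) (lift (fst G T) ((fst G T)⁻¹ * snd G T ≫ y))
  have hρ₁ : ρ ≫ l₁ = E := by
    apply CartesianMonoidalCategory.hom_ext <;> simp [ρ, l₁, E]
  have hρ₂ : ρ ≫ l₂ = τ ≫ E := by
    apply CartesianMonoidalCategory.hom_ext <;> simp [ρ, l₂, E, τ]
  have hρm : ρ ≫ m = snd G T ≫ w := by
    apply CartesianMonoidalCategory.hom_ext
    · simp [ρ, m, g]
    · simp only [ρ, m, Category.assoc, whiskerLeft_snd, lift_snd_assoc]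
      rw [← Hom.mul_def, mul_inv_cancel_left]
  have hP : l₁.left (ρ.left r) ∈ U ∧ l₂.left (ρ.left r) ∈ U := by
    refine ⟨?_, ?_⟩
    · rw [← app_comp, hρ₁]; exact mem_pre.mp hr₁
    · rw [← app_comp, hρ₂, app_comp]; exact mem_pre.mp (mem_pre.mp hr₂)
  refine ⟨ρ.left r, hP.1, hP.2, ?_⟩
  refine ⟨(snd G T).left r, ?_⟩
  rw [← app_comp, ← app_comp]
  exact (congrArg (fun f : G ⊗ T ⟶ G ⊗ G => f.left r) hρm).symm

theorem exists_point_over [ConnectedSpace G.left] (U : (G ⊗ G).left.Opens)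
    (hUe : ∀ z : (G ⊗ G).left, (snd G G).left z = unitPt G → z ∈ U) (q : (G ⊗ G).left) :
    ∃ x : (G ⊗ (G ⊗ G)).left, (G ◁ fst G G).left x ∈ U ∧ (G ◁ snd G G).left x ∈ U ∧ (G ◁ μ[G]).left x = q := by
  obtain ⟨pt⟩ : Nonempty (ptObj q).left := inferInstance
  obtain ⟨x, h1, h2, t, ht⟩ := exists_point_over_pt U hUe (T := ptObj q) pt (ptHom q)
  exact ⟨x, h1, h2, ht.symm.trans (ptHom_apply q t)⟩

omit [LocallyOfFiniteType G.hom] [QuasiCompact G.hom] in
theorem conj_mul {T : Over (Spec (CommRingCat.of k))} (g a b : T ⟶ G) (ha : g * a * g⁻¹ = a)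
    (hb : g * b * g⁻¹ = b) : g * (a * b) * g⁻¹ = a * b := by
  conv_rhs => rw [← ha, ← hb]
  group

theorem exists_open_eq (hO : Function.Bijective ((Scheme.ΓSpecIso (CommRingCat.of k)).inv ≫ G.hom.appTop).hom) :
    ∃ U : (G ⊗ G).left.Opens, (∀ z : (G ⊗ G).left, (snd G G).left z = unitPt G → z ∈ U) ∧
      U.ι ≫ (conjMap G).left = U.ι ≫ (snd G G).left := by
  choose W hW hWeq using fun z : {z : (G ⊗ G).left // (snd G G).left z = unitPt G} => exists_nhd hO z.1 z.2
  refine ⟨⨆ z, W z, fun z hz => TopologicalSpace.Opens.mem_iSup.mpr ⟨⟨z, hz⟩, hW ⟨z, hz⟩⟩, ?_⟩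
  refine (Scheme.Opens.iSupOpenCover W).hom_ext _ _ fun z => ?_
  show Scheme.homOfLE _ (le_iSup W z) ≫ _ = Scheme.homOfLE _ (le_iSup W z) ≫ _
  rw [← Category.assoc, ← Category.assoc, Scheme.homOfLE_ι]
  exact hWeq z

omit [LocallyOfFiniteType G.hom] [QuasiCompact G.hom] in
theorem eq_on_mul (U : (G ⊗ G).left.Opens) (hU : U.ι ≫ (conjMap G).left = U.ι ≫ (snd G G).left)
    {T : Over (Spec (CommRingCat.of k))} (g a b : T ⟶ G) (ha : ∀ t : T.left, (lift g a).left t ∈ U)
    (hb : ∀ t : T.left, (lift g b).left t ∈ U) : lift g (a * b) ≫ conjMap G = lift g (a * b) ≫ snd G G := by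
  have hfac : ∀ (c : T ⟶ G ⊗ G), (∀ t : T.left, c.left t ∈ U) → c ≫ conjMap G = c ≫ snd G G := by
    intro c hc
    apply Over.OverMorphism.ext
    rw [Over.comp_left, Over.comp_left, ← IsOpenImmersion.lift_fac U.ι c.left (by
      rw [Scheme.Opens.range_ι]; rintro _ ⟨t, rfl⟩; exact hc t), Category.assoc, Category.assoc, hU]
  have e1 := hfac _ ha
  have e2 := hfac _ hb
  rw [lift_conjMap, lift_snd] at e1 e2 ⊢
  exact conj_mul g a b e1 e2

/-- Anti-affine groups of finite type over a field are commutative. -/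
theorem isCommMonObj (hO : Function.Bijective ((Scheme.ΓSpecIso (CommRingCat.of k)).inv ≫ G.hom.appTop).hom) :
    IsCommMonObj G := by
  haveI := connectedSpace hO
  obtain ⟨U, hUe, hU⟩ := exists_open_eq hO
  let P : Over (Spec (CommRingCat.of k)) := G ⊗ (G ⊗ G)
  let Po : P.left.Opens := (G ◁ fst G G).left ⁻¹ᵁ U ⊓ (G ◁ snd G G).left ⁻¹ᵁ U
  let j : Over.mk (Po.ι ≫ P.hom) ⟶ P := Over.homMk Po.ι rfl
  let m : P ⟶ G ⊗ G := G ◁ μ[G]
  let g := j ≫ fst G (G ⊗ G)
  let a := j ≫ snd G (G ⊗ G) ≫ fst G G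
  let b := j ≫ snd G (G ⊗ G) ≫ snd G G
  have hla : lift g a = j ≫ G ◁ fst G G := by apply CartesianMonoidalCategory.hom_ext <;> simp [g, a]
  have hlb : lift g b = j ≫ G ◁ snd G G := by apply CartesianMonoidalCategory.hom_ext <;> simp [g, b]
  have hlm : lift g (a * b) = j ≫ m := by
    apply CartesianMonoidalCategory.hom_ext
    · simp [g, m]
    · rw [lift_snd, Category.assoc, whiskerLeft_snd, Hom.mul_def, ← Category.assoc]
      congr 1
      apply CartesianMonoidalCategory.hom_ext <;> simp [a, b]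
  have heq : (j ≫ m) ≫ conjMap G = (j ≫ m) ≫ snd G G := by
    rw [← hlm]
    exact eq_on_mul U hU g a b (fun t => by rw [hla]; exact t.2.1) (fun t => by rw [hlb]; exact t.2.2)
  haveI : Flat (j ≫ m).left := by
    haveI : Flat m.left := flat_whiskerLeft_mul
    rw [Over.comp_left]
    show Flat (Po.ι ≫ m.left)
    infer_instance
  haveI : Surjective (j ≫ m).left := by
    refine ⟨fun q => ?_⟩
    obtain ⟨x, h1, h2, hx⟩ := exists_point_over U hUe q
    exact ⟨⟨x, h1, h2⟩, hx⟩
  haveI := Flat.epi_of_flat_of_surjective (j ≫ m).left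
  have h : conjMap G = snd G G := Over.OverMorphism.ext ((cancel_epi (j ≫ m).left).mp (by
    rw [← Over.comp_left, ← Over.comp_left, heq]))
  refine ⟨?_⟩
  have h' : fst G G * snd G G = snd G G * fst G G := by
    rw [← mul_inv_eq_iff_eq_mul]; exact h
  have hμ : μ[G] = fst G G * snd G G := by rw [Hom.mul_def, lift_fst_snd, Category.id_comp]
  rw [hμ, MonObj.comp_mul]
  simp [h']

end Groth.Agent.MonoFibre.AntiAffine
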