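import Mathlib

/-! Intersections of powers of an ideal in a tensor product over a field. -/

set_option autoImplicit false
universe u

open TensorProduct

namespace Groth.Agent.MonoFibre.TensorSlice

variable {k A B : Type u} [Field k] [CommRing A] [Algebra k A] [CommRing B] [Algebra k B]

theorem equivFinsupp_map {C : Type u} [CommRing C] [Algebra k C] {ι : Type u} [DecidableEq ι] (𝒜 : Module.Basis ι k A)
    (g : B →ₐ[k] C) (z : A ⊗[k] B) (i : ι) :
    TensorProduct.equivFinsuppOfBasisLeft 𝒜 (Algebra.TensorProduct.map (AlgHom.id k A) g z) i =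
      g (TensorProduct.equivFinsuppOfBasisLeft 𝒜 z i) := by
  induction z using TensorProduct.induction_on with
  | zero => simp
  | tmul a b => simp [TensorProduct.equivFinsuppOfBasisLeft_apply_tmul_apply]
  | add x y hx hy => simp [hx, hy]

/-- A localization killing the intersection of the powers of a prime ideal. -/
theorem exists_notMem_kills [IsNoetherianRing B] (p : Ideal B) [p.IsPrime] :
    ∃ s ∉ p, ∀ b : B, (∀ n : ℕ, b ∈ p ^ n) → s * b = 0 := by
  let N : Ideal B := ⨅ n : ℕ, p ^ n
  have hN : ∀ b ∈ N, ∃ d ∉ p, d * b = 0 := fun b hb => by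
    obtain ⟨r, hr⟩ := (p.mem_iInf_smul_pow_eq_bot_iff b).mp (by
      simp only [Submodule.mem_iInf]; intro n; simpa using (Submodule.mem_iInf _).mp hb n)
    refine ⟨1 - (r : B), fun hq => (Ideal.IsPrime.ne_top ‹_›) (p.eq_top_iff_one.mpr (by
      simpa using p.add_mem hq r.2)), ?_⟩
    rw [sub_mul, one_mul, ← smul_eq_mul (r : B), hr, sub_self]
  obtain ⟨S, hS⟩ := (IsNoetherian.noetherian N)
  choose d hd hd' using fun b : S => hN b.1 (hS.le (Submodule.subset_span b.2))
  refine ⟨∏ b, d b, fun h => ?_, fun b hb => ?_⟩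
  · obtain ⟨c, -, hc⟩ := Ideal.IsPrime.prod_mem_iff.mp h
    exact hd c hc
  · have hb' : b ∈ N := (Submodule.mem_iInf _).mpr hb
    have hle : N ≤ LinearMap.ker (LinearMap.mulLeft B (∏ c, d c)) := by
      rw [← hS, Submodule.span_le]
      intro c hc
      show (∏ e, d e) * c = 0
      obtain ⟨e, he⟩ := Finset.dvd_prod_of_mem d (Finset.mem_univ (⟨c, hc⟩ : S))
      rw [he, mul_right_comm, hd' ⟨c, hc⟩, zero_mul]
    exact hle hb'

/-- An element of `A ⊗ B` vanishing modulo all powers of `p` vanishes on a fixed neighbourhood of `p`. -/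
theorem exists_notMem_map_eq_zero [IsNoetherianRing B] (p : Ideal B) [p.IsPrime] :
    ∃ s ∉ p, ∀ (C : Type u) [CommRing C] [Algebra k C] (A : Type u) [CommRing A] [Algebra k A] (g : B →ₐ[k] C),
      IsUnit (g s) → ∀ z : A ⊗[k] B,
      (∀ n : ℕ, Algebra.TensorProduct.map (AlgHom.id k A) (Ideal.Quotient.mkₐ k (p ^ n)) z = 0) →
      Algebra.TensorProduct.map (AlgHom.id k A) g z = 0 := by
  classical
  obtain ⟨s, hs, hkill⟩ := exists_notMem_kills p
  refine ⟨s, hs, fun C _ _ A _ _ g hg z hz => ?_⟩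
  let 𝒜 := Module.Free.chooseBasis k A
  apply (TensorProduct.equivFinsuppOfBasisLeft 𝒜).injective
  ext i
  rw [equivFinsupp_map, map_zero, Finsupp.zero_apply]
  apply hg.mul_right_eq_zero.mp
  rw [← map_mul, hkill _ fun n => ?_, map_zero]
  rw [← Ideal.Quotient.eq_zero_iff_mem, ← Ideal.Quotient.mkₐ_eq_mk k, ← equivFinsupp_map, hz n, map_zero,
    Finsupp.zero_apply]

/-- `A ⊗ B → A ⊗ C` is injective when `B → C` is. -/
theorem map_injective {C : Type u} [CommRing C] [Algebra k C] (g : B →ₐ[k] C) (hg : Function.Injective g) :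
    Function.Injective (Algebra.TensorProduct.map (AlgHom.id k A) g) := by
  classical
  let 𝒜 := Module.Free.chooseBasis k A
  intro z w h
  apply (TensorProduct.equivFinsuppOfBasisLeft 𝒜).injective
  ext i
  apply hg
  rw [← equivFinsupp_map, ← equivFinsupp_map, h]

end Groth.Agent.MonoFibre.TensorSlice
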