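import Mathlib
import Groth.Agent.MonoFibre.TensorSlice
import Groth.Agent.MonoFibre.Affinization
import Groth.Agent.GrpSchLib.ClosedRestriction
import Groth.Agent.AffPts.Basic

/-! Rigidity for morphisms from `X × Y` where `X` has only constant functions. -/

set_option autoImplicit false
universe u

open CategoryTheory CategoryTheory.Limits MonoidalCategory CartesianMonoidalCategory MonObj AlgebraicGeometry TensorProduct

namespace Groth.Agent.MonoFibre.Rigidity

open AffPts

noncomputable section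

variable {k : Type u} [Field k] {X Y Z W : Over (Spec (CommRingCat.of k))}

theorem specMap_comp {B B' B'' : Type u} [CommRing B] [CommRing B'] [CommRing B''] [Algebra k B] [Algebra k B']
    [Algebra k B''] (φ : B →ₐ[k] B') (ψ : B' →ₐ[k] B'') :
    specMap k ψ ≫ specMap k φ = specMap k (ψ.comp φ) := by
  apply Over.OverMorphism.ext
  show Spec.map _ ≫ Spec.map _ = Spec.map _
  rw [← Spec.map_comp]
  rfl

/-- The chart of a product given by charts of the factors. -/
def chart {A B : Type u} [CommRing A] [CommRing B] [Algebra k A] [Algebra k B] (a : specOver k A ⟶ X)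
    (b : specOver k B ⟶ Y) : specOver k (A ⊗[k] B) ⟶ X ⊗ Y :=
  lift (specMap k Algebra.TensorProduct.includeLeft ≫ a) (specMap k Algebra.TensorProduct.includeRight ≫ b)

theorem chart_map {A B C : Type u} [CommRing A] [CommRing B] [CommRing C] [Algebra k A] [Algebra k B] [Algebra k C]
    (a : specOver k A ⟶ X) (b : specOver k B ⟶ Y) (g : B →ₐ[k] C) :
    specMap k (Algebra.TensorProduct.map (AlgHom.id k A) g) ≫ chart a b = chart a (specMap k g ≫ b) := by
  rw [chart, chart, comp_lift, ← Category.assoc, ← Category.assoc, ← Category.assoc, specMap_comp, specMap_comp,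
    specMap_comp]
  congr 1 <;> congr 2 <;> exact AlgHom.ext fun a => by simp

theorem chart_eq {A B : Type u} [CommRing A] [CommRing B] [Algebra k A] [Algebra k B] (a : specOver k A ⟶ X)
    (b : specOver k B ⟶ Y) : chart a b = chart (𝟙 _) (𝟙 _) ≫ (a ⊗ₘ b) := by
  rw [chart, chart, lift_map, Category.assoc, Category.assoc, Category.id_comp, Category.id_comp]

theorem isIso_chart_id (A B : Type u) [CommRing A] [CommRing B] [Algebra k A] [Algebra k B] :
    IsIso (chart (𝟙 (specOver k A)) (𝟙 (specOver k B))) := by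
  let c := chart (𝟙 (specOver k A)) (𝟙 (specOver k B))
  have h : c.left = (pullbackSpecIso k A B).inv := by
    apply pullback.hom_ext
    · refine Eq.trans ?_ (pullbackSpecIso_inv_fst k A B).symm
      show (c ≫ fst _ _).left = _
      simp [c, chart]
      rfl
    · refine Eq.trans ?_ (pullbackSpecIso_inv_snd k A B).symm
      show (c ≫ snd _ _).left = _
      simp [c, chart]
      rfl
  haveI : IsIso c.left := h ▸ (inferInstance : IsIso (pullbackSpecIso k A B).inv)
  haveI : IsIso ((Over.forget _).map c) := ‹IsIso c.left›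
  exact isIso_of_reflects_iso c (Over.forget _)

/-- The locus of equality of two morphisms to a separated scheme, on an affine chart. -/
theorem exists_ideal [IsSeparated Z.hom] {R : Type u} [CommRing R] [Algebra k R] (c : specOver k R ⟶ W)
    (f g : W ⟶ Z) : ∃ I : Ideal R, ∀ (D : Type u) [CommRing D] [Algebra k D] (θ : R →ₐ[k] D),
      specMap k θ ≫ c ≫ f = specMap k θ ≫ c ≫ g ↔ I ≤ RingHom.ker θ.toRingHom := by
  obtain ⟨I, hI⟩ := GrpSchLib.ClosedRestriction.exists_chartIdeal (equalizer.ι f g).left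
    (Q := CommRingCat.of R) c.left
  refine ⟨I, fun D _ _ θ => Iff.trans ⟨fun h => ?_, fun h => ?_⟩ (hI (CommRingCat.of D) (CommRingCat.ofHom θ.toRingHom))⟩
  · exact ⟨(equalizer.lift (specMap k θ ≫ c) (by simpa using h)).left, by
      rw [← Over.comp_left, equalizer.lift_ι]; rfl⟩
  · obtain ⟨e, he⟩ := h
    apply Over.OverMorphism.ext
    show Spec.map _ ≫ c.left ≫ f.left = Spec.map _ ≫ c.left ≫ g.left
    have hc := congrArg CommaMorphism.left (equalizer.condition f g)
    simp only [Over.comp_left] at hc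
    rw [← Category.assoc, ← Category.assoc, ← he, Category.assoc, Category.assoc, hc]

/-- Equality on all products of affine charts of `X` with `W` gives equality. -/
theorem eq_of_charts {C : Type u} [CommRing C] [Algebra k C] (w : specOver k C ⟶ Y) (f g : X ⊗ Y ⟶ Z)
    (h : ∀ (A : Type u) [CommRing A] [Algebra k A] (a : specOver k A ⟶ X), IsOpenImmersion a.left →
      chart a w ≫ f = chart a w ≫ g) : (X ◁ w) ≫ f = (X ◁ w) ≫ g := by
  apply Over.OverMorphism.ext
  refine Scheme.Cover.hom_ext (X.left.affineOpenCover.openCover.pullback₁ (fst X (specOver k C)).left) _ _ fun i => ?_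
  let A : CommRingCat.{u} := X.left.affineOpenCover.X i
  obtain ⟨α, hα⟩ := Spec.map_surjective (X.left.affineOpenCover.f i ≫ X.hom)
  algebraize [α.hom]
  let a : specOver k A ⟶ X := Over.homMk (X.left.affineOpenCover.f i) hα.symm
  let P := pullback (fst X (specOver k C)).left (X.left.affineOpenCover.f i)
  let Q : Over (Spec (CommRingCat.of k)) := Over.mk (pullback.fst (fst X (specOver k C)).left
    (X.left.affineOpenCover.f i) ≫ (X ⊗ specOver k C).hom)
  let q : Q ⟶ X ⊗ specOver k C := Over.homMk (pullback.fst _ _) rfl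
  let qa : Q ⟶ specOver k A := Over.homMk (pullback.snd _ _) (by
    show pullback.snd _ _ ≫ Spec.map α = pullback.fst _ _ ≫ (X ⊗ specOver k C).hom
    rw [hα, ← Category.assoc, ← pullback.condition, Category.assoc, Over.w])
  have hq : q = lift qa (q ≫ snd _ _) ≫ (a ⊗ₘ 𝟙 _) := by
    rw [lift_map, Category.comp_id]
    apply CartesianMonoidalCategory.hom_ext
    · rw [lift_fst]; exact Over.OverMorphism.ext pullback.condition
    · rw [lift_snd]
  have h1 := h A a (X.left.affineOpenCover.map_prop i)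
  haveI := isIso_chart_id (k := k) A C
  rw [chart_eq, Category.assoc, Category.assoc, cancel_epi] at h1
  show (q ≫ (X ◁ w) ≫ f).left = (q ≫ (X ◁ w) ≫ g).left
  have h2 : q ≫ (X ◁ w) = lift qa (q ≫ snd _ _) ≫ (a ⊗ₘ w) := by
    conv_lhs => rw [hq]
    rw [Category.assoc, ← id_tensorHom, tensorHom_comp_tensorHom, Category.comp_id, Category.id_comp]
  rw [← Category.assoc, ← Category.assoc, h2, Category.assoc, Category.assoc, h1]

/-- Morphisms from `X × N` with `N` infinitesimal around a point on which they are constant. -/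
theorem eq_of_surjective_point [QuasiCompact X.hom] [QuasiSeparated X.hom]
    (hX : Affinization.IsAffz (toUnit X)) (x₀ : 𝟙_ _ ⟶ X) {N : Over (Spec (CommRingCat.of k))} [IsAffine N.left]
    {T : Over (Spec (CommRingCat.of k))} (r : T ⟶ N) [Surjective r.left] (z₀ : 𝟙_ _ ⟶ Z)
    (h : X ⊗ N ⟶ Z) (hr : (X ◁ r) ≫ h = toUnit _ ≫ z₀) : h = snd X N ≫ lift (toUnit N ≫ x₀) (𝟙 N) ≫ h := by
  let pt : ↥(Spec (CommRingCat.of k)) := IsLocalRing.closedPoint k
  obtain ⟨_, ⟨V : Z.left.Opens, hV, rfl⟩, hzV, -⟩ :=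
    Z.left.isBasis_affineOpens.exists_subset_of_mem_open (Set.mem_univ (z₀.left pt)) isOpen_univ
  haveI : Surjective (X ◁ r).left := by
    have hsq : IsPullback (X ◁ r).left (snd X T).left (snd X N).left r.left := by
      refine IsPullback.of_right (h₁₂ := (fst X N).left) (h₂₂ := N.hom) (v₁₃ := X.hom) ?_ ?_ ?_
      · rw [← Over.comp_left, Over.w, whiskerLeft_fst]
        exact IsPullback.of_hasPullback X.hom T.hom
      · rw [← Over.comp_left, ← Over.comp_left, whiskerLeft_snd]
      · exact IsPullback.of_hasPullback X.hom N.hom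
    exact MorphismProperty.of_isPullback (P := @Surjective) hsq.flip ‹Surjective r.left›
  have hland : Set.range h.left ⊆ Set.range V.ι := by
    rintro _ ⟨x, rfl⟩
    obtain ⟨t, rfl⟩ := (X ◁ r).left.surjective x
    rw [Scheme.Opens.range_ι, ← Scheme.Hom.comp_apply, ← Over.comp_left, hr, Over.comp_left, Scheme.Hom.comp_apply,
      show (toUnit (X ⊗ T)).left t = pt from @Subsingleton.elim _ (inferInstanceAs (Subsingleton (Spec (CommRingCat.of k)))) _ _]
    exact hzV
  let Vo : Over (Spec (CommRingCat.of k)) := Over.mk (V.ι ≫ Z.hom)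
  haveI : IsAffine Vo.left := hV
  let h' : X ⊗ N ⟶ Vo := Over.homMk (IsOpenImmersion.lift V.ι h.left hland) (by
    show IsOpenImmersion.lift V.ι h.left hland ≫ V.ι ≫ Z.hom = _
    rw [← Category.assoc, IsOpenImmersion.lift_fac, Over.w])
  let vι : Vo ⟶ Z := Over.homMk V.ι rfl
  have hh : h' ≫ vι = h := Over.OverMorphism.ext (IsOpenImmersion.lift_fac _ _ _)
  have hid : Affinization.IsAffz (𝟙 N) := ⟨inferInstance, by
    rw [Over.id_left, Scheme.Hom.id_appTop]; infer_instance⟩
  haveI : QuasiCompact N.hom := (quasiCompact_iff_compactSpace N.hom).mpr inferInstance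
  haveI : IsSeparated N.hom := inferInstance
  obtain ⟨g, hg⟩ := (hX.tensor hid).exists_lift h'
  have h1 : lift (toUnit N ≫ x₀) (𝟙 N) ≫ (toUnit X ⊗ₘ 𝟙 N) = (λ_ N).inv := by
    apply CartesianMonoidalCategory.hom_ext
    · exact toUnit_unique _ _
    · simp
  have h2 : (toUnit X ⊗ₘ 𝟙 N) = snd X N ≫ (λ_ N).inv := by
    apply CartesianMonoidalCategory.hom_ext
    · exact toUnit_unique _ _
    · simp
  rw [← hh, ← hg, Category.assoc (toUnit X ⊗ₘ 𝟙 N), reassoc_of% h1, h2, Category.assoc]

/-- **Rigidity**: near `y₀`, a morphism constant on `X × y₀` does not depend on `X`. -/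
theorem exists_open_factor [QuasiCompact X.hom] [QuasiSeparated X.hom] (hX : Affinization.IsAffz (toUnit X))
    (x₀ : 𝟙_ _ ⟶ X) [IsLocallyNoetherian Y.left] [IsSeparated Z.hom] (y₀ : 𝟙_ _ ⟶ Y) (z₀ : 𝟙_ _ ⟶ Z)
    (f : X ⊗ Y ⟶ Z) (hf : (X ◁ y₀) ≫ f = toUnit _ ≫ z₀) :
    ∃ (W : Over (Spec (CommRingCat.of k))) (w : W ⟶ Y), IsOpenImmersion w.left ∧
      y₀.left (IsLocalRing.closedPoint k : PrimeSpectrum k) ∈ Set.range w.left ∧
      (X ◁ w) ≫ f = (X ◁ w) ≫ snd X Y ≫ lift (toUnit Y ≫ x₀) (𝟙 Y) ≫ f := by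
  let pt : ↥(Spec (CommRingCat.of k)) := IsLocalRing.closedPoint k
  let g : X ⊗ Y ⟶ Z := snd X Y ≫ lift (toUnit Y ≫ x₀) (𝟙 Y) ≫ f
  obtain ⟨_, ⟨V : Y.left.Opens, hV, rfl⟩, hyV, -⟩ :=
    Y.left.isBasis_affineOpens.exists_subset_of_mem_open (Set.mem_univ (y₀.left pt)) isOpen_univ
  let B : CommRingCat.{u} := Γ(Y.left, V)
  haveI : IsOpenImmersion hV.fromSpec := hV.isOpenImmersion_fromSpec
  haveI : IsNoetherianRing B := IsLocallyNoetherian.component_noetherian ⟨V, hV⟩
  obtain ⟨β, hβ⟩ := Spec.map_surjective (hV.fromSpec ≫ Y.hom)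
  algebraize [β.hom]
  let b : specOver k B ⟶ Y := Over.homMk hV.fromSpec hβ.symm
  obtain ⟨ε', hε'⟩ := Spec.map_surjective (IsOpenImmersion.lift hV.fromSpec y₀.left (by
    rw [hV.range_fromSpec]
    rintro _ ⟨t, rfl⟩
    rw [show t = pt from Subsingleton.elim (α := PrimeSpectrum k) _ _]
    exact hyV))
  have hε'b : Spec.map ε' ≫ hV.fromSpec = y₀.left := by rw [hε']; exact IsOpenImmersion.lift_fac _ _ _
  have hβε : β ≫ ε' = 𝟙 _ := by
    apply Spec.map_injective
    rw [Spec.map_comp, hβ, ← Category.assoc, hε'b, Over.w, Spec.map_id]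
    rfl
  let ε : B →ₐ[k] k := AlgHom.mk ε'.hom fun r => congrArg (fun φ => φ.hom r) hβε
  let p : Ideal B := RingHom.ker ε.toRingHom
  haveI : p.IsMaximal := RingHom.ker_isMaximal_of_surjective ε.toRingHom fun x => ⟨algebraMap k B x, ε.commutes x⟩
  obtain ⟨s, hs, hkill⟩ := TensorSlice.exists_notMem_map_eq_zero (k := k) p
  let C := Localization.Away s
  let loc : B →ₐ[k] C := IsScalarTower.toAlgHom k B C
  haveI : IsOpenImmersion (Spec.map (CommRingCat.ofHom (algebraMap B C))) := IsOpenImmersion.of_isLocalization s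
  haveI hw : IsOpenImmersion (specMap k loc ≫ b).left :=
    IsOpenImmersion.comp (Spec.map (CommRingCat.ofHom (algebraMap B C))) hV.fromSpec
  refine ⟨specOver k C, specMap k loc ≫ b, hw, ?_, ?_⟩
  · obtain ⟨c, hc⟩ : Spec.map ε' pt ∈ Set.range (Spec.map (CommRingCat.ofHom (algebraMap B C))) := by
      show (PrimeSpectrum.comap ε'.hom (IsLocalRing.closedPoint k)) ∈ Set.range (PrimeSpectrum.comap (algebraMap B C))
      rw [PrimeSpectrum.localization_away_comap_range C s]
      show s ∉ (IsLocalRing.maximalIdeal k).comap ε'.hom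
      rw [IsLocalRing.maximalIdeal_eq_bot]
      exact hs
    refine ⟨c, ?_⟩
    show hV.fromSpec (Spec.map (CommRingCat.ofHom (algebraMap B C)) c) = y₀.left pt
    rw [hc, ← Scheme.Hom.comp_apply, hε'b]
  refine eq_of_charts _ _ _ fun A _ _ a _ => ?_
  obtain ⟨I, hI⟩ := exists_ideal (chart a b) f g
  rw [← chart_map, Category.assoc, Category.assoc, hI]
  intro z hz
  refine hkill C A loc (IsLocalization.Away.algebraMap_isUnit s) z fun n => ?_
  rcases eq_zero_or_neZero n with hn | hn
  · haveI : Subsingleton (B ⧸ p ^ n) := Ideal.Quotient.subsingleton_iff.mpr (by rw [hn, pow_zero, Ideal.one_eq_top])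
    haveI : Subsingleton (A ⊗[k] (B ⧸ p ^ n)) := subsingleton_of_forall_eq 0 fun z => by
      induction z using TensorProduct.induction_on with
      | zero => rfl
      | tmul a b => rw [Subsingleton.elim b 0, TensorProduct.tmul_zero]
      | add x y hx hy => rw [hx, hy, add_zero]
    exact Subsingleton.elim _ _
  let qn : B →ₐ[k] B ⧸ p ^ n := Ideal.Quotient.mkₐ k (p ^ n)
  let εn : (B ⧸ p ^ n) →ₐ[k] k := Ideal.Quotient.liftₐ (p ^ n) ε fun x hx =>
    RingHom.mem_ker.mp (Ideal.pow_le_self (NeZero.ne n) hx : x ∈ p)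
  let N := specOver k (B ⧸ p ^ n)
  let r : specOver k k ⟶ N := specMap k εn
  haveI : IsAffine N.left := inferInstanceAs (IsAffine (Spec _))
  haveI : Surjective r.left := ⟨fun x => by
    refine ⟨pt, ?_⟩
    obtain ⟨q, hq⟩ : ∃ q : PrimeSpectrum (B ⧸ p ^ n), q = x := ⟨x, rfl⟩
    rw [← hq]
    show PrimeSpectrum.comap εn.toRingHom (IsLocalRing.closedPoint k) = q
    apply PrimeSpectrum.ext
    show (IsLocalRing.maximalIdeal k).comap εn.toRingHom = q.asIdeal
    haveI := q.isPrime
    have hpq : p = q.asIdeal.comap (Ideal.Quotient.mk (p ^ n)) := by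
      haveI : (q.asIdeal.comap (Ideal.Quotient.mk (p ^ n))).IsPrime := Ideal.comap_isPrime _ _
      refine Ideal.IsMaximal.eq_of_le ‹_› (Ideal.IsPrime.ne_top inferInstance)
        ((Ideal.IsPrime.pow_le_iff (NeZero.ne n)).mp fun y hy => ?_)
      rw [Ideal.mem_comap, Ideal.Quotient.eq_zero_iff_mem.mpr hy]
      exact Ideal.zero_mem _
    apply Ideal.comap_injective_of_surjective _ Ideal.Quotient.mk_surjective
    rw [← hpq, IsLocalRing.maximalIdeal_eq_bot, Ideal.comap_comap]
    rfl⟩
  have hrb : r ≫ specMap k qn ≫ b = toUnit _ ≫ y₀ := by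
    rw [← Category.assoc, specMap_comp, show εn.comp qn = ε from AlgHom.ext fun x => rfl]
    apply Over.OverMorphism.ext
    show Spec.map ε' ≫ hV.fromSpec = (toUnit (specOver k k)).left ≫ y₀.left
    rw [hε'b, show (toUnit (specOver k k)).left = 𝟙 _ from ?_, Category.id_comp]
    show Spec.map (CommRingCat.ofHom (algebraMap k k)) = 𝟙 _
    exact Spec.map_id _
  have hn' : (X ◁ (specMap k qn ≫ b)) ≫ f = (X ◁ (specMap k qn ≫ b)) ≫ g := by
    have h0 : (X ◁ r) ≫ (X ◁ (specMap k qn ≫ b)) ≫ f = toUnit _ ≫ z₀ := by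
      rw [← MonoidalCategory.whiskerLeft_comp_assoc, hrb, MonoidalCategory.whiskerLeft_comp_assoc, hf, ← Category.assoc]
      congr 1
      exact toUnit_unique _ _
    conv_lhs => rw [eq_of_surjective_point hX x₀ r z₀ _ h0]
    simp only [g, whiskerLeft_snd_assoc, comp_lift_assoc, Category.comp_id]
    rw [← Category.assoc (CartesianMonoidalCategory.lift _ _) (X ◁ _), lift_whiskerLeft, whiskerLeft_snd,
      ← Category.assoc (specMap k qn ≫ b) (toUnit Y) x₀, toUnit_unique ((specMap k qn ≫ b) ≫ toUnit Y) (toUnit _)]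
  have h4 : specMap k (Algebra.TensorProduct.map (AlgHom.id k A) qn) ≫ chart a b ≫ f =
      specMap k (Algebra.TensorProduct.map (AlgHom.id k A) qn) ≫ chart a b ≫ g := by
    rw [← Category.assoc, ← Category.assoc, chart_map, chart_eq,
      show (a ⊗ₘ (specMap k qn ≫ b)) = (a ▷ _) ≫ (X ◁ (specMap k qn ≫ b)) from tensorHom_def _ _,
      Category.assoc, Category.assoc, Category.assoc, Category.assoc, hn']
  exact (hI _ _).mp h4 hz

end

end Groth.Agent.MonoFibre.Rigidity
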