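import Mathlib
import Groth.Agent.MonoFibre.Rigidity
import Groth.Agent.GrpSchLib.Basic
import Groth.Agent.GrpSchLib.Component

/-! Extending rigidity from an open set to everything: integral second factor, or second factor a connected group. -/

set_option autoImplicit false
universe u

open CategoryTheory CategoryTheory.Limits MonoidalCategory CartesianMonoidalCategory MonObj AlgebraicGeometry TensorProduct

namespace Groth.Agent.MonoFibre.Rigidity

open AffPts

noncomputable section

variable {k : Type u} [Field k] {X Y Z W : Over (Spec (CommRingCat.of k))}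

theorem eq_of_charts_snd (f g : X ⊗ Y ⟶ Z)
    (h : ∀ (B : Type u) [CommRing B] [Algebra k B] (b : specOver k B ⟶ Y), IsOpenImmersion b.left →
      (X ◁ b) ≫ f = (X ◁ b) ≫ g) : f = g := by
  apply Over.OverMorphism.ext
  refine Scheme.Cover.hom_ext (Y.left.affineOpenCover.openCover.pullback₁ (snd X Y).left) _ _ fun i => ?_
  let B : CommRingCat.{u} := Y.left.affineOpenCover.X i
  obtain ⟨β, hβ⟩ := Spec.map_surjective (Y.left.affineOpenCover.f i ≫ Y.hom)
  algebraize [β.hom]
  let b : specOver k B ⟶ Y := Over.homMk (Y.left.affineOpenCover.f i) hβ.symm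
  let Q : Over (Spec (CommRingCat.of k)) := Over.mk (pullback.fst (snd X Y).left
    (Y.left.affineOpenCover.f i) ≫ (X ⊗ Y).hom)
  let q : Q ⟶ X ⊗ Y := Over.homMk (pullback.fst _ _) rfl
  let qb : Q ⟶ specOver k B := Over.homMk (pullback.snd _ _) (by
    show pullback.snd _ _ ≫ Spec.map β = pullback.fst _ _ ≫ (X ⊗ Y).hom
    rw [hβ, ← Category.assoc, ← pullback.condition, Category.assoc, Over.w])
  have hq : q = lift (q ≫ fst _ _) qb ≫ (X ◁ b) := by
    rw [lift_whiskerLeft]
    apply CartesianMonoidalCategory.hom_ext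
    · rw [lift_fst]
    · rw [lift_snd]; exact Over.OverMorphism.ext pullback.condition
  show (q ≫ f).left = (q ≫ g).left
  rw [hq, Category.assoc, Category.assoc, h B b (Y.left.affineOpenCover.map_prop i)]

/-- Equality on `X × W`, `W` non-empty open in the integral `Y`, gives equality. -/
theorem eq_of_open_eq [IsSeparated Z.hom] [IrreducibleSpace Y.left] [IsReduced Y.left] (f g : X ⊗ Y ⟶ Z)
    {W : Over (Spec (CommRingCat.of k))} (w : W ⟶ Y) [IsOpenImmersion w.left] [Nonempty W.left]
    (h : (X ◁ w) ≫ f = (X ◁ w) ≫ g) : f = g := by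
  haveI : IsIntegral Y.left := isIntegral_of_irreducibleSpace_of_isReduced _
  refine eq_of_charts_snd f g fun B _ _ b hb => ?_
  refine eq_of_charts b f g fun A _ _ a _ => ?_
  haveI := hb
  rcases isEmpty_or_nonempty (PrimeSpectrum B) with hB | hB
  · apply Over.OverMorphism.ext
    haveI : Subsingleton B := PrimeSpectrum.isEmpty_iff_subsingleton.mp hB
    haveI : Subsingleton (A ⊗[k] B) := subsingleton_of_forall_eq 0 fun z => by
      induction z using TensorProduct.induction_on with
      | zero => rfl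
      | tmul a b => rw [Subsingleton.elim b 0, TensorProduct.tmul_zero]
      | add x y hx hy => rw [hx, hy, add_zero]
    haveI : IsEmpty ↥(specOver k (A ⊗[k] B)).left := inferInstanceAs (IsEmpty (PrimeSpectrum (A ⊗[k] B)))
    exact isInitialOfIsEmpty.hom_ext _ _
  haveI : IsIntegral (Spec (CommRingCat.of B)) := by
    haveI : Nonempty ↥(Spec (CommRingCat.of B)) := hB
    exact isIntegral_of_isOpenImmersion b.left
  haveI : IsDomain B := (affine_isIntegral_iff (CommRingCat.of B)).mp ‹_›
  let O : (Spec (CommRingCat.of B)).Opens := b.left ⁻¹ᵁ w.left.opensRange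
  have hO : (O : Set ↥(Spec (CommRingCat.of B))).Nonempty := by
    obtain ⟨y⟩ := hB
    obtain ⟨z, ⟨z₀, hz₁⟩, hz₂⟩ := nonempty_preirreducible_inter b.left.opensRange.2 w.left.opensRange.2
      ⟨b.left y, y, rfl⟩ ⟨w.left (Classical.arbitrary _), Classical.arbitrary _, rfl⟩
    exact ⟨z₀, by show b.left z₀ ∈ w.left.opensRange; rw [hz₁]; exact hz₂⟩
  obtain ⟨x, hx⟩ := hO
  obtain ⟨_, ⟨_, ⟨d, rfl⟩, rfl⟩, hxd, hdO⟩ :=
    PrimeSpectrum.isBasis_basic_opens.exists_subset_of_mem_open hx O.2
  let C := Localization.Away d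
  let loc : B →ₐ[k] C := IsScalarTower.toAlgHom k B C
  have hd0 : d ≠ 0 := fun h0 => by
    simp [h0] at hxd
  have hrange : Set.range (specMap k loc ≫ b).left ⊆ Set.range w.left := by
    rintro _ ⟨c, rfl⟩
    have hc : Spec.map (CommRingCat.ofHom (algebraMap B C)) c ∈ O := by
      apply hdO
      show PrimeSpectrum.comap (algebraMap B C) c ∈ (PrimeSpectrum.basicOpen d : Set (PrimeSpectrum B))
      rw [← PrimeSpectrum.localization_away_comap_range C d]
      exact ⟨c, rfl⟩
    exact hc
  let l : specOver k C ⟶ W := Over.homMk (IsOpenImmersion.lift w.left (specMap k loc ≫ b).left hrange) (by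
    rw [← Over.w w, ← Category.assoc, IsOpenImmersion.lift_fac, Over.w])
  have hl : l ≫ w = specMap k loc ≫ b := Over.OverMorphism.ext (IsOpenImmersion.lift_fac _ _ _)
  obtain ⟨I, hI⟩ := exists_ideal (chart a b) f g
  have h1 : I ≤ RingHom.ker (Algebra.TensorProduct.map (AlgHom.id k A) loc).toRingHom := by
    rw [← hI, ← Category.assoc, ← Category.assoc, chart_map, ← hl, chart_eq,
      show (a ⊗ₘ (l ≫ w)) = (a ⊗ₘ l) ≫ (X ◁ w) by
        rw [← id_tensorHom, tensorHom_comp_tensorHom, Category.comp_id],
      Category.assoc, Category.assoc, Category.assoc, Category.assoc, h]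
  have h2 : I ≤ RingHom.ker (AlgHom.id k (A ⊗[k] B)).toRingHom := by
    intro z hz
    apply TensorSlice.map_injective (A := A) loc
      (IsLocalization.injective C (powers_le_nonZeroDivisors_of_noZeroDivisors hd0))
    rw [map_zero]
    exact h1 hz
  have h3 := (hI _ (AlgHom.id k (A ⊗[k] B))).mpr h2
  rwa [show specMap k (AlgHom.id k (A ⊗[k] B)) = 𝟙 _ from Over.OverMorphism.ext (Spec.map_id _),
    Category.id_comp, Category.id_comp] at h3

variable {H : Over (Spec (CommRingCat.of k))} [GrpObj H]

theorem flat_hom (T : Over (Spec (CommRingCat.of k))) : Flat T.hom := by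
  haveI : Subsingleton ↥(Spec (CommRingCat.of k)) := inferInstanceAs (Subsingleton (PrimeSpectrum k))
  infer_instance

theorem flat_mul : Flat μ[H].left := by
  rw [GrpSchLib.mul_eq_shear, Over.comp_left]
  haveI : IsIso (GrpSchLib.shear (𝟙 H)).hom.left :=
    ((Over.forget _).mapIso (GrpSchLib.shear (𝟙 H))).isIso_hom
  haveI := GrpSchLib.flat_snd (G := H) (T := H) (flat_hom H)
  infer_instance

/-- Left whiskered products of a dense open of a group form an epimorphism. -/
theorem epi_whiskerLeft_mul {W : Over (Spec (CommRingCat.of k))} (w : W ⟶ H) [IsOpenImmersion w.left]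
    (hd : Dense (Set.range w.left)) : Epi (X ◁ ((w ⊗ₘ w) ≫ μ[H])) := by
  let m : W ⊗ W ⟶ H := (w ⊗ₘ w) ≫ μ[H]
  have e : (w ⊗ₘ w).left = pullback.map W.hom W.hom H.hom H.hom w.left w.left (𝟙 _)
      (by simp) (by simp) := by
    apply pullback.hom_ext
    · rw [pullback.lift_fst]
      exact congrArg CommaMorphism.left (tensorHom_fst w w)
    · rw [pullback.lift_snd]
      exact congrArg CommaMorphism.left (tensorHom_snd w w)
  haveI : IsOpenImmersion (w ⊗ₘ w).left := by
    rw [e]; infer_instance
  haveI : Flat μ[H].left := flat_mul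
  haveI : Flat m.left := by rw [Over.comp_left]; infer_instance
  haveI : Surjective m.left := by
    refine ⟨fun h => ?_⟩
    obtain ⟨z, ⟨hz1, hz2⟩, hz⟩ := (GrpSchLib.mul_dense_opens w.left.opensRange w.left.opensRange hd hd).ge
      (Set.mem_univ h)
    obtain ⟨x, hx⟩ : z ∈ Set.range (w ⊗ₘ w).left := by
      rw [e, Scheme.Pullback.range_map]
      exact ⟨hz1, hz2⟩
    exact ⟨x, by rw [Over.comp_left, Scheme.Hom.comp_apply, hx, hz]⟩
  have hsq : IsPullback (X ◁ m).left (snd X (W ⊗ W)).left (snd X H).left m.left := by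
    refine IsPullback.of_right (h₁₂ := (fst X H).left) (h₂₂ := H.hom) (v₁₃ := X.hom) ?_ ?_
      (IsPullback.of_hasPullback X.hom H.hom)
    · rw [← Over.comp_left, Over.w, whiskerLeft_fst]
      exact IsPullback.of_hasPullback X.hom (W ⊗ W).hom
    · rw [← Over.comp_left, ← Over.comp_left, whiskerLeft_snd]
  haveI : Flat (X ◁ m).left := MorphismProperty.of_isPullback (P := @Flat) hsq.flip ‹Flat m.left›
  haveI : Surjective (X ◁ m).left := MorphismProperty.of_isPullback (P := @Surjective) hsq.flip ‹Surjective m.left›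
  haveI := Flat.epi_of_flat_of_surjective (X ◁ m).left
  exact (Over.forget _).epi_of_epi_map (f := X ◁ m) ‹Epi (X ◁ m).left›

end

end Groth.Agent.MonoFibre.Rigidity
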