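import Mathlib
import Groth.Agent.MonoFibre.RigidityExt
import Groth.Agent.MonoFibre.AntiAffine

/-! Consequences of rigidity for homomorphisms from anti-affine groups. -/

set_option autoImplicit false
universe u

open CategoryTheory CategoryTheory.Limits MonoidalCategory CartesianMonoidalCategory MonObj AlgebraicGeometry

namespace Groth.Agent.MonoFibre.Rigidity

noncomputable section

variable {k : Type u} [Field k]

theorem isAffz_of_bijective {X : Over (Spec (CommRingCat.of k))}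
    (hO : Function.Bijective ((Scheme.ΓSpecIso (CommRingCat.of k)).inv ≫ X.hom.appTop).hom) :
    Affinization.IsAffz (toUnit X) := by
  refine ⟨inferInstanceAs (IsAffine (Spec (CommRingCat.of k))), ?_⟩
  haveI : IsIso ((Scheme.ΓSpecIso (CommRingCat.of k)).inv ≫ X.hom.appTop) :=
    (ConcreteCategory.isIso_iff_bijective _).mpr hO
  have h : IsIso X.hom.appTop := IsIso.of_isIso_comp_left (Scheme.ΓSpecIso (CommRingCat.of k)).inv _
  exact h

variable {H G : Over (Spec (CommRingCat.of k))} [GrpObj H] [GrpObj G]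

theorem dense_range_of_open {W : Over (Spec (CommRingCat.of k))} (w : W ⟶ G) [IsOpenImmersion w.left]
    [ConnectedSpace G.left] {x : G.left} (hx : x ∈ Set.range w.left) : Dense (Set.range w.left) := by
  haveI := GrpSchLib.irreducibleSpace_of_connectedSpace (G := G)
  exact w.left.opensRange.2.dense ⟨x, hx⟩

/-- A pointed morphism from an anti-affine group to a group is a homomorphism. -/
theorem isMonHom_of_one [LocallyOfFiniteType H.hom] [QuasiCompact H.hom]
    (hH : Function.Bijective ((Scheme.ΓSpecIso (CommRingCat.of k)).inv ≫ H.hom.appTop).hom) (f : H ⟶ G)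
    (hf : η[H] ≫ f = η[G]) : IsMonHom f := by
  haveI := AntiAffine.connectedSpace hH
  haveI : IsSeparated G.hom := GrpSchLib.isSeparated_hom
  haveI : IsSeparated H.hom := GrpSchLib.isSeparated_hom
  haveI : IsLocallyNoetherian H.left := LocallyOfFiniteType.isLocallyNoetherian H.hom
  have hone : ∀ {T : Over (Spec (CommRingCat.of k))}, (1 : T ⟶ H) ≫ f = 1 := fun {T} => by
    rw [Hom.one_def, Category.assoc, hf, ← Hom.one_def]
  let F : H ⊗ H ⟶ G := (fst H H * snd H H) ≫ f * (snd H H ≫ f)⁻¹ * (fst H H ≫ f)⁻¹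
  have hF : ∀ {T : Over (Spec (CommRingCat.of k))} (x y : T ⟶ H),
      lift x y ≫ F = (x * y) ≫ f * (y ≫ f)⁻¹ * (x ≫ f)⁻¹ := fun {T} x y => by
    simp only [F, MonObj.comp_mul, GrpObj.comp_inv, ← Category.assoc, lift_fst, lift_snd]
  have hy₀ : (H ◁ η[H]) ≫ F = toUnit _ ≫ η[G] := by
    rw [show H ◁ η[H] = lift (fst H _) (1 : _ ⟶ H) from ?_, hF, hone, _root_.mul_one, inv_one, _root_.mul_one,
      mul_inv_cancel, Hom.one_def]
    apply CartesianMonoidalCategory.hom_ext
    · simp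
    · rw [lift_snd, whiskerLeft_snd, Hom.one_def, toUnit_unique (toUnit _) (snd H _)]
  obtain ⟨W, w, hw, hew, h⟩ := exists_open_factor (isAffz_of_bijective hH) η[H] η[H] η[G] F hy₀
  have key : ∀ {T : Over (Spec (CommRingCat.of k))} (x : T ⟶ H) (a : T ⟶ W),
      (x * (a ≫ w)) ≫ f = x ≫ f * (a ≫ w) ≫ f := fun {T} x a => by
    have h1 := congrArg (fun φ => lift x a ≫ φ) h
    simp only [lift_whiskerLeft_assoc, lift_snd_assoc, comp_lift_assoc, Category.comp_id, hF] at h1
    rw [← Hom.one_def, _root_.one_mul, hone, Category.id_comp, inv_one, _root_.mul_one, mul_inv_cancel,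
      MonObj.comp_one] at h1
    rw [mul_inv_eq_one, mul_inv_eq_iff_eq_mul] at h1
    exact h1
  haveI := epi_whiskerLeft_mul (X := H) w (dense_range_of_open w hew)
  have heq : (fst H H * snd H H) ≫ f = (fst H H ≫ f) * (snd H H ≫ f) := by
    rw [← cancel_epi (H ◁ ((w ⊗ₘ w) ≫ μ[H]))]
    let x : H ⊗ (W ⊗ W) ⟶ H := fst _ _
    let a : H ⊗ (W ⊗ W) ⟶ W := snd _ _ ≫ fst _ _
    let b : H ⊗ (W ⊗ W) ⟶ W := snd _ _ ≫ snd _ _
    have hl : H ◁ ((w ⊗ₘ w) ≫ μ[H]) = lift x ((a ≫ w) * (b ≫ w)) := by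
      apply CartesianMonoidalCategory.hom_ext
      · simp [x]
      · rw [lift_snd, whiskerLeft_snd, Hom.mul_def, ← Category.assoc]
        congr 1
        apply CartesianMonoidalCategory.hom_ext <;> simp [a, b]
    rw [hl, MonObj.comp_mul, ← Category.assoc, ← Category.assoc, ← Category.assoc, MonObj.comp_mul, lift_fst,
      lift_snd, ← _root_.mul_assoc, key (x * (a ≫ w)) b, key x a, key (a ≫ w) b, _root_.mul_assoc]
  refine ⟨hf, ?_⟩
  have e1 : μ[H] = fst H H * snd H H := by rw [Hom.mul_def, lift_fst_snd, Category.id_comp]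
  rw [e1, heq, Hom.mul_def]
  congr 1

/-- An anti-affine group maps to the centre of a connected group. -/
theorem comm_of_connected [LocallyOfFiniteType H.hom] [QuasiCompact H.hom] [LocallyOfFiniteType G.hom]
    [ConnectedSpace G.left]
    (hH : Function.Bijective ((Scheme.ΓSpecIso (CommRingCat.of k)).inv ≫ H.hom.appTop).hom) (φ : H ⟶ G)
    [IsMonHom φ] {T : Over (Spec (CommRingCat.of k))} (u : T ⟶ H) (g : T ⟶ G) :
    (u ≫ φ) * g = g * (u ≫ φ) := by
  haveI : IsSeparated G.hom := GrpSchLib.isSeparated_hom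
  haveI : IsSeparated H.hom := GrpSchLib.isSeparated_hom
  haveI : IsLocallyNoetherian G.left := LocallyOfFiniteType.isLocallyNoetherian G.hom
  let F : H ⊗ G ⟶ G := (fst H G ≫ φ) * snd H G * (fst H G ≫ φ)⁻¹ * (snd H G)⁻¹
  have hF : ∀ {T : Over (Spec (CommRingCat.of k))} (x : T ⟶ H) (y : T ⟶ G),
      lift x y ≫ F = (x ≫ φ) * y * (x ≫ φ)⁻¹ * y⁻¹ := fun {T} x y => by
    simp only [F, MonObj.comp_mul, GrpObj.comp_inv, ← Category.assoc, lift_fst, lift_snd]
  have hy₀ : (H ◁ η[G]) ≫ F = toUnit _ ≫ η[G] := by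
    rw [show H ◁ η[G] = lift (fst H _) (1 : _ ⟶ G) from ?_, hF, _root_.mul_one, mul_inv_cancel, inv_one,
      _root_.mul_one, Hom.one_def]
    apply CartesianMonoidalCategory.hom_ext
    · simp
    · rw [lift_snd, whiskerLeft_snd, Hom.one_def, toUnit_unique (toUnit _) (snd H _)]
  obtain ⟨W, w, hw, hew, h⟩ := exists_open_factor (isAffz_of_bijective hH) η[H] η[G] η[G] F hy₀
  have key : ∀ {T : Over (Spec (CommRingCat.of k))} (x : T ⟶ H) (a : T ⟶ W),
      (x ≫ φ) * (a ≫ w) = (a ≫ w) * (x ≫ φ) := fun {T} x a => by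
    have h1 := congrArg (fun ψ => lift x a ≫ ψ) h
    simp only [lift_whiskerLeft_assoc, lift_snd_assoc, comp_lift_assoc, Category.comp_id, hF] at h1
    rw [← Hom.one_def, MonObj.one_comp, _root_.one_mul, inv_one, _root_.mul_one, mul_inv_cancel,
      MonObj.comp_one] at h1
    rw [mul_inv_eq_one, mul_inv_eq_iff_eq_mul] at h1
    exact h1
  haveI := epi_whiskerLeft_mul (X := H) w (dense_range_of_open w hew)
  have heq : (fst H G ≫ φ) * snd H G = snd H G * (fst H G ≫ φ) := by
    rw [← cancel_epi (H ◁ ((w ⊗ₘ w) ≫ μ[G]))]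
    let x : H ⊗ (W ⊗ W) ⟶ H := fst _ _
    let a : H ⊗ (W ⊗ W) ⟶ W := snd _ _ ≫ fst _ _
    let b : H ⊗ (W ⊗ W) ⟶ W := snd _ _ ≫ snd _ _
    have hl : H ◁ ((w ⊗ₘ w) ≫ μ[G]) = lift x ((a ≫ w) * (b ≫ w)) := by
      apply CartesianMonoidalCategory.hom_ext
      · simp [x]
      · rw [lift_snd, whiskerLeft_snd, Hom.mul_def, ← Category.assoc]
        congr 1
        apply CartesianMonoidalCategory.hom_ext <;> simp [a, b]
    rw [hl, MonObj.comp_mul, MonObj.comp_mul, ← Category.assoc, lift_fst, lift_snd, ← _root_.mul_assoc, key x a,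
      _root_.mul_assoc, key x b, _root_.mul_assoc]
  have h2 := congrArg (fun ψ => lift u g ≫ ψ) heq
  simpa only [MonObj.comp_mul, ← Category.assoc, lift_fst, lift_snd] using h2

end

end Groth.Agent.MonoFibre.Rigidity
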