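import Mathlib
import Groth.Agent.MonoFibre.RigidityGrp

/-! Rigidity for proper integral schemes with a rational point. -/

set_option autoImplicit false
universe u

open CategoryTheory CategoryTheory.Limits MonoidalCategory CartesianMonoidalCategory MonObj AlgebraicGeometry

namespace Groth.Agent.MonoFibre.Rigidity

noncomputable section

variable {k : Type u} [Field k]

/-- An integral universally closed scheme with a rational point has only constant functions. -/
theorem bijective_of_ratPt {X : Over (Spec (CommRingCat.of k))} [IsIntegral X.left] [UniversallyClosed X.hom]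
    (x₀ : 𝟙_ (Over (Spec (CommRingCat.of k))) ⟶ X) :
    Function.Bijective ((Scheme.ΓSpecIso (CommRingCat.of k)).inv ≫ X.hom.appTop).hom := by
  let := (isField_of_universallyClosed k X.hom).toField
  let ev : Γ(X.left, ⊤) ⟶ CommRingCat.of k := x₀.left.appTop ≫ (Scheme.ΓSpecIso (CommRingCat.of k)).hom
  have h : ((Scheme.ΓSpecIso (CommRingCat.of k)).inv ≫ X.hom.appTop) ≫ ev = 𝟙 _ := by
    simp only [ev, Category.assoc]
    rw [← Scheme.Hom.comp_appTop_assoc, Over.w x₀]
    show (Scheme.ΓSpecIso (CommRingCat.of k)).inv ≫ Scheme.Hom.appTop (𝟙 _) ≫ _ = _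
    rw [Scheme.Hom.id_appTop, Category.id_comp, Iso.inv_hom_id]
  refine ⟨RingHom.injective _, fun a => ⟨ev.hom a, ?_⟩⟩
  apply ev.hom.injective
  exact congrArg (fun φ => φ.hom (ev.hom a)) h

theorem bijective_of_geometricallyIntegral {X : Over (Spec (CommRingCat.of k))} [GeometricallyIntegral X.hom]
    [UniversallyClosed X.hom] (x₀ : 𝟙_ (Over (Spec (CommRingCat.of k))) ⟶ X) :
    Function.Bijective ((Scheme.ΓSpecIso (CommRingCat.of k)).inv ≫ X.hom.appTop).hom := by
  haveI : Subsingleton ↥(Spec (CommRingCat.of k)) := inferInstanceAs (Subsingleton (PrimeSpectrum k))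
  haveI : IsIntegral X.left := GeometricallyIntegral.isIntegral_of_subsingleton X.hom
  exact bijective_of_ratPt x₀

/-- The rigidity lemma for an integral second factor. -/
theorem eq_const_of_ratPt {V W U : Over (Spec (CommRingCat.of k))} [GeometricallyIntegral V.hom] [IsProper V.hom]
    [LocallyOfFiniteType W.hom] [GeometricallyIntegral W.hom] [IsSeparated U.hom]
    (f : V ⊗ W ⟶ U) (v₀ : 𝟙_ (Over (Spec (CommRingCat.of k))) ⟶ V) (w₀ : 𝟙_ (Over (Spec (CommRingCat.of k))) ⟶ W)
    (u₀ : 𝟙_ (Over (Spec (CommRingCat.of k))) ⟶ U) (hV : lift (𝟙 V) (toUnit V ≫ w₀) ≫ f = toUnit V ≫ u₀) :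
    f = snd V W ≫ lift (toUnit W ≫ v₀) (𝟙 W) ≫ f := by
  haveI : Subsingleton ↥(Spec (CommRingCat.of k)) := inferInstanceAs (Subsingleton (PrimeSpectrum k))
  haveI : IsIntegral W.left := GeometricallyIntegral.isIntegral_of_subsingleton W.hom
  haveI : IsLocallyNoetherian W.left := LocallyOfFiniteType.isLocallyNoetherian W.hom
  have hf : (V ◁ w₀) ≫ f = toUnit _ ≫ u₀ := by
    have e : V ◁ w₀ = fst V _ ≫ lift (𝟙 V) (toUnit V ≫ w₀) := by
      apply CartesianMonoidalCategory.hom_ext
      · simp
      · rw [whiskerLeft_snd, Category.assoc, lift_snd, ← Category.assoc,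
          toUnit_unique (fst V (𝟙_ _) ≫ toUnit V) (snd V (𝟙_ _))]
    rw [e, Category.assoc, hV, ← Category.assoc, toUnit_unique (fst V (𝟙_ _) ≫ toUnit V) (toUnit _)]
  obtain ⟨O, o, ho, hy, h⟩ :=
    exists_open_factor (isAffz_of_bijective (bijective_of_geometricallyIntegral v₀)) v₀ w₀ u₀ f hf
  haveI := ho
  haveI : Nonempty O.left := by obtain ⟨c, -⟩ := hy; exact ⟨c⟩
  exact eq_of_open_eq f _ o h

/-- A pointed morphism from a proper geometrically integral group to a group is a homomorphism. -/
theorem isMonHom_of_proper {A G : Over (Spec (CommRingCat.of k))} [GrpObj A] [GrpObj G] [IsProper A.hom]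
    [GeometricallyIntegral A.hom] (f : A ⟶ G) (hf : η[A] ≫ f = η[G]) : IsMonHom f :=
  isMonHom_of_one (bijective_of_geometricallyIntegral η[A]) f hf

end

end Groth.Agent.MonoFibre.Rigidity
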