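import Mathlib
import Groth.Agent.GeomIrred.Point

/-!
# A connected scheme with a rational point is geometrically connected
-/

set_option autoImplicit false

universe u

open CategoryTheory CategoryTheory.Limits AlgebraicGeometry

noncomputable section

namespace Groth.Agent.MonoFibre

theorem geometricallyConnected_of_section {k : Type u} [Field k] {X : Scheme.{u}} [ConnectedSpace X]
    (f : X ⟶ Spec (CommRingCat.of k)) (σ : Spec (CommRingCat.of k) ⟶ X) (hσ : σ ≫ f = 𝟙 _) :
    GeometricallyConnected f := by
  let x : X := σ (IsLocalRing.closedPoint k)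
  let φ : k →+* X.residueField x := (Spec.preimage (X.fromSpecResidueField x ≫ f)).hom
  let ψ : X.residueField x ⟶ CommRingCat.of k := X.descResidueField (Scheme.stalkClosedPointTo σ)
  have hψ : Spec.map ψ ≫ X.fromSpecResidueField x = σ :=
    Scheme.descResidueField_stalkClosedPointTo_fromSpecResidueField k X σ
  have hid : CommRingCat.ofHom φ ≫ ψ = 𝟙 _ := by
    apply Spec.map_injective
    rw [Spec.map_comp, Spec.map_id, CommRingCat.ofHom_hom, Spec.map_preimage, reassoc_of% hψ, hσ]
  have hsurj : Function.Surjective φ := fun a =>
    ⟨ψ.hom a, ψ.hom.injective (congrArg (fun r : CommRingCat.of k ⟶ CommRingCat.of k => r.hom (ψ.hom a)) hid)⟩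
  refine Groth.Agent.GeomIrred.geometricallyConnected_of_point f x φ (by rw [CommRingCat.ofHom_hom, Spec.map_preimage]) ?_
  letI := φ.toAlgebra
  refine bot_unique fun a _ => ?_
  obtain ⟨b, rfl⟩ := hsurj a
  exact IntermediateField.algebraMap_mem _ b

variable {S : Scheme.{u}}

/-- Connected fibres and a section give geometrically connected fibres. -/
theorem geometricallyConnected_of_connected_fibres {X : Scheme.{u}} (f : X ⟶ S) (e : S ⟶ X) (he : e ≫ f = 𝟙 _)
    (h : ∀ s, ConnectedSpace (f.fiber s)) : GeometricallyConnected f :=
  (GeometricallyConnected.iff_geometricallyConnected_fiber f).2 fun s => by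
    haveI := h s
    exact geometricallyConnected_of_section (f.fiberToSpecResidueField s)
      (pullback.lift (S.fromSpecResidueField s ≫ e) (𝟙 (Spec (S.residueField s))) ((Category.assoc _ _ _).trans
        ((congrArg (S.fromSpecResidueField s ≫ ·) he).trans ((Category.comp_id _).trans (Category.id_comp _).symm))))
      (pullback.lift_snd _ _ _)

end Groth.Agent.MonoFibre
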