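import Groth.Agent.GrpSchLib.Immersion
import Groth.Agent.FinGrpdLib.Perfect

/-!
# Reduced subgroup schemes on closed subsets over a perfect field
-/

set_option autoImplicit false

universe u

open CategoryTheory MonoidalCategory CartesianMonoidalCategory MonObj GrpObj AlgebraicGeometry Limits

noncomputable section

namespace Groth.Agent.MonoFibre

open GrpSchLib

variable {K : Type u} [Field K] [PerfectField K] {G : Over (Spec (CommRingCat.of K))} [GrpObj G]

/-- A closed subset stable under the group laws underlies a reduced subgroup scheme. -/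
theorem exists_redSubgroup (Z : Set G.left) (hZ : IsClosed Z) (h1 : unitPt G ∈ Z)
    (hmul : ∀ {T : Over (Spec (CommRingCat.of K))} (a b : T ⟶ G) (t : T.left),
      a.left t ∈ Z → b.left t ∈ Z → (a * b).left t ∈ Z)
    (hinv : ∀ {T : Over (Spec (CommRingCat.of K))} (a : T ⟶ G) (t : T.left), a.left t ∈ Z → a⁻¹.left t ∈ Z) :
    ∃ (N : Over (Spec (CommRingCat.of K))) (_ : GrpObj N) (i : N ⟶ G),
      IsMonHom i ∧ IsClosedImmersion i.left ∧ IsReduced N.left ∧ Set.range i.left = Z := by
  let C : TopologicalSpace.Closeds G.left := ⟨Z, hZ⟩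
  let j := (Scheme.IdealSheafData.vanishingIdeal C).subschemeι
  let N : Over (Spec (CommRingCat.of K)) := Over.mk (j ≫ G.hom)
  let i : N ⟶ G := Over.homMk j
  haveI hred : IsReduced N.left := DVRCrit.isReduced_vanishingIdeal C
  haveI : IsClosedImmersion i.left := inferInstanceAs (IsClosedImmersion j)
  haveI : Mono i := (Over.forget _).mono_of_mono_map (show Mono i.left by infer_instance)
  have hi : Set.range i.left = Z := by
    show Set.range j = Z
    rw [Scheme.IdealSheafData.range_subschemeι, Scheme.IdealSheafData.coe_support_vanishingIdeal]; rfl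
  have hmem : ∀ x, i.left x ∈ Z := fun x => hi.le ⟨x, rfl⟩
  have hlift : ∀ {T : Over (Spec (CommRingCat.of K))} (v : T ⟶ G), IsReduced T.left → (∀ t, v.left t ∈ Z) →
      ∃ v' : T ⟶ N, v' ≫ i = v := by
    intro T v hT hv
    haveI := hT
    obtain ⟨z, hz⟩ := FinGrpdLib.exists_lift_reduced v.left C (by rintro _ ⟨t, rfl⟩; exact hv t)
    exact ⟨Over.homMk z (by rw [← Over.w v, ← hz, Category.assoc]; rfl), Over.OverMorphism.ext hz⟩
  obtain ⟨e, he⟩ := hlift η[G] (inferInstanceAs (IsReduced (Spec (CommRingCat.of K))))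
    (fun t => (range_unit.le ⟨t, rfl⟩ : η[G].left t = unitPt G) ▸ h1)
  obtain ⟨m, hm⟩ := hlift ((fst N N ≫ i) * (snd N N ≫ i)) (FinGrpdLib.isReduced_pullback (Iso.refl _) _ _)
    (fun t => hmul _ _ t (by rw [Over.comp_left, Scheme.Hom.comp_apply]; exact hmem _)
      (by rw [Over.comp_left, Scheme.Hom.comp_apply]; exact hmem _))
  obtain ⟨v, hv⟩ := hlift i⁻¹ hred (fun t => hinv _ t (hmem t))
  have hone : ∀ {T : Over (Spec (CommRingCat.of K))} (a : T ⟶ 𝟙_ _), a ≫ e ≫ i = 1 := fun a => by
    rw [he, Hom.one_def, toUnit_unique a (toUnit _)]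
  letI mon : MonObj N :=
    { one := e
      mul := m
      one_mul := by
        rw [← cancel_mono i, Category.assoc, hm, MonObj.comp_mul, whiskerRight_fst_assoc, whiskerRight_snd_assoc,
          hone, _root_.one_mul, leftUnitor_hom]
      mul_one := by
        rw [← cancel_mono i, Category.assoc, hm, MonObj.comp_mul, whiskerLeft_fst_assoc, whiskerLeft_snd_assoc,
          hone, _root_.mul_one, rightUnitor_hom]
      mul_assoc := by
        rw [← cancel_mono i]
        simp only [Category.assoc, hm, MonObj.comp_mul, whiskerRight_fst_assoc, whiskerRight_snd_assoc,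
          whiskerLeft_fst_assoc, whiskerLeft_snd_assoc, associator_hom_fst_assoc, associator_hom_snd_fst_assoc,
          associator_hom_snd_snd_assoc, _root_.mul_assoc] }
  haveI hmon : IsMonHom i := ⟨he, by
    show m ≫ i = _
    rw [hm, Hom.mul_def]; congr 1⟩
  letI grp : GrpObj N :=
    { inv := v
      left_inv := by
        rw [← cancel_mono i, Category.assoc, Category.assoc]
        show lift v (𝟙 N) ≫ m ≫ i = toUnit N ≫ e ≫ i
        rw [hone]
        rw [hm, MonObj.comp_mul, lift_fst_assoc, lift_snd_assoc, hv, Category.id_comp, inv_mul_cancel]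
      right_inv := by
        rw [← cancel_mono i, Category.assoc, Category.assoc]
        show lift (𝟙 N) v ≫ m ≫ i = toUnit N ≫ e ≫ i
        rw [hone]
        rw [hm, MonObj.comp_mul, lift_fst_assoc, lift_snd_assoc, hv, Category.id_comp, mul_inv_cancel] }
  exact ⟨N, grp, i, hmon, inferInstance, hred, hi⟩

end Groth.Agent.MonoFibre
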