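import Groth.Agent.MonoFibre.Homogeneous

/-!
# Orbits of the identity component on a homogeneous scheme over an algebraically closed field
-/

set_option autoImplicit false

universe u

open CategoryTheory MonoidalCategory CartesianMonoidalCategory MonObj GrpObj AlgebraicGeometry Limits
open Functor.LaxMonoidal Functor.OplaxMonoidal

noncomputable section

namespace Groth.Agent.MonoFibre

/-- A point with no proper generalisation. -/
def IsMaxPt {T : Type*} [TopologicalSpace T] (ξ : T) : Prop := ∀ θ : T, θ ⤳ ξ → θ = ξ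

theorem isMaxPt_generic {T : Type*} [TopologicalSpace T] [T0Space T] {ξ : T} {Z : Set T}
    (hZ : Z ∈ irreducibleComponents T) (hξ : IsGenericPoint ξ Z) : IsMaxPt ξ := fun θ h => by
  have h1 : Z ⊆ closure {θ} := by
    rw [← hξ.def]
    exact closure_minimal (Set.singleton_subset_iff.2 h.mem_closure) isClosed_closure
  have h2 : closure {θ} ⊆ Z := hZ.2 isIrreducible_singleton.closure h1
  exact IsGenericPoint.eq (Set.Subset.antisymm h2 h1) hξ

theorem exists_isMaxPt {T : Type*} [TopologicalSpace T] [T0Space T] [QuasiSober T] (x : T) :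
    ∃ ξ : T, ξ ⤳ x ∧ IsMaxPt ξ := by
  obtain ⟨ξ, hξ⟩ := QuasiSober.sober (isIrreducible_irreducibleComponent (x := x)) isClosed_irreducibleComponent
  exact ⟨ξ, hξ.specializes mem_irreducibleComponent,
    isMaxPt_generic (irreducibleComponent_mem_irreducibleComponents x) hξ⟩

theorem isMaxPt_map {T T' : Type*} [TopologicalSpace T] [TopologicalSpace T'] (e : T ≃ₜ T') {ξ : T} (h : IsMaxPt ξ) :
    IsMaxPt (e ξ) := fun θ hθ => by
  have := h (e.symm θ) (by simpa using hθ.map e.symm.continuous)
  rw [← this, Homeomorph.apply_symm_apply]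

section BaseChange

variable {S S' : Scheme.{u}} (j : S' ⟶ S) {G X : Over S} [GrpObj G] (a : AlgGrp.Action G X)

/-- The base change of an action. -/
def bcAction : AlgGrp.Action (Red.bc j G) (Red.bc j X) where
  act := Functor.LaxMonoidal.μ (Over.pullback j) G X ≫ (Over.pullback j).map a.act
  one_act := by
    show ((ε (Over.pullback j) ≫ (Over.pullback j).map η[G]) ▷ _) ≫ _ = _
    rw [comp_whiskerRight, Category.assoc, μ_natural_left_assoc, ← Functor.map_comp, a.one_act]
    exact (Functor.LaxMonoidal.left_unitality (Over.pullback j) X).symm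
  mul_act := by
    show ((Functor.LaxMonoidal.μ (Over.pullback j) G G ≫ (Over.pullback j).map μ[G]) ▷ _) ≫ _ = _
    rw [comp_whiskerRight, Category.assoc, μ_natural_left_assoc, ← Functor.map_comp, a.mul_act, Functor.map_comp,
      Functor.map_comp, MonoidalCategory.whiskerLeft_comp, Category.assoc, μ_natural_right_assoc]
    rw [Functor.LaxMonoidal.associativity_assoc]

theorem surjective_pullback_map {A B : Over S} (f : A ⟶ B) [Surjective f.left] :
    Surjective ((Over.pullback j).map f).left := by
  have h : ((Over.pullback j).map f).left =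
      pullback.map A.hom j B.hom j f.left (𝟙 _) (𝟙 _) (by simp) (by simp) := by
    apply pullback.hom_ext <;> simp [pullback.map]
  refine ⟨fun z => ?_⟩
  have hz : z ∈ Set.range (pullback.map A.hom j B.hom j f.left (𝟙 _) (𝟙 _) (by simp) (by simp)) := by
    rw [Scheme.Pullback.range_map]
    exact ⟨f.left.surjective _, ⟨_, rfl⟩⟩
  obtain ⟨w, hw⟩ := hz
  exact ⟨w, by rw [h]; exact hw⟩

theorem bcAction_surjective (hΦ : Surjective (lift a.act (snd G X)).left) :
    Surjective (lift (bcAction j a).act (snd (Red.bc j G) (Red.bc j X))).left := by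
  let F := Over.pullback j
  have h : lift (bcAction j a).act (snd (Red.bc j G) (Red.bc j X)) =
      Functor.LaxMonoidal.μ F G X ≫ F.map (lift a.act (snd G X)) ≫ δ F X X := by
    apply hom_ext
    · simp [bcAction, F, ← Functor.map_comp]
    · simp [F, ← Functor.map_comp]
  haveI := hΦ
  haveI := surjective_pullback_map j (lift a.act (snd G X))
  haveI : IsIso (Functor.LaxMonoidal.μ F G X).left := inferInstanceAs (IsIso ((Over.forget S').map (Functor.LaxMonoidal.μ F G X)))
  haveI : IsIso (δ F X X).left := inferInstanceAs (IsIso ((Over.forget S').map (δ F X X)))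
  rw [h, Over.comp_left, Over.comp_left]
  infer_instance

end BaseChange

section Field

variable {K : Type u} [Field K] {G X : Over (Spec (CommRingCat.of K))} [GrpObj G] (a : AlgGrp.Action G X)

/-- Translation of the group by a rational point. -/
def translG (g : 𝟙_ (Over (Spec (CommRingCat.of K))) ⟶ G) : G ⟶ G := (toUnit G ≫ g) * 𝟙 G

/-- Translation of the scheme by a rational point. -/
def translX (g : 𝟙_ (Over (Spec (CommRingCat.of K))) ⟶ G) : X ⟶ X := lift (toUnit X ≫ g) (𝟙 X) ≫ a.act

theorem translG_comp (g g' : 𝟙_ (Over (Spec (CommRingCat.of K))) ⟶ G) :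
    translG g ≫ translG g' = translG (g' * g) := by
  simp only [translG, MonObj.comp_mul, Category.comp_id, ← Category.assoc, toUnit_unique (_ ≫ toUnit G) (toUnit G)]
  rw [_root_.mul_assoc]

theorem translG_one : translG (1 : 𝟙_ (Over (Spec (CommRingCat.of K))) ⟶ G) = 𝟙 G := by
  rw [translG, MonObj.comp_one, _root_.one_mul]

theorem translX_comp (g g' : 𝟙_ (Over (Spec (CommRingCat.of K))) ⟶ G) :
    translX a g ≫ translX a g' = translX a (g' * g) := by
  simp only [translX, MonObj.comp_mul, Category.assoc, comp_lift_assoc, Category.comp_id, act_mul, comp_toUnit_assoc]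

theorem translX_one : translX a (1 : 𝟙_ (Over (Spec (CommRingCat.of K))) ⟶ G) = 𝟙 X := by
  rw [translX, MonObj.comp_one, act_one]

theorem orbitMap_translX (x : 𝟙_ (Over (Spec (CommRingCat.of K))) ⟶ X)
    (g : 𝟙_ (Over (Spec (CommRingCat.of K))) ⟶ G) :
    a.orbitMap x ≫ translX a g = translG g ≫ a.orbitMap x := by
  simp only [AlgGrp.Action.orbitMap, translX, translG, Category.assoc, comp_lift_assoc, Category.comp_id,
    act_mul, comp_toUnit_assoc]

/-- Translation of the scheme as a homeomorphism. -/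
def translXHomeo (g : 𝟙_ (Over (Spec (CommRingCat.of K))) ⟶ G) : X.left ≃ₜ X.left where
  toFun := (translX a g).left
  invFun := (translX a g⁻¹).left
  left_inv z := by
    rw [← Scheme.Hom.comp_apply, ← Over.comp_left, translX_comp, inv_mul_cancel, translX_one]
    rfl
  right_inv z := by
    rw [← Scheme.Hom.comp_apply, ← Over.comp_left, translX_comp, mul_inv_cancel, translX_one]
    rfl
  continuous_toFun := Scheme.Hom.continuous _
  continuous_invFun := Scheme.Hom.continuous _

theorem exists_orbitMap_eq (hΦ : Surjective (lift a.act (snd G X)).left)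
    (x : 𝟙_ (Over (Spec (CommRingCat.of K))) ⟶ X) (ξ : X.left) : ∃ g : G.left, (a.orbitMap x).left g = ξ := by
  let pt : ↥(Spec (CommRingCat.of K)) := IsLocalRing.closedPoint K
  let sX : X ⟶ X ⊗ X := lift (𝟙 X) (toUnit X ≫ x)
  obtain ⟨q, hq⟩ := hΦ.surj (sX.left ξ)
  let sG : G ⟶ G ⊗ X := lift (𝟙 G) (toUnit G ≫ x)
  have hx : x.left pt = (snd G X).left q := by
    have h := congrArg (snd X X).left hq
    rw [← Scheme.Hom.comp_apply, ← Over.comp_left, lift_snd, ← Scheme.Hom.comp_apply, ← Over.comp_left, lift_snd,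
      Over.comp_left, Scheme.Hom.comp_apply] at h
    exact (congrArg x.left (Subsingleton.elim (α := PrimeSpectrum K) _ _)).trans h.symm
  have hr : sG.left = (pullback.lift (𝟙 G.left) G.hom (by simp) :
      G.left ⟶ pullback G.hom (𝟙 (Spec (CommRingCat.of K)))) ≫
      pullback.map G.hom (𝟙 _) G.hom X.hom (𝟙 _) x.left (𝟙 _) (by simp)
        ((Category.comp_id _).trans (Over.w x).symm) := by
    refine pullback.hom_ext ?_ ?_
    · have h1 : sG.left ≫ pullback.fst G.hom X.hom = 𝟙 G.left := congrArg (fun t => t.left) (lift_fst (𝟙 G) (toUnit G ≫ x))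
      refine h1.trans ?_
      rw [Category.assoc]
      erw [pullback.lift_fst, pullback.lift_fst_assoc]
      exact (Category.comp_id _).symm
    · have h1 : sG.left ≫ pullback.snd G.hom X.hom = G.hom ≫ x.left := congrArg (fun t => t.left) (lift_snd (𝟙 G) (toUnit G ≫ x))
      refine h1.trans ?_
      rw [Category.assoc]
      erw [pullback.lift_snd, pullback.lift_snd_assoc]
  obtain ⟨g, hg⟩ : q ∈ Set.range sG.left := by
    rw [hr, Scheme.Hom.comp_base]
    have hsurj : Function.Surjective (pullback.lift (𝟙 G.left) G.hom (by simp) :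
        G.left ⟶ pullback G.hom (𝟙 (Spec (CommRingCat.of K)))) := fun w => by
      refine ⟨pullback.fst G.hom (𝟙 _) w, ?_⟩
      rw [← Scheme.Hom.comp_apply, show pullback.fst G.hom (𝟙 (Spec (CommRingCat.of K))) ≫
        pullback.lift (𝟙 G.left) G.hom (by simp) = 𝟙 _ from pullback.hom_ext
          (((Category.assoc _ _ _).trans ((congrArg (pullback.fst G.hom _ ≫ ·) (pullback.lift_fst _ _ _)).trans
            ((Category.comp_id _).trans (Category.id_comp _).symm))))
          ((Category.assoc _ _ _).trans ((congrArg (pullback.fst G.hom _ ≫ ·) (pullback.lift_snd _ _ _)).trans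
            (pullback.condition.trans ((Category.comp_id _).trans (Category.id_comp _).symm))))]
      rfl
    obtain ⟨w, hw⟩ : q ∈ Set.range (pullback.map G.hom (𝟙 _) G.hom X.hom (𝟙 _) x.left (𝟙 _) (by simp)
        ((Category.comp_id _).trans (Over.w x).symm)) := by
      rw [Scheme.Pullback.range_map]
      exact ⟨⟨_, rfl⟩, pt, hx⟩
    obtain ⟨g, rfl⟩ := hsurj w
    exact ⟨g, hw⟩
  refine ⟨g, ?_⟩
  subst hg
  have h1 := congrArg (fst X X).left hq
  rw [← Scheme.Hom.comp_apply, ← Over.comp_left, lift_fst, ← Scheme.Hom.comp_apply, ← Over.comp_left,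
    ← Scheme.Hom.comp_apply, ← Over.comp_left, lift_fst] at h1
  exact h1.trans rfl

variable [IsAlgClosed K] [LocallyOfFiniteType G.hom]

theorem exists_ratPt_mem {Z : Set G.left} (hZ : IsClosed Z) (hne : Z.Nonempty) :
    ∃ g : 𝟙_ (Over (Spec (CommRingCat.of K))) ⟶ G, g.left (IsLocalRing.closedPoint K) ∈ Z := by
  haveI : JacobsonSpace G.left := LocallyOfFiniteType.jacobsonSpace G.hom
  obtain ⟨z, hzZ, hz⟩ := nonempty_inter_closedPoints (X := G.left) hne hZ.isLocallyClosed
  refine ⟨Over.homMk (pointOfClosedPoint G.hom z (mem_closedPoints_iff.1 hz)) (pointOfClosedPoint_comp _ _ _), ?_⟩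
  show pointOfClosedPoint G.hom z (mem_closedPoints_iff.1 hz) (IsLocalRing.closedPoint K) ∈ Z
  exact (pointOfClosedPoint_apply G.hom z (mem_closedPoints_iff.1 hz) _).symm ▸ hzZ

/-- A maximal point of the scheme lies in the orbit of the identity component. -/
theorem exists_idComp_orbit_isMaxPt (hΦ : Surjective (lift a.act (snd G X)).left)
    (x : 𝟙_ (Over (Spec (CommRingCat.of K))) ⟶ X) :
    ∃ w ∈ GrpSchLib.idComp G, IsMaxPt ((a.orbitMap x).left w) := by
  let pt : ↥(Spec (CommRingCat.of K)) := IsLocalRing.closedPoint K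
  obtain ⟨ξ, -, hξ⟩ := exists_isMaxPt (x.left pt)
  obtain ⟨g, hg⟩ := exists_orbitMap_eq a hΦ x ξ
  obtain ⟨θ, hθ⟩ := QuasiSober.sober (isIrreducible_irreducibleComponent (x := g)) isClosed_irreducibleComponent
  have hθξ : (a.orbitMap x).left θ = ξ :=
    hξ _ (hg ▸ (hθ.specializes mem_irreducibleComponent).map (a.orbitMap x).left.continuous)
  obtain ⟨h, hh⟩ := exists_ratPt_mem (G := G) isClosed_irreducibleComponent ⟨g, mem_irreducibleComponent (x := g)⟩
  refine ⟨(translG h⁻¹).left θ, ?_, ?_⟩
  · have hcomp : θ ⤳ h.left pt := hθ.specializes hh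
    refine GrpSchLib.mem_idComp_of_specializes ?_
    have := hcomp.map (translG h⁻¹).left.continuous
    have he : (translG h⁻¹).left (h.left pt) = GrpSchLib.unitPt G := by
      rw [← Scheme.Hom.comp_apply, ← Over.comp_left]
      have : h ≫ translG h⁻¹ = 1 := by
        rw [translG, MonObj.comp_mul, Category.comp_id, ← Category.assoc, toUnit_unique (h ≫ toUnit G) (𝟙 _),
          Category.id_comp, inv_mul_cancel]
      rw [this, GrpSchLib.one_apply]
    rwa [he] at this
  · rw [← Scheme.Hom.comp_apply, ← Over.comp_left, ← orbitMap_translX, Over.comp_left, Scheme.Hom.comp_apply, hθξ]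
    exact isMaxPt_map (translXHomeo a h⁻¹) hξ

/-- An open set containing all maximal points meets the orbit of the identity component. -/
theorem idComp_inter_orbit_preimage_nonempty (hΦ : Surjective (lift a.act (snd G X)).left)
    (x : 𝟙_ (Over (Spec (CommRingCat.of K))) ⟶ X) {U : Set X.left} (hU : ∀ ξ, IsMaxPt ξ → ξ ∈ U) :
    (GrpSchLib.idComp G ∩ (a.orbitMap x).left ⁻¹' U).Nonempty := by
  obtain ⟨w, hw, hwξ⟩ := exists_idComp_orbit_isMaxPt a hΦ x
  exact ⟨w, hw, hU _ hwξ⟩

/-- Two orbit maps send a common point of any neighbourhood of the unit into such an open set. -/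
theorem exists_mem_orbit_inter (hΦ : Surjective (lift a.act (snd G X)).left)
    (x y : 𝟙_ (Over (Spec (CommRingCat.of K))) ⟶ X) {U : Set X.left} (hUo : IsOpen U)
    (hU : ∀ ξ, IsMaxPt ξ → ξ ∈ U) {W : Set G.left} (hWo : IsOpen W) (hW : GrpSchLib.unitPt G ∈ W) :
    ∃ w ∈ W, (a.orbitMap x).left w ∈ U ∧ (a.orbitMap y).left w ∈ U := by
  have hI : IsPreirreducible (GrpSchLib.idComp G) := isIrreducible_irreducibleComponent.isPreirreducible
  have hA := hUo.preimage (a.orbitMap x).left.continuous
  have hB := hUo.preimage (a.orbitMap y).left.continuous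
  obtain ⟨w, hw, hwA, hwB⟩ := hI _ _ hA hB (idComp_inter_orbit_preimage_nonempty a hΦ x hU)
    (idComp_inter_orbit_preimage_nonempty a hΦ y hU)
  obtain ⟨v, -, hvW, hv⟩ := hI _ _ hWo (hA.inter hB) ⟨_, mem_irreducibleComponent, hW⟩ ⟨w, hw, hwA, hwB⟩
  exact ⟨v, hvW, hv⟩

end Field

end Groth.Agent.MonoFibre
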