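import Mathlib
import Groth.Agent.MonoFibre.Connected
import Groth.Agent.GrpQuotLib.Orbit
import Groth.Agent.GrpSchLib.Component

/-! A faithfully flat homomorphism is a torsor under its kernel. -/

set_option autoImplicit false
universe u

open CategoryTheory CategoryTheory.Limits MonoidalCategory CartesianMonoidalCategory MonObj GrpObj AlgebraicGeometry

namespace Groth.Agent.MonoFibre.KernelFibre

noncomputable section

variable {k : Type u} [Field k] {G Q N : Over (Spec (CommRingCat.of k))} [GrpObj G] [GrpObj Q]
  (q : G ⟶ Q) [IsMonHom q] (i : N ⟶ G)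

theorem isPullback_torsor (hker : AlgGrp.IsKernel i q) :
    IsPullback (fst G N * (snd G N ≫ i)).left (fst G N).left q.left q.left := by
  have hi : i ≫ q = 1 := by rw [hker.w, Hom.one_def]
  haveI : Mono η[Q] := SplitMono.mono ⟨toUnit Q, toUnit_unique _ _⟩
  haveI : Mono i := ⟨fun a b hab => hker.hom_ext hab (toUnit_unique _ _)⟩
  have w : (fst G N * (snd G N ≫ i)) ≫ q = fst G N ≫ q := by
    rw [MonObj.mul_comp, Category.assoc, hi, MonObj.comp_one, _root_.mul_one]
  have key : ∀ (s : PullbackCone q q), ∃ l : s.pt ⟶ N, l ≫ i = s.snd⁻¹ * s.fst := fun s =>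
    ⟨hker.lift _ (toUnit _) (by rw [MonObj.mul_comp, GrpObj.inv_comp, s.condition, inv_mul_cancel, Hom.one_def]),
      hker.lift_fst _ _ _⟩
  choose l hl using key
  refine GrpQuotLib.isPullback_left ⟨⟨w⟩, ⟨PullbackCone.IsLimit.mk w (fun s => lift s.snd (l s)) (fun s => ?_)
    (fun s => lift_fst _ _) fun s m h₁ h₂ => ?_⟩⟩
  · rw [MonObj.comp_mul, lift_fst, lift_snd_assoc, hl, mul_inv_cancel_left]
  · apply CartesianMonoidalCategory.hom_ext
    · rw [lift_fst, h₂]
    · rw [lift_snd, ← cancel_mono i, hl, Category.assoc, ← h₁, MonObj.comp_mul, h₂, inv_mul_cancel_left]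

variable [LocallyOfFiniteType G.hom] [LocallyOfFiniteType Q.hom]

include q in
omit [IsMonHom q] [GrpObj G] [GrpObj Q] in
theorem locallyOfFinitePresentation_left : LocallyOfFinitePresentation q.left := by
  haveI : IsLocallyNoetherian Q.left := LocallyOfFiniteType.isLocallyNoetherian Q.hom
  haveI : LocallyOfFiniteType (q.left ≫ Q.hom) := by rw [Over.w]; infer_instance
  haveI : LocallyOfFiniteType q.left := locallyOfFiniteType_of_comp q.left Q.hom
  infer_instance

variable [QuasiCompact G.hom]

include q in
omit [IsMonHom q] [GrpObj G] [LocallyOfFiniteType G.hom] [LocallyOfFiniteType Q.hom] in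
theorem quasiCompact_left : QuasiCompact q.left := by
  haveI : IsSeparated Q.hom := GrpSchLib.isSeparated_hom
  haveI : QuasiCompact (q.left ≫ Q.hom) := by rw [Over.w]; infer_instance
  exact QuasiCompact.of_comp q.left Q.hom

variable [Flat q.left] [Surjective q.left]

theorem of_kernel (P : MorphismProperty Scheme.{u}) [P.IsStableUnderBaseChange]
    [P.DescendsAlong (@Surjective ⊓ @Flat ⊓ @QuasiCompact)] (hker : AlgGrp.IsKernel i q) (hN : P N.hom) :
    P q.left := by
  haveI := quasiCompact_left q
  have h1 : P (fst G N).left := MorphismProperty.of_isPullback (P := P)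
    (IsPullback.of_hasPullback G.hom N.hom).flip hN
  exact MorphismProperty.of_isPullback_of_descendsAlong (P := P) (Q := @Surjective ⊓ @Flat ⊓ @QuasiCompact)
    (isPullback_torsor q i hker).flip ⟨⟨‹_›, ‹_›⟩, ‹_›⟩ h1

theorem connectedSpace [GrpObj N] [ConnectedSpace N.left] [ConnectedSpace Q.left] [LocallyOfFiniteType N.hom]
    (hker : AlgGrp.IsKernel i q) : ConnectedSpace G.left := by
  haveI : GeometricallyConnected N.hom := geometricallyConnected_of_section N.hom η[N].left (Over.w η[N])
  haveI : GeometricallyConnected (fst G N).left := MorphismProperty.of_isPullback (P := @GeometricallyConnected)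
    (IsPullback.of_hasPullback G.hom N.hom).flip ‹_›
  haveI := quasiCompact_left q
  haveI := locallyOfFinitePresentation_left q
  have sq := isPullback_torsor q i hker
  have hfib : ∀ y, _root_.IsConnected (q.left ⁻¹' {y}) := fun y => by
    obtain ⟨g, rfl⟩ := q.left.surjective y
    have e : q.left ⁻¹' {q.left g} = (fst G N * (snd G N ≫ i)).left '' ((fst G N).left ⁻¹' {g}) := by
      ext a
      constructor
      · intro ha
        obtain ⟨z, hz₁, hz₂⟩ := Scheme.Pullback.exists_preimage_pullback (f := q.left) (g := q.left) a g ha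
        refine ⟨sq.isoPullback.inv z, ?_, ?_⟩
        · rw [Set.mem_preimage, Set.mem_singleton_iff, ← Scheme.Hom.comp_apply, IsPullback.isoPullback_inv_snd, hz₂]
        · rw [← Scheme.Hom.comp_apply, IsPullback.isoPullback_inv_fst, hz₁]
      · rintro ⟨z, hz, rfl⟩
        rw [Set.mem_preimage, Set.mem_singleton_iff, ← Scheme.Hom.comp_apply, sq.w, Scheme.Hom.comp_apply,
          Set.mem_singleton_iff.mp hz]
    rw [e]
    exact ((fst G N).left.isConnected_preimage_singleton g).image _
      (fst G N * (snd G N ≫ i)).left.continuous.continuousOn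
  have ho : IsOpenMap q.left := q.left.isOpenMap
  have := Topology.IsCoinducing.isConnected_preimage_of_isClosed hfib
    (ho.isQuotientMap q.left.continuous q.left.surjective).isCoinducing isClosed_univ
    (connectedSpace_iff_univ.mp ‹ConnectedSpace Q.left›)
  rw [Set.preimage_univ] at this
  exact connectedSpace_iff_univ.mpr this

end

end Groth.Agent.MonoFibre.KernelFibre
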