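import Mathlib
import Groth.Agent.MonoFibre.RigidityExt
import Groth.Agent.MonoFibre.RigidityGrp

/-! The rigidity lemma for a connected second factor over an algebraically closed field. -/

set_option autoImplicit false
universe u

open CategoryTheory CategoryTheory.Limits MonoidalCategory CartesianMonoidalCategory MonObj AlgebraicGeometry

namespace Groth.Agent.MonoFibre.Rigidity

open AffPts

noncomputable section

variable {k : Type u} [Field k] {X Y Z : Over (Spec (CommRingCat.of k))}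

/-- Morphisms from `X × Y` agreeing on `X × W` for opens `W` covering `Y` are equal. -/
theorem eq_of_cover_snd (f g : X ⊗ Y ⟶ Z)
    (h : ∀ y : Y.left, ∃ (W : Over (Spec (CommRingCat.of k))) (w : W ⟶ Y), IsOpenImmersion w.left ∧
      y ∈ Set.range w.left ∧ (X ◁ w) ≫ f = (X ◁ w) ≫ g) : f = g := by
  apply Over.OverMorphism.ext
  refine Scheme.hom_ext_of_forall _ _ fun x => ?_
  obtain ⟨W, w, hw, hy, hW⟩ := h ((snd X Y).left x)
  haveI := hw
  let U : (X ⊗ Y).left.Opens := (snd X Y).left ⁻¹ᵁ w.left.opensRange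
  refine ⟨U, hy, ?_⟩
  let Q : Over (Spec (CommRingCat.of k)) := Over.mk (U.ι ≫ (X ⊗ Y).hom)
  let q : Q ⟶ X ⊗ Y := Over.homMk U.ι rfl
  have hr : Set.range (q ≫ snd X Y).left ⊆ Set.range w.left := by
    rintro _ ⟨z, rfl⟩
    exact z.2
  let l : Q ⟶ W := Over.homMk (IsOpenImmersion.lift w.left (q ≫ snd X Y).left hr) (by
    rw [← Over.w w, ← Category.assoc, IsOpenImmersion.lift_fac, Over.w])
  have hl : l ≫ w = q ≫ snd X Y := Over.OverMorphism.ext (IsOpenImmersion.lift_fac _ _ _)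
  have hq : lift (q ≫ fst X Y) l ≫ (X ◁ w) = q := by
    rw [lift_whiskerLeft, hl]
    ext1 <;> simp
  show (q ≫ f).left = (q ≫ g).left
  rw [← hq, Category.assoc, Category.assoc, hW]

/-- A point in the closure of an open set of a noetherian affine scheme specialises a minimal prime in it. -/
theorem exists_minimal_of_mem_closure {B : Type u} [CommRing B] [IsNoetherianRing B]
    {O : Set (PrimeSpectrum B)} (hO : IsOpen O) {m : PrimeSpectrum B} (hm : m ∈ closure O) :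
    ∃ p : PrimeSpectrum B, p ∈ O ∧ p ≤ m := by
  let M : Set (PrimeSpectrum B) := {p | p ∈ O ∧ p.asIdeal ∈ (⊥ : Ideal B).minimalPrimes}
  have hM : M.Finite := by
    refine Set.Finite.of_finite_image (f := PrimeSpectrum.asIdeal) ?_ fun a _ b _ h => PrimeSpectrum.ext h
    exact (Ideal.finite_minimalPrimes_of_isNoetherianRing B ⊥).subset (by rintro _ ⟨p, hp, rfl⟩; exact hp.2)
  have hsub : O ⊆ closure M := fun q hq => by
    obtain ⟨p, hp, hpq⟩ := Ideal.exists_minimalPrimes_le (bot_le : (⊥ : Ideal B) ≤ q.asIdeal)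
    have hs : (⟨p, hp.1.1⟩ : PrimeSpectrum B) ⤳ q := (PrimeSpectrum.le_iff_specializes _ q).mp hpq
    exact hs.mem_closed isClosed_closure (subset_closure ⟨hs.mem_open hO hq, hp⟩)
  have hm' : m ∈ closure M := closure_minimal hsub isClosed_closure hm
  rw [← Set.biUnion_of_singleton M, hM.closure_biUnion] at hm'
  obtain ⟨p, hp, hpm⟩ := Set.mem_iUnion₂.mp hm'
  exact ⟨p, hp.1, (PrimeSpectrum.le_iff_mem_closure p m).mpr hpm⟩

/-- `f` is constant along `X` near `y`. -/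
def Good (x₀ : 𝟙_ (Over (Spec (CommRingCat.of k))) ⟶ X) (f : X ⊗ Y ⟶ Z) (y : Y.left) : Prop :=
  ∃ (W : Over (Spec (CommRingCat.of k))) (w : W ⟶ Y), IsOpenImmersion w.left ∧ y ∈ Set.range w.left ∧
    (X ◁ w) ≫ f = (X ◁ w) ≫ snd X Y ≫ lift (toUnit Y ≫ x₀) (𝟙 Y) ≫ f

theorem isOpen_good (x₀ : 𝟙_ (Over (Spec (CommRingCat.of k))) ⟶ X) (f : X ⊗ Y ⟶ Z) :
    IsOpen {y | Good x₀ f y} :=
  isOpen_iff_forall_mem_open.mpr fun _ ⟨W, w, hw, hy, hW⟩ =>
    ⟨Set.range w.left, fun _ hz => ⟨W, w, hw, hz, hW⟩, hw.base_open.isOpen_range, hy⟩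

variable [IsAlgClosed k]

theorem good_of_mem_closure [LocallyOfFiniteType X.hom] [QuasiCompact X.hom] [LocallyOfFiniteType Y.hom]
    [IsSeparated Z.hom] (hX : Affinization.IsAffz (toUnit X)) (x₀ : 𝟙_ _ ⟶ X) (f : X ⊗ Y ⟶ Z)
    {y : Y.left} (hy : y ∈ closure {y | Good x₀ f y}) (hyc : IsClosed {y}) : Good x₀ f y := by
  let pt : ↥(Spec (CommRingCat.of k)) := IsLocalRing.closedPoint k
  haveI : IsLocallyNoetherian X.left := LocallyOfFiniteType.isLocallyNoetherian X.hom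
  haveI : IsLocallyNoetherian Y.left := LocallyOfFiniteType.isLocallyNoetherian Y.hom
  let O : Set Y.left := {y | Good x₀ f y}
  have hO : IsOpen O := isOpen_good x₀ f
  let g : Y ⟶ Z := lift (toUnit Y ≫ x₀) (𝟙 Y) ≫ f
  obtain ⟨_, ⟨V : Y.left.Opens, hV, rfl⟩, hyV, -⟩ :=
    Y.left.isBasis_affineOpens.exists_subset_of_mem_open (Set.mem_univ y) isOpen_univ
  let B : CommRingCat.{u} := Γ(Y.left, V)
  haveI : IsOpenImmersion hV.fromSpec := hV.isOpenImmersion_fromSpec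
  haveI : IsNoetherianRing B := IsLocallyNoetherian.component_noetherian ⟨V, hV⟩
  obtain ⟨m, rfl⟩ : y ∈ Set.range hV.fromSpec := by rw [hV.range_fromSpec]; exact hyV
  have hOm : IsOpen (hV.fromSpec ⁻¹' O) := hO.preimage hV.fromSpec.continuous
  have hm : m ∈ closure (hV.fromSpec ⁻¹' O) :=
    hV.fromSpec.isOpenEmbedding.isOpenMap.preimage_closure_subset_closure_preimage hy
  obtain ⟨p, hpO, hpm⟩ := exists_minimal_of_mem_closure hOm hm
  let B' := B ⧸ p.asIdeal
  let π : B ⟶ CommRingCat.of B' := CommRingCat.ofHom (Ideal.Quotient.mk p.asIdeal)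
  let W' : Over (Spec (CommRingCat.of k)) := Over.mk (Spec.map π ≫ hV.fromSpec ≫ Y.hom)
  let i : W' ⟶ Y := Over.homMk (Spec.map π ≫ hV.fromSpec) (Category.assoc _ _ _)
  haveI : IrreducibleSpace W'.left := inferInstanceAs (IrreducibleSpace (PrimeSpectrum B'))
  haveI : IsReduced W'.left := inferInstanceAs (IsReduced (Spec (CommRingCat.of B')))
  have hran : ∀ q : PrimeSpectrum B, p ≤ q → hV.fromSpec q ∈ Set.range i.left := fun q hq => by
    obtain ⟨q', hq'⟩ : q ∈ Set.range (PrimeSpectrum.comap (Ideal.Quotient.mk p.asIdeal)) := by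
      rw [range_comap_of_surjective _ _ Ideal.Quotient.mk_surjective, Ideal.mk_ker]
      exact hq
    exact ⟨q', by show hV.fromSpec (PrimeSpectrum.comap (Ideal.Quotient.mk p.asIdeal) q') = _; rw [hq']⟩
  obtain ⟨q₀, hq₀⟩ := hran p le_rfl
  obtain ⟨W, w, hw, hpw, hW⟩ : Good x₀ f (hV.fromSpec p) := hpO
  haveI := hw
  let U : W'.left.Opens := i.left ⁻¹ᵁ w.left.opensRange
  let V' : Over (Spec (CommRingCat.of k)) := Over.mk (U.ι ≫ W'.hom)
  let v : V' ⟶ W' := Over.homMk U.ι rfl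
  haveI : IsOpenImmersion v.left := inferInstanceAs (IsOpenImmersion U.ι)
  haveI : Nonempty V'.left := ⟨⟨q₀, show i.left q₀ ∈ Set.range w.left by rw [hq₀]; exact hpw⟩⟩
  have hr : Set.range (v ≫ i).left ⊆ Set.range w.left := by
    rintro _ ⟨z, rfl⟩
    exact z.2
  let l : V' ⟶ W := Over.homMk (IsOpenImmersion.lift w.left (v ≫ i).left hr) (by
    rw [← Over.w w, ← Category.assoc, IsOpenImmersion.lift_fac, Over.w])
  have hl : l ≫ w = v ≫ i := Over.OverMorphism.ext (IsOpenImmersion.lift_fac _ _ _)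
  have hW' : (X ◁ i) ≫ f = (X ◁ i) ≫ snd X Y ≫ g := by
    refine eq_of_open_eq _ _ v ?_
    rw [← whiskerLeft_comp_assoc, ← whiskerLeft_comp_assoc, ← hl, whiskerLeft_comp_assoc, hW,
      ← whiskerLeft_comp_assoc]
  obtain ⟨q, hq⟩ := hran m hpm
  haveI : LocallyOfFiniteType W'.hom := by
    haveI : LocallyOfFiniteType (Spec.map π) := (HasRingHomProperty.Spec_iff (P := @LocallyOfFiniteType)).mpr
      (RingHom.FiniteType.of_surjective _ Ideal.Quotient.mk_surjective)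
    exact inferInstanceAs (LocallyOfFiniteType (Spec.map π ≫ hV.fromSpec ≫ Y.hom))
  let yp : 𝟙_ (Over (Spec (CommRingCat.of k))) ⟶ W' := Over.homMk
    (pointOfClosedPoint W'.hom q (by
      have := i.left.continuous
      have hinj : Function.Injective i.left := fun a b hab =>
        PrimeSpectrum.comap_injective_of_surjective _ Ideal.Quotient.mk_surjective
          (hV.fromSpec.isOpenEmbedding.injective hab)
      have e : {q} = i.left ⁻¹' {hV.fromSpec m} := by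
        ext a
        exact ⟨fun ha => by rw [Set.mem_singleton_iff.mp ha, Set.mem_preimage, hq]; rfl,
          fun ha => hinj (ha.trans hq.symm)⟩
      rw [e]
      exact hyc.preimage this)) (pointOfClosedPoint_comp _ _ _)
  have hyp : (X ◁ (yp ≫ i)) ≫ f = toUnit _ ≫ (yp ≫ i ≫ g) := by
    rw [whiskerLeft_comp_assoc, hW', ← whiskerLeft_comp_assoc, whiskerLeft_snd_assoc,
      Category.assoc, toUnit_unique (toUnit (X ⊗ 𝟙_ _)) (snd X _)]
  obtain ⟨W₁, w₁, hw₁, hy₁, hW₁⟩ := exists_open_factor hX x₀ (yp ≫ i) _ f hyp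
  refine ⟨W₁, w₁, hw₁, ?_, hW₁⟩
  rw [Over.comp_left, Scheme.Hom.comp_apply] at hy₁
  change i.left (pointOfClosedPoint W'.hom q _ pt) ∈ _ at hy₁
  rwa [pointOfClosedPoint_apply, hq] at hy₁


/-- **Rigidity**: `X` with only constant functions, `Y` connected. -/
theorem eq_const_of_connected [LocallyOfFiniteType X.hom] [QuasiCompact X.hom] [LocallyOfFiniteType Y.hom]
    [IsSeparated Z.hom] [ConnectedSpace Y.left] (hX : Affinization.IsAffz (toUnit X)) (x₀ : 𝟙_ _ ⟶ X)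
    (y₀ : 𝟙_ _ ⟶ Y) (z₀ : 𝟙_ _ ⟶ Z) (f : X ⊗ Y ⟶ Z) (hf : (X ◁ y₀) ≫ f = toUnit _ ≫ z₀) :
    f = snd X Y ≫ lift (toUnit Y ≫ x₀) (𝟙 Y) ≫ f := by
  let pt : ↥(Spec (CommRingCat.of k)) := IsLocalRing.closedPoint k
  haveI : IsLocallyNoetherian X.left := LocallyOfFiniteType.isLocallyNoetherian X.hom
  haveI : IsLocallyNoetherian Y.left := LocallyOfFiniteType.isLocallyNoetherian Y.hom
  haveI : JacobsonSpace Y.left := LocallyOfFiniteType.jacobsonSpace Y.hom
  refine eq_of_cover_snd f _ ?_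
  show ∀ y, Good x₀ f y
  let O : Set Y.left := {y | Good x₀ f y}
  have hO : IsOpen O := isOpen_good x₀ f
  have hne : y₀.left pt ∈ O := by
    obtain ⟨W, w, hw, hy, hW⟩ := exists_open_factor hX x₀ y₀ z₀ f hf
    exact ⟨W, w, hw, hy, hW⟩
  have hclosed : ∀ y ∈ closure O, IsClosed {y} → y ∈ O := fun y hy hyc => good_of_mem_closure hX x₀ f hy hyc
  have hcl : IsClosed O := by
    rw [← closure_subset_iff_isClosed]
    by_contra hc
    obtain ⟨y, ⟨hy, hy'⟩, hyc⟩ := nonempty_inter_closedPoints (Z := closure O \ O)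
      (Set.diff_nonempty.mpr hc) (isClosed_closure.sdiff hO).isLocallyClosed
    exact hy' (hclosed y hy hyc)
  have huniv : O = Set.univ := IsClopen.eq_univ ⟨hcl, hO⟩ ⟨_, hne⟩
  exact fun y => show y ∈ O by rw [huniv]; trivial

/-- A morphism from `G × S` to a group, `G` anti-affine and `S` connected, splits. -/
theorem exists_decomp {G H S : Over (Spec (CommRingCat.of k))} [GrpObj G] [GrpObj H]
    [LocallyOfFiniteType G.hom] [QuasiCompact G.hom] [LocallyOfFiniteType H.hom] [LocallyOfFiniteType S.hom]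
    [ConnectedSpace S.left]
    (hG : Function.Bijective ((Scheme.ΓSpecIso (CommRingCat.of k)).inv ≫ G.hom.appTop).hom) (f : G ⊗ S ⟶ H) :
    ∃ (φ : S ⟶ H) (ψ : G ⟶ H), IsMonHom ψ ∧ f = (snd G S ≫ φ) * (fst G S ≫ ψ) ∧
      ∀ (φ' : S ⟶ H) (ψ' : G ⟶ H), IsMonHom ψ' → f = (snd G S ≫ φ') * (fst G S ≫ ψ') → φ' = φ ∧ ψ' = ψ := by
  haveI : IsSeparated H.hom := GrpSchLib.isSeparated_hom
  haveI : JacobsonSpace S.left := LocallyOfFiniteType.jacobsonSpace S.hom
  obtain ⟨s, -, hs⟩ := nonempty_inter_closedPoints (Z := (Set.univ : Set S.left)) Set.univ_nonempty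
    isClosed_univ.isLocallyClosed
  let s₀ : 𝟙_ (Over (Spec (CommRingCat.of k))) ⟶ S := Over.homMk (pointOfClosedPoint S.hom s hs)
    (pointOfClosedPoint_comp _ _ _)
  let e : G ⟶ G ⊗ S := lift (𝟙 G) (toUnit G ≫ s₀)
  let j : S ⟶ G ⊗ S := lift (toUnit S ≫ η[G]) (𝟙 S)
  let φ : S ⟶ H := j ≫ f
  let ψ : G ⟶ H := (toUnit G ≫ s₀ ≫ φ)⁻¹ * (e ≫ f)
  have hηe : η[G] ≫ e = s₀ ≫ j := by
    simp only [e, j, comp_lift, Category.comp_id, ← Category.assoc]
    congr 1
    · rw [toUnit_unique (s₀ ≫ toUnit S) (𝟙 _), Category.id_comp]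
    · rw [toUnit_unique (η[G] ≫ toUnit G) (𝟙 _), Category.id_comp]
  have hψ₁ : η[G] ≫ ψ = η[H] := by
    rw [MonObj.comp_mul, GrpObj.comp_inv, ← Category.assoc η[G] e f, hηe,
      ← Category.assoc η[G] (toUnit G), toUnit_unique (η[G] ≫ toUnit G) (𝟙 _), Category.id_comp, Category.assoc,
      inv_mul_cancel, Hom.one_def, toUnit_unique (toUnit (𝟙_ (Over (Spec (CommRingCat.of k))))) (𝟙 _),
      Category.id_comp]
  have hψ : IsMonHom ψ := isMonHom_of_one hG ψ hψ₁
  let F : G ⊗ S ⟶ H := (snd G S ≫ φ)⁻¹ * f * (fst G S ≫ ψ)⁻¹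
  have hF0 : (G ◁ s₀) ≫ F = toUnit _ ≫ η[H] := by
    have h1 : G ◁ s₀ = fst G _ ≫ e := by
      simp only [e, comp_lift, Category.comp_id, ← Category.assoc]
      rw [toUnit_unique (fst G (𝟙_ _) ≫ toUnit G) (snd G _)]
      apply CartesianMonoidalCategory.hom_ext <;> simp
    simp only [h1, Category.assoc, F, MonObj.comp_mul, GrpObj.comp_inv]
    rw [show e ≫ snd G S ≫ φ = toUnit G ≫ s₀ ≫ φ by simp [e],
      show e ≫ fst G S ≫ ψ = ψ by simp [e]]
    simp only [ψ, MonObj.comp_mul, GrpObj.comp_inv, mul_inv_cancel]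
    exact Hom.one_def
  have hF := eq_const_of_connected (isAffz_of_bijective hG) η[G] s₀ η[H] F hF0
  have hF1 : F = 1 := by
    rw [hF]
    simp only [F, MonObj.comp_mul, GrpObj.comp_inv]
    rw [show lift (toUnit S ≫ η[G]) (𝟙 S) ≫ snd G S ≫ φ = φ by simp,
      show lift (toUnit S ≫ η[G]) (𝟙 S) ≫ fst G S ≫ ψ = 1 by simp [hψ₁, Hom.one_def]]
    simp [φ, j, MonObj.comp_one]
  refine ⟨φ, ψ, hψ, ?_, fun φ' ψ' hψ' h => ?_⟩
  · rw [mul_inv_eq_one, inv_mul_eq_iff_eq_mul] at hF1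
    exact hF1
  · haveI := hψ'
    have hφ : φ' = φ := by
      rw [show φ = j ≫ f from rfl, h, MonObj.comp_mul]
      simp [j, IsMonHom.one_hom ψ', Hom.one_def]
    refine ⟨hφ, ?_⟩
    rw [show ψ = (toUnit G ≫ s₀ ≫ φ)⁻¹ * (e ≫ f) from rfl, h, MonObj.comp_mul,
      show e ≫ snd G S ≫ φ' = toUnit G ≫ s₀ ≫ φ' by simp [e], show e ≫ fst G S ≫ ψ' = ψ' by simp [e],
      hφ, inv_mul_cancel_left]

end

end Groth.Agent.MonoFibre.Rigidity
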