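import Groth.Agent.MonoFibre.RedSubgroup
import Groth.Agent.MonoFibre.HomFlat
import Groth.Agent.HopfFF.Image
import Groth.Agent.FpqcDesc.Basic

/-!
# A quasi-compact monomorphism of groups over a field into an affine group is a closed immersion
-/

set_option autoImplicit false

universe u

open CategoryTheory MonoidalCategory CartesianMonoidalCategory MonObj GrpObj AlgebraicGeometry Limits Opposite

noncomputable section

namespace Groth.Agent.MonoFibre

open GrpSchLib

variable {K : Type u} [Field K] {G H : Over (Spec (CommRingCat.of K))} [GrpObj G] [GrpObj H]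

/-- The affine case, by faithful flatness over Hopf subalgebras. -/
theorem isClosedImmersion_of_mono_affine [IsAffine G.left] [IsAffine H.left] (u : G ⟶ H) [IsMonHom u] [Mono u] :
    IsClosedImmersion u.left := by
  obtain ⟨A, ⟨eA⟩⟩ := essImage_hopfSpec.mpr (show IsAffine (Grp.mk G).X.left by assumption)
  obtain ⟨B, ⟨eB⟩⟩ := essImage_hopfSpec.mpr (show IsAffine (Grp.mk H).X.left by assumption)
  let v : Grp.mk G ⟶ Grp.mk H := Grp.homMk' (Mon.Hom.mk' u)
  let φ := hopfSpec.fullyFaithful.preimage (eA.hom ≫ v ≫ eB.inv)
  let f : B.unop →ₐc[K] A.unop := φ.unop.hom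
  have hφ : ((hopfSpec (CommRingCat.of K)).map φ).hom.hom.left = Spec.map (CommRingCat.ofHom (f : B.unop →+* A.unop)) := rfl
  have hu : eA.hom.hom.hom.left ≫ u.left ≫ eB.inv.hom.hom.left =
      Spec.map (CommRingCat.ofHom (f : B.unop →+* A.unop)) := by
    rw [← hφ, hopfSpec.fullyFaithful.map_preimage]; rfl
  haveI : IsIso eA.hom.hom.hom.left :=
    ((Over.forget _).mapIso ((Grp.forget _).mapIso eA)).isIso_hom
  haveI : IsIso eB.inv.hom.hom.left :=
    ((Over.forget _).mapIso ((Grp.forget _).mapIso eB)).isIso_inv
  haveI hmA : Mono eA.hom.hom.hom.left := @IsIso.mono_of_iso _ _ _ _ _ ((Over.forget _).mapIso ((Grp.forget _).mapIso eA)).isIso_hom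
  haveI hmB : Mono eB.inv.hom.hom.left := @IsIso.mono_of_iso _ _ _ _ _ ((Over.forget _).mapIso ((Grp.forget _).mapIso eB)).isIso_inv
  suffices h : Function.Surjective f by
    haveI : IsClosedImmersion (eA.hom.hom.hom.left ≫ u.left ≫ eB.inv.hom.hom.left) := by
      rw [hu]; exact IsClosedImmersion.spec_of_surjective _ h
    rwa [MorphismProperty.cancel_left_of_respectsIso @IsClosedImmersion,
      MorphismProperty.cancel_right_of_respectsIso @IsClosedImmersion] at this
  let R := (f : B.unop →ₐ[K] A.unop).range
  let g : B.unop →+* R := ((f : B.unop →ₐ[K] A.unop).rangeRestrict : B.unop →+* R)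
  have hfg : Spec.map (CommRingCat.ofHom R.val.toRingHom) ≫ Spec.map (CommRingCat.ofHom g) =
      Spec.map (CommRingCat.ofHom (f : B.unop →+* A.unop)) := by
    rw [← Spec.map_comp, ← CommRingCat.ofHom_comp]; rfl
  haveI : Mono u.left := inferInstance
  haveI : Mono (Spec.map (CommRingCat.ofHom R.val.toRingHom) ≫ Spec.map (CommRingCat.ofHom g)) := by
    rw [hfg, ← hu]
    exact mono_comp' hmA (mono_comp' (inferInstanceAs (Mono u.left)) hmB)
  haveI : Mono (Spec.map (CommRingCat.ofHom R.val.toRingHom)) := mono_of_mono _ (Spec.map (CommRingCat.ofHom g))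
  have hff : (R.val : R →+* A.unop).FaithfullyFlat := HopfFF.faithfullyFlat_range f
  haveI : Flat (Spec.map (CommRingCat.ofHom R.val.toRingHom)) :=
    (HasRingHomProperty.Spec_iff (P := @Flat)).2 hff.flat
  haveI : Surjective (Spec.map (CommRingCat.ofHom R.val.toRingHom)) := ⟨(RingHom.FaithfullyFlat.iff_flat_and_comap_surjective.mp hff).2⟩
  haveI := Flat.isIso_of_surjective_of_mono (Spec.map (CommRingCat.ofHom R.val.toRingHom))
  haveI : IsIso ((Scheme.Spec).map (CommRingCat.ofHom R.val.toRingHom).op) :=
    ‹IsIso (Spec.map (CommRingCat.ofHom R.val.toRingHom))›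
  haveI : IsIso (CommRingCat.ofHom R.val.toRingHom).op := Spec.fullyFaithful.isIso_of_isIso_map _
  haveI : IsIso (CommRingCat.ofHom R.val.toRingHom) := isIso_of_op _
  intro a
  obtain ⟨⟨r, b, hb⟩, hr⟩ := (ConcreteCategory.bijective_of_isIso (CommRingCat.ofHom R.val.toRingHom)).2 a
  exact ⟨b, hb.trans hr⟩

/-- Over a perfect field, a quasi-compact monomorphism of groups is universally closed. -/
theorem universallyClosed_of_mono_perfect [PerfectField K] (u : G ⟶ H) [IsMonHom u] [Mono u] [QuasiCompact u.left] :
    UniversallyClosed u.left := by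
  obtain ⟨G₀, _, iG, _, _, hG₀red, hG₀⟩ := exists_redSubgroup (G := G) Set.univ isClosed_univ trivial
    (fun _ _ _ _ _ => trivial) (fun _ _ _ => trivial)
  let A := Set.range u.left
  obtain ⟨H₀, _, iH, _, _, hH₀red, hH₀⟩ := exists_redSubgroup (G := H) (closure A) isClosed_closure
    (subset_closure ⟨unitPt G, by
      exact congrArg (fun m : 𝟙_ (Over (Spec (CommRingCat.of K))) ⟶ H => m.left (IsLocalRing.closedPoint K))
        (IsMonHom.one_hom u)⟩)
    (fun a b t ha hb => mul_mem_closure u a b t ha hb) (fun a t ha => inv_mem_closure u a t ha)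
  haveI := hH₀red
  haveI : IsReduced G₀.left := hG₀red
  obtain ⟨z, hz⟩ : ∃ z : G₀.left ⟶ H₀.left, z ≫ iH.left = iG.left ≫ u.left := by
    refine ⟨IsClosedImmersion.lift iH.left (iG.left ≫ u.left) ?_, IsClosedImmersion.lift_fac _ _ _⟩
    rw [← Scheme.IdealSheafData.map_bot (f := iG.left ≫ u.left), ← Scheme.nilradical_eq_bot,
      ← Scheme.IdealSheafData.vanishingIdeal_top, Scheme.IdealSheafData.map_vanishingIdeal]
    refine (Scheme.IdealSheafData.le_support_iff_le_vanishingIdeal).mp ?_
    refine closure_minimal ?_ (Scheme.IdealSheafData.support _).isClosed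
    rintro _ ⟨x, -, rfl⟩
    rw [Scheme.Hom.support_ker]
    have : (iG.left ≫ u.left) x ∈ closure A := subset_closure ⟨iG.left x, rfl⟩
    rw [← hH₀] at this
    exact subset_closure this
  let w : G₀ ⟶ H₀ := Over.homMk z (by rw [← Over.w iH, ← Category.assoc, hz, Category.assoc, Over.w u, Over.w iG])
  have hw : w ≫ iH = iG ≫ u := Over.OverMorphism.ext hz
  haveI : Mono iH := (Over.forget _).mono_of_mono_map (show Mono iH.left by infer_instance)
  haveI : Mono iG := (Over.forget _).mono_of_mono_map (show Mono iG.left by infer_instance)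
  haveI : Mono w := by
    haveI : Mono (w ≫ iH) := hw ▸ mono_comp iG u
    exact mono_of_mono w iH
  haveI : IsMonHom w := by
    refine ⟨?_, ?_⟩
    · rw [← cancel_mono iH, Category.assoc, hw, ← Category.assoc, IsMonHom.one_hom, IsMonHom.one_hom, IsMonHom.one_hom]
    · rw [← cancel_mono iH, Category.assoc, hw, ← Category.assoc, IsMonHom.mul_hom, Category.assoc, IsMonHom.mul_hom,
        Category.assoc, IsMonHom.mul_hom, ← Category.assoc, ← Category.assoc, tensorHom_comp_tensorHom,
        tensorHom_comp_tensorHom, hw]
  haveI : QuasiCompact w.left := by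
    haveI : QuasiCompact (w.left ≫ iH.left) := by
      rw [← Over.comp_left, hw, Over.comp_left]; infer_instance
    exact QuasiCompact.of_comp w.left iH.left
  have hd : DenseRange w.left := by
    intro x
    rw [iH.left.isEmbedding.closure_eq_preimage_closure_image]
    show iH.left x ∈ closure _
    have hr : iH.left '' Set.range w.left = A := by
      rw [← Set.range_comp, ← TopCat.coe_comp, ← Scheme.Hom.comp_base, ← Over.comp_left, hw, Over.comp_left,
        Scheme.Hom.comp_base, TopCat.coe_comp, Set.range_comp, hG₀, Set.image_univ]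
    rw [hr, ← hH₀]
    exact ⟨x, rfl⟩
  haveI := flat_of_denseRange w hd
  haveI := surjective_of_denseRange w hd
  haveI : Mono w.left := inferInstance
  haveI := Flat.isIso_of_surjective_of_mono w.left
  haveI : IsClosedImmersion (iG.left ≫ u.left) := by
    rw [← hz]
    haveI : IsClosedImmersion z := inferInstanceAs (IsClosedImmersion w.left)
    infer_instance
  haveI : Surjective iG.left := ⟨Set.range_eq_univ.mp hG₀⟩
  exact UniversallyClosed.of_comp_surjective iG.left u.left

/-- Over a perfect field, a quasi-compact monomorphism of groups is a closed embedding. -/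
theorem isClosedEmbedding_of_mono_perfect [PerfectField K] (u : G ⟶ H) [IsMonHom u] [Mono u] [QuasiCompact u.left] :
    Topology.IsClosedEmbedding u.left := by
  haveI := universallyClosed_of_mono_perfect u
  haveI : UniversallyInjective u.left := inferInstance
  exact Topology.IsClosedEmbedding.of_continuous_injective_isClosedMap u.left.continuous u.left.injective u.left.isClosedMap

/-- A quasi-compact monomorphism into an affine group over a perfect field is a closed immersion. -/
theorem isClosedImmersion_of_mono_perfect [PerfectField K] [IsAffine H.left] (u : G ⟶ H) [IsMonHom u] [Mono u]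
    [QuasiCompact u.left] : IsClosedImmersion u.left := by
  have h := isClosedEmbedding_of_mono_perfect u
  haveI : IsAffineHom u.left := isAffineHom_of_isInducing _ h.isInducing h.isClosed_range
  haveI : IsAffine G.left := isAffine_of_isAffineHom u.left
  exact isClosedImmersion_of_mono_affine u

/-- A quasi-compact monomorphism of groups over a field into an affine group is a closed immersion. -/
theorem isClosedImmersion_of_mono [IsAffine H.left] (u : G ⟶ H) [IsMonHom u] [Mono u]
    [QuasiCompact u.left] : IsClosedImmersion u.left := by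
  let j : Spec (CommRingCat.of (AlgebraicClosure K)) ⟶ Spec (CommRingCat.of K) :=
    Spec.map (CommRingCat.ofHom (algebraMap K (AlgebraicClosure K)))
  let u' : Red.bc j G ⟶ Red.bc j H := (Over.pullback j).map u
  have sq : IsPullback u'.left (pullback.fst G.hom j) (pullback.fst H.hom j) u.left := by
    refine IsPullback.of_right (h₁₂ := pullback.snd H.hom j) (v₁₃ := j) (h₂₂ := H.hom) ?_ ?_
      (IsPullback.of_hasPullback H.hom j).flip
    · rw [Over.w u, show u'.left ≫ pullback.snd H.hom j = pullback.snd G.hom j from Over.w u']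
      exact (IsPullback.of_hasPullback G.hom j).flip
    · simp [u']; exact pullback.lift_fst _ _ _
  haveI : IsAffineHom j := inferInstanceAs (IsAffineHom (Spec.map _))
  haveI : Surjective j := inferInstanceAs (Surjective (Spec.map (CommRingCat.ofHom (algebraMap K (AlgebraicClosure K)))))
  haveI : IsAffine (Red.bc j H).left := @isAffine_of_isAffineHom _ _ (pullback.fst H.hom j)
    (MorphismProperty.of_isPullback (P := @IsAffineHom) (IsPullback.of_hasPullback H.hom j).flip inferInstance) inferInstance
  haveI : QuasiCompact u'.left := MorphismProperty.of_isPullback (P := @QuasiCompact) sq.flip inferInstance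
  haveI : Mono u' := inferInstanceAs (Mono ((Over.pullback j).map u))
  haveI : IsMonHom u' := inferInstanceAs (IsMonHom ((Over.pullback j).map u))
  have h := isClosedImmersion_of_mono_perfect u'
  haveI := FpqcDesc.isClosedImmersion_descends.{u}
  exact MorphismProperty.of_isPullback_of_descendsAlong (P := @IsClosedImmersion)
    (Q := @Surjective ⊓ @Flat ⊓ @QuasiCompact) sq
    ⟨⟨inferInstanceAs (Surjective (pullback.fst H.hom j)),
      MorphismProperty.of_isPullback (P := @Flat) (IsPullback.of_hasPullback H.hom j).flip
        (flat_to_field (Field.toIsField K) j)⟩, inferInstanceAs (QuasiCompact (pullback.fst H.hom j))⟩ h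

/-- A quasi-compact monomorphism of groups over a field is universally closed. -/
theorem universallyClosed_of_mono (u : G ⟶ H) [IsMonHom u] [Mono u]
    [QuasiCompact u.left] : UniversallyClosed u.left := by
  let j : Spec (CommRingCat.of (AlgebraicClosure K)) ⟶ Spec (CommRingCat.of K) :=
    Spec.map (CommRingCat.ofHom (algebraMap K (AlgebraicClosure K)))
  let u' : Red.bc j G ⟶ Red.bc j H := (Over.pullback j).map u
  have sq : IsPullback u'.left (pullback.fst G.hom j) (pullback.fst H.hom j) u.left := by
    refine IsPullback.of_right (h₁₂ := pullback.snd H.hom j) (v₁₃ := j) (h₂₂ := H.hom) ?_ ?_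
      (IsPullback.of_hasPullback H.hom j).flip
    · rw [Over.w u, show u'.left ≫ pullback.snd H.hom j = pullback.snd G.hom j from Over.w u']
      exact (IsPullback.of_hasPullback G.hom j).flip
    · simp [u']; exact pullback.lift_fst _ _ _
  haveI : IsAffineHom j := inferInstanceAs (IsAffineHom (Spec.map _))
  haveI : Surjective j := inferInstanceAs (Surjective (Spec.map (CommRingCat.ofHom (algebraMap K (AlgebraicClosure K)))))
  haveI : QuasiCompact u'.left := MorphismProperty.of_isPullback (P := @QuasiCompact) sq.flip inferInstance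
  haveI : Mono u' := inferInstanceAs (Mono ((Over.pullback j).map u))
  haveI : IsMonHom u' := inferInstanceAs (IsMonHom ((Over.pullback j).map u))
  have h := universallyClosed_of_mono_perfect u'
  exact MorphismProperty.of_isPullback_of_descendsAlong (P := @UniversallyClosed)
    (Q := @Surjective ⊓ @Flat ⊓ @QuasiCompact) sq
    ⟨⟨inferInstanceAs (Surjective (pullback.fst H.hom j)),
      MorphismProperty.of_isPullback (P := @Flat) (IsPullback.of_hasPullback H.hom j).flip
        (flat_to_field (Field.toIsField K) j)⟩, inferInstanceAs (QuasiCompact (pullback.fst H.hom j))⟩ h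


end Groth.Agent.MonoFibre
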