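import Mathlib
import Groth.Agent.MonoFibre.MonoAffine
import Groth.Agent.MonoFibre.AffineTarget
import Groth.Agent.Thicken.Hom
import Groth.Agent.FpqcDesc.Basic

/-! A quasi-compact homomorphism of group schemes over a field with affine kernel is affine. -/

set_option autoImplicit false
universe u

open CategoryTheory CategoryTheory.Limits MonoidalCategory CartesianMonoidalCategory MonObj AlgebraicGeometry

noncomputable section

namespace Groth.Agent.MonoFibre

open GrpSchLib

variable {K : Type u} [Field K]

/-- The kernel of a homomorphism is a group. -/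
theorem exists_grpObj_kernel {G H : Over (Spec (CommRingCat.of K))} [GrpObj G] [GrpObj H] (f : G ⟶ H) [IsMonHom f] :
    ∃ _ : GrpObj (pullback f η[H]), IsMonHom (pullback.fst f η[H]) := by
  let N := pullback f η[H]
  let a : N ⟶ G := pullback.fst f η[H]
  haveI : Mono η[H] := SplitMono.mono ⟨toUnit H, toUnit_unique _ _⟩
  haveI : Mono a := inferInstance
  have ha : a ≫ f = 1 := by
    rw [Hom.one_def, toUnit_unique (toUnit N) (pullback.snd f η[H])]
    exact pullback.condition
  have hlift : ∀ {T : Over (Spec (CommRingCat.of K))} (x : T ⟶ G), x ≫ f = 1 → ∃ z : T ⟶ N, z ≫ a = x :=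
    fun {T} x hx => ⟨pullback.lift x (toUnit T) (by rw [hx, Hom.one_def]), pullback.lift_fst _ _ _⟩
  obtain ⟨m, hm⟩ := hlift (fst N N ≫ a * snd N N ≫ a) (by
    rw [MonObj.mul_comp, Category.assoc, Category.assoc, ha, MonObj.comp_one, MonObj.comp_one, _root_.mul_one])
  obtain ⟨e, he⟩ := hlift (1 : 𝟙_ (Over (Spec (CommRingCat.of K))) ⟶ G) (by rw [MonObj.one_comp])
  obtain ⟨ν, hν⟩ := hlift a⁻¹ (by rw [GrpObj.inv_comp, ha, inv_one])
  have hmT : ∀ {T : Over (Spec (CommRingCat.of K))} (x y : T ⟶ N), lift x y ≫ m ≫ a = (x ≫ a) * (y ≫ a) :=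
    fun x y => by rw [hm, MonObj.comp_mul, lift_fst_assoc, lift_snd_assoc]
  have heT : ∀ {T : Over (Spec (CommRingCat.of K))} (t : T ⟶ 𝟙_ (Over (Spec (CommRingCat.of K)))),
      t ≫ e ≫ a = 1 := fun t => by rw [he, MonObj.comp_one]
  have h1 : e ▷ N ≫ m = (λ_ N).hom := by
    rw [← cancel_mono a, Category.assoc, hm, MonObj.comp_mul, whiskerRight_fst_assoc, whiskerRight_snd_assoc,
      heT, _root_.one_mul, leftUnitor_hom]
  have h2 : N ◁ e ≫ m = (ρ_ N).hom := by
    rw [← cancel_mono a, Category.assoc, hm, MonObj.comp_mul, whiskerLeft_fst_assoc, whiskerLeft_snd_assoc,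
      heT, _root_.mul_one, rightUnitor_hom]
  have h3 : m ▷ N ≫ m = (α_ N N N).hom ≫ N ◁ m ≫ m := by
    rw [← cancel_mono a]
    simp only [Category.assoc, hm, MonObj.comp_mul, whiskerRight_fst_assoc, whiskerRight_snd_assoc,
      whiskerLeft_fst_assoc, whiskerLeft_snd_assoc, associator_hom_fst_assoc, associator_hom_snd_fst_assoc,
      associator_hom_snd_snd_assoc, _root_.mul_assoc]
  let M : MonObj N := { one := e, mul := m, one_mul := h1, mul_one := h2, mul_assoc := h3 }
  have hl : lift ν (𝟙 N) ≫ m = toUnit N ≫ e := by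
    rw [← cancel_mono a, Category.assoc, Category.assoc, hmT, hν, Category.id_comp, inv_mul_cancel, heT]
  have hr : lift (𝟙 N) ν ≫ m = toUnit N ≫ e := by
    rw [← cancel_mono a, Category.assoc, Category.assoc, hmT, hν, Category.id_comp, mul_inv_cancel, heT]
  refine ⟨{ toMonObj := M, inv := ν, left_inv := hl, right_inv := hr }, ⟨?_, ?_⟩⟩
  · show e ≫ a = η[G]
    rw [he, Hom.one_def, toUnit_unique (toUnit _) (𝟙 _), Category.id_comp]
  · show m ≫ a = (a ⊗ₘ a) ≫ μ[G]
    rw [hm, Hom.mul_def]
    congr 1

/-- A quasi-compact homomorphism over a perfect field with affine kernel is affine. -/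
theorem isAffineHom_of_affine_kernel_perfect [PerfectField K] {G H : Over (Spec (CommRingCat.of K))} [GrpObj G]
    [GrpObj H] (u : G ⟶ H) [IsMonHom u] [QuasiCompact u.left] [IsAffine (pullback u η[H]).left] :
    IsAffineHom u.left := by
  obtain ⟨G₀, _, iG, _, _, hG₀red, hG₀⟩ := exists_redSubgroup (G := G) Set.univ isClosed_univ trivial
    (fun _ _ _ _ _ => trivial) (fun _ _ _ => trivial)
  let A := Set.range u.left
  obtain ⟨H₀, _, iH, _, _, hH₀red, hH₀⟩ := exists_redSubgroup (G := H) (closure A) isClosed_closure
    (subset_closure ⟨unitPt G, by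
      exact congrArg (fun m : 𝟙_ (Over (Spec (CommRingCat.of K))) ⟶ H => m.left (IsLocalRing.closedPoint K))
        (IsMonHom.one_hom u)⟩)
    (fun a b t ha hb => mul_mem_closure u a b t ha hb) (fun a t ha => inv_mem_closure u a t ha)
  haveI := hH₀red
  haveI : IsReduced G₀.left := hG₀red
  obtain ⟨z, hz⟩ : ∃ z : G₀.left ⟶ H₀.left, z ≫ iH.left = iG.left ≫ u.left := by
    refine ⟨IsClosedImmersion.lift iH.left (iG.left ≫ u.left) ?_, IsClosedImmersion.lift_fac _ _ _⟩
    rw [← Scheme.IdealSheafData.map_bot (f := iG.left ≫ u.left), ← Scheme.nilradical_eq_bot,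
      ← Scheme.IdealSheafData.vanishingIdeal_top, Scheme.IdealSheafData.map_vanishingIdeal]
    refine (Scheme.IdealSheafData.le_support_iff_le_vanishingIdeal).mp ?_
    refine closure_minimal ?_ (Scheme.IdealSheafData.support _).isClosed
    rintro _ ⟨x, -, rfl⟩
    rw [Scheme.Hom.support_ker]
    have : (iG.left ≫ u.left) x ∈ closure A := subset_closure ⟨iG.left x, rfl⟩
    rw [← hH₀] at this
    exact subset_closure this
  let w : G₀ ⟶ H₀ := Over.homMk z (by rw [← Over.w iH, ← Category.assoc, hz, Category.assoc, Over.w u, Over.w iG])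
  have hw : w ≫ iH = iG ≫ u := Over.OverMorphism.ext hz
  haveI : Mono iH := (Over.forget _).mono_of_mono_map (show Mono iH.left by infer_instance)
  haveI : Mono iG := (Over.forget _).mono_of_mono_map (show Mono iG.left by infer_instance)
  haveI : IsMonHom w := by
    refine ⟨?_, ?_⟩
    · rw [← cancel_mono iH, Category.assoc, hw, ← Category.assoc, IsMonHom.one_hom, IsMonHom.one_hom, IsMonHom.one_hom]
    · rw [← cancel_mono iH, Category.assoc, hw, ← Category.assoc, IsMonHom.mul_hom, Category.assoc, IsMonHom.mul_hom,
        Category.assoc, IsMonHom.mul_hom, ← Category.assoc, ← Category.assoc, tensorHom_comp_tensorHom,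
        tensorHom_comp_tensorHom, hw]
  haveI : QuasiCompact w.left := by
    haveI : QuasiCompact (w.left ≫ iH.left) := by
      rw [← Over.comp_left, hw, Over.comp_left]; infer_instance
    exact QuasiCompact.of_comp w.left iH.left
  have hd : DenseRange w.left := by
    intro x
    rw [iH.left.isEmbedding.closure_eq_preimage_closure_image]
    show iH.left x ∈ closure _
    have hr : iH.left '' Set.range w.left = A := by
      rw [← Set.range_comp, ← TopCat.coe_comp, ← Scheme.Hom.comp_base, ← Over.comp_left, hw, Over.comp_left,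
        Scheme.Hom.comp_base, TopCat.coe_comp, Set.range_comp, hG₀, Set.image_univ]
    rw [hr, ← hH₀]
    exact ⟨x, rfl⟩
  haveI := flat_of_denseRange w hd
  haveI := surjective_of_denseRange w hd
  -- the kernel of `w` is a closed subscheme of the kernel of `u`
  let N := pullback w η[H₀]
  let N' := pullback u η[H]
  let j : N ⟶ N' := pullback.lift (pullback.fst w η[H₀] ≫ iG) (pullback.snd w η[H₀]) (by
    rw [Category.assoc, ← hw, ← Category.assoc, pullback.condition, Category.assoc, IsMonHom.one_hom])
  haveI : Mono η[H] := SplitMono.mono ⟨toUnit H, toUnit_unique _ _⟩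
  haveI : Mono η[H₀] := SplitMono.mono ⟨toUnit H₀, toUnit_unique _ _⟩
  haveI : IsClosedImmersion j.left := by
    have P₀ := ((IsPullback.of_hasPullback w η[H₀]).map (Over.forget _))
    haveI : IsClosedImmersion η[H₀].left := isClosedImmersion_unit
    haveI : IsClosedImmersion η[H].left := isClosedImmersion_unit
    haveI : IsClosedImmersion (pullback.fst w η[H₀]).left :=
      MorphismProperty.of_isPullback (P := @IsClosedImmersion) P₀.flip ‹IsClosedImmersion η[H₀].left›
    haveI : IsClosedImmersion (pullback.fst u η[H]).left :=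
      MorphismProperty.of_isPullback (P := @IsClosedImmersion)
        ((IsPullback.of_hasPullback u η[H]).map (Over.forget _)).flip ‹IsClosedImmersion η[H].left›
    haveI : IsClosedImmersion (j.left ≫ (pullback.fst u η[H]).left) := by
      rw [← Over.comp_left, pullback.lift_fst, Over.comp_left]; infer_instance
    exact IsClosedImmersion.of_comp_isClosedImmersion _ (pullback.fst u η[H]).left
  haveI : IsAffine N.left := isAffine_of_isAffineHom j.left
  haveI : IsAffineHom w.left := by
    have hN : AlgGrp.IsKernel (pullback.fst w η[H₀]) w := by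
      rw [AlgGrp.IsKernel, toUnit_unique (toUnit N) (pullback.snd w η[H₀])]
      exact IsPullback.of_hasPullback w η[H₀]
    have P := (isPullback_kernel_translate (pullback.fst w η[H₀]) w hN).map (Over.forget _)
    haveI : IsAffineHom N.hom := inferInstance
    haveI : IsAffineHom (fst G₀ N).left :=
      MorphismProperty.of_isPullback (P := @IsAffineHom) GrpSchLib.isPullback_fst_snd.flip ‹IsAffineHom N.hom›
    haveI := FpqcDesc.isAffineHom_descends.{u}
    exact MorphismProperty.of_isPullback_of_descendsAlong (P := @IsAffineHom)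
      (Q := @Surjective ⊓ @Flat ⊓ @QuasiCompact) P.flip
      ⟨⟨‹Surjective w.left›, ‹Flat w.left›⟩, ‹QuasiCompact w.left›⟩ ‹IsAffineHom (fst G₀ N).left›
  haveI : Surjective iG.left := ⟨Set.range_eq_univ.mp hG₀⟩
  haveI : IsAffineHom (iG.left ≫ u.left) := by
    rw [← hz]
    haveI : IsAffineHom z := inferInstanceAs (IsAffineHom w.left)
    infer_instance
  exact (Thicken.isAffineHom_iff_of_thickening iG.left (𝟙 H.left) (iG.left ≫ u.left) u.left
    (Category.comp_id _).symm).mp ‹_›

/-- A quasi-compact homomorphism of groups over a field with affine kernel is affine. -/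
theorem isAffineHom_of_affine_kernel {G H : Over (Spec (CommRingCat.of K))} [GrpObj G] [GrpObj H] (u : G ⟶ H)
    [IsMonHom u] [QuasiCompact u.left] [IsAffine (pullback u η[H]).left] : IsAffineHom u.left := by
  let j : Spec (CommRingCat.of (AlgebraicClosure K)) ⟶ Spec (CommRingCat.of K) :=
    Spec.map (CommRingCat.ofHom (algebraMap K (AlgebraicClosure K)))
  let u' : Red.bc j G ⟶ Red.bc j H := (Over.pullback j).map u
  have sq : IsPullback u'.left (pullback.fst G.hom j) (pullback.fst H.hom j) u.left := by
    refine IsPullback.of_right (h₁₂ := pullback.snd H.hom j) (v₁₃ := j) (h₂₂ := H.hom) ?_ ?_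
      (IsPullback.of_hasPullback H.hom j).flip
    · rw [Over.w u, show u'.left ≫ pullback.snd H.hom j = pullback.snd G.hom j from Over.w u']
      exact (IsPullback.of_hasPullback G.hom j).flip
    · simp [u']; exact pullback.lift_fst _ _ _
  haveI : Surjective j := inferInstanceAs (Surjective (Spec.map (CommRingCat.ofHom (algebraMap K (AlgebraicClosure K)))))
  haveI : QuasiCompact u'.left := MorphismProperty.of_isPullback (P := @QuasiCompact) sq.flip inferInstance
  haveI : IsMonHom u' := inferInstanceAs (IsMonHom ((Over.pullback j).map u))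
  haveI : IsAffine (pullback u' η[Red.bc j H]).left := by
    have P := (IsPullback.of_hasPullback u η[H]).map (Over.pullback j)
    have P' : IsPullback ((Over.pullback j).map (pullback.fst u η[H]))
        ((Over.pullback j).map (pullback.snd u η[H]) ≫ inv (Functor.LaxMonoidal.ε (Over.pullback j))) u'
        η[Red.bc j H] := by
      refine P.of_iso (Iso.refl _) (Iso.refl _) (asIso (Functor.LaxMonoidal.ε (Over.pullback j))).symm (Iso.refl _)
        (by simp) (by simp) (by simp [u']) ?_
      rw [Iso.refl_hom, Category.comp_id, Iso.symm_hom, asIso_inv]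
      exact (IsIso.inv_hom_id_assoc _ _).symm
    haveI : IsAffine (pullback (pullback u η[H]).hom j) := inferInstance
    haveI : IsAffine ((Over.pullback j).obj (pullback u η[H])).left := ‹IsAffine (pullback (pullback u η[H]).hom j)›
    haveI : IsIso (P'.isoPullback.inv).left := ((Over.forget _).mapIso P'.isoPullback).isIso_inv
    exact IsAffine.of_isIso (P'.isoPullback.inv).left
  have h := isAffineHom_of_affine_kernel_perfect u'
  haveI := FpqcDesc.isAffineHom_descends.{u}
  exact MorphismProperty.of_isPullback_of_descendsAlong (P := @IsAffineHom)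
    (Q := @Surjective ⊓ @Flat ⊓ @QuasiCompact) sq
    ⟨⟨inferInstanceAs (Surjective (pullback.fst H.hom j)),
      MorphismProperty.of_isPullback (P := @Flat) (IsPullback.of_hasPullback H.hom j).flip
        (flat_to_field (Field.toIsField K) j)⟩, inferInstanceAs (QuasiCompact (pullback.fst H.hom j))⟩ h

end Groth.Agent.MonoFibre
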