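import Mathlib
import Groth.Agent.MonoFibre.AffinizationFlat
import Groth.Agent.MonoFibre.KernelFibre
import Groth.Agent.MonoFibre.RedSubgroup
import Groth.Agent.MonoFibre.HomFlat
import Groth.Agent.MonoFibre.AntiAffine
import Groth.Agent.GrpQuotLib.OnePointGrp
import Groth.Agent.GrpSchLib.Smooth
import Groth.Agent.MonoFibre.AffineKernel

/-! The kernel of the affinization map is anti-affine; anti-affine groups are smooth. -/

set_option autoImplicit false
universe u

open CategoryTheory CategoryTheory.Limits MonoidalCategory CartesianMonoidalCategory MonObj GrpObj AlgebraicGeometry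

namespace Groth.Agent.MonoFibre.KerAntiAffine

/-- Global sections commute with flat base change over an affine scheme; in particular an isomorphism on
global sections is preserved. -/
theorem isIso_appTop_of_isPullback {X Y S T : Scheme.{u}} {f : T ⟶ S} {g : Y ⟶ X} {iX : X ⟶ S} {iY : Y ⟶ T}
    (H : IsPullback g iY iX f) [Flat f] [IsAffine S] [CompactSpace X] [QuasiSeparatedSpace X] [CompactSpace T]
    [QuasiSeparatedSpace T] [IsIso iX.appTop] : IsIso iY.appTop := by
  have hpo := (isIso_pushoutSection_iff (US := ⊤) (UT := ⊤) (UX := ⊤) (UY := ⊤) H (by simp) (by simp)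
      (by simp)).mp
    (isIso_pushoutSection_of_isCompact_of_flat_right_of_ringHomFlat H _ _ _ (isAffineOpen_top _)
      isCompact_univ isQuasiSeparated_univ isCompact_univ isQuasiSeparated_univ
      (by
        simpa [Scheme.Hom.appLE, Scheme.Hom.appTop] using
          RingHom.Flat.of_bijective ((ConcreteCategory.isIso_iff_bijective iX.appTop).mp inferInstance)))
  have hpo' : IsPushout iX.appTop f.appTop g.appTop iY.appTop := by
    simpa [Scheme.Hom.appLE, Scheme.Hom.appTop] using hpo
  exact hpo'.isIso_inr_of_isIso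

variable {k : Type u} [Field k]

theorem bijective_iff (X : Over (Spec (CommRingCat.of k))) :
    Function.Bijective ((Scheme.ΓSpecIso (CommRingCat.of k)).inv ≫ X.hom.appTop).hom ↔ IsIso X.hom.appTop := by
  rw [← isIso_comp_left_iff (Scheme.ΓSpecIso (CommRingCat.of k)).inv X.hom.appTop]
  exact (ConcreteCategory.isIso_iff_bijective _).symm

/-- A kernel of the affinization map is anti-affine. -/
theorem isIso_appTop_kernel {G A N : Over (Spec (CommRingCat.of k))} [GrpObj G] [GrpObj A]
    [LocallyOfFiniteType G.hom] [QuasiCompact G.hom] (t : G ⟶ A) [IsMonHom t] [Flat t.left]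
    (ht : Affinization.IsAffz t) (i : N ⟶ G) (hker : AlgGrp.IsKernel i t) : IsIso N.hom.appTop := by
  haveI := ht.affine
  haveI := ht.iso
  haveI : CompactSpace G.left := QuasiCompact.compactSpace_of_compactSpace G.hom
  haveI : IsSeparated G.hom := GrpSchLib.isSeparated_hom
  haveI : QuasiSeparatedSpace G.left := quasiSeparatedSpace_of_quasiSeparated G.hom
  haveI : IsIso (fst G N).left.appTop := isIso_appTop_of_isPullback (KernelFibre.isPullback_torsor t i hker)
  let e : 𝟙_ _ ⟶ N := hker.lift η[G] (𝟙 _) (by rw [IsMonHom.one_hom, Category.id_comp])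
  let s : N ⟶ G ⊗ N := lift (toUnit N ≫ η[G]) (𝟙 N)
  have h1 : (snd G N).left.appTop ≫ s.left.appTop = 𝟙 _ := by
    rw [← Scheme.Hom.comp_appTop, ← Over.comp_left, lift_snd, Over.id_left, Scheme.Hom.id_appTop]
  have h2 : (fst G N).left.appTop ≫ s.left.appTop = η[G].left.appTop ≫ N.hom.appTop := by
    rw [← Scheme.Hom.comp_appTop, ← Over.comp_left, lift_fst, Over.comp_left, Scheme.Hom.comp_appTop,
      Over.toUnit_left]
  have h3 : N.hom.appTop ≫ e.left.appTop = 𝟙 _ := by
    rw [← Scheme.Hom.comp_appTop, Over.w e]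
    exact Scheme.Hom.id_appTop
  let r := (snd G N).left.appTop ≫ inv (fst G N).left.appTop ≫ η[G].left.appTop
  have h4 : r ≫ N.hom.appTop = 𝟙 _ := by
    rw [← h1]
    simp only [r, Category.assoc, ← h2, IsIso.inv_hom_id_assoc]
  refine ⟨e.left.appTop, h3, ?_⟩
  have h5 : r = e.left.appTop := by
    rw [← Category.comp_id r]
    exact (congrArg (r ≫ ·) h3.symm).trans ((Category.assoc _ _ _).symm.trans
      ((congrArg (· ≫ e.left.appTop) h4).trans (Category.id_comp _)))
  rw [← h5]
  exact h4

/-- Anti-affine groups over a perfect field are smooth. -/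
theorem smooth_of_perfect [PerfectField k] (G : Over (Spec (CommRingCat.of k))) [GrpObj G]
    [LocallyOfFiniteType G.hom] [QuasiCompact G.hom] (h : IsIso G.hom.appTop) : Smooth G.hom := by
  obtain ⟨F, _, u, _, _, hF, hr⟩ := exists_redSubgroup (G := G) Set.univ isClosed_univ trivial
    (fun _ _ _ _ _ => trivial) (fun _ _ _ => trivial)
  haveI : Surjective u.left := ⟨Set.range_eq_univ.mp hr⟩
  haveI : IsReduced F.left := hF
  haveI : LocallyOfFiniteType F.hom := by rw [← Over.w u]; infer_instance
  haveI : Smooth F.hom := GrpSchLib.smooth_of_isReduced F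
  obtain ⟨X, p, _, _, hps, hpf, -, hp⟩ := GrpQuotLib.exists_quotient_surjective F G u
  haveI := hps; haveI := hpf
  have hG : G.hom.appTop = X.hom.appTop ≫ p.left.appTop := by rw [← Scheme.Hom.comp_appTop, Over.w p]
  have hb : Function.Bijective X.hom.appTop.hom := by
    have hinj := GrpQuotLib.appTop_injective p.left
    have hGb := (ConcreteCategory.isIso_iff_bijective G.hom.appTop).mp h
    rw [hG] at hGb
    refine ⟨fun a b hab => hGb.1 (congrArg p.left.appTop.hom hab), fun y => ?_⟩
    obtain ⟨c, hc⟩ := hGb.2 (p.left.appTop.hom y)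
    exact ⟨c, hinj hc⟩
  haveI : IsIso X.hom.appTop := (ConcreteCategory.isIso_iff_bijective _).mpr hb
  haveI : IsIso X.hom := (MorphismProperty.arrow_mk_iso_iff (MorphismProperty.isomorphisms Scheme.{u})
    (arrowIsoSpecΓOfIsAffine X.hom)).mpr (inferInstanceAs (IsIso (Spec.map X.hom.appTop)))
  have hX : ∀ {T : Over (Spec (CommRingCat.of k))} (a b : T ⟶ X), a = b := fun a b =>
    Over.OverMorphism.ext ((cancel_mono X.hom).mp (by rw [Over.w, Over.w]))
  let l : G ⟶ F ⊗ G := hp.lift (𝟙 G) 1 (hX _ _)
  have hl : (l ≫ fst F G) ≫ u = 𝟙 G := by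
    have h1 : l ≫ ((u ▷ G) ≫ μ[G]) = 𝟙 G := hp.lift_fst _ _ _
    have h2 : l ≫ snd F G = 1 := hp.lift_snd _ _ _
    have h3 : (u ▷ G) ≫ μ[G] = (fst F G ≫ u) * snd F G := by
      rw [Hom.mul_def]; congr 1
    rw [h3, MonObj.comp_mul, h2, _root_.mul_one] at h1
    rw [Category.assoc, h1]
  haveI : Mono u := Over.mono_of_mono_left u
  have hl' : u ≫ l ≫ fst F G = 𝟙 F := by
    rw [← cancel_mono u, Category.assoc, hl, Category.comp_id, Category.id_comp]
  haveI : IsIso u := ⟨l ≫ fst F G, hl', hl⟩
  haveI : IsIso u.left := ((Over.forget _).mapIso (asIso u)).isIso_hom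
  haveI : Smooth (inv u.left ≫ F.hom) := inferInstance
  rwa [← Over.w u, IsIso.inv_hom_id_assoc] at this

/-- Anti-affine groups are smooth. -/
theorem smooth_of_isIso_appTop (G : Over (Spec (CommRingCat.of k))) [GrpObj G]
    [LocallyOfFiniteType G.hom] [QuasiCompact G.hom] (h : IsIso G.hom.appTop) : Smooth G.hom := by
  let Ω : Type u := AlgebraicClosure k
  let g : Spec (CommRingCat.of Ω) ⟶ Spec (CommRingCat.of k) := Spec.map (CommRingCat.ofHom <| algebraMap k Ω)
  haveI : Flat g := flat_to_field (Field.toIsField k) g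
  apply MorphismProperty.of_pullback_snd_of_descendsAlong (Q := @Surjective ⊓ @Flat ⊓ @QuasiCompact) (g := g)
  · exact ⟨⟨inferInstance, inferInstance⟩, inferInstance⟩
  · haveI : GrpObj (Over.mk G.hom) := ‹GrpObj G›
    haveI : GrpObj (Over.mk (pullback.snd G.hom g)) := Over.grpObjMkPullbackSnd
    haveI : CompactSpace G.left := QuasiCompact.compactSpace_of_compactSpace G.hom
    haveI : IsSeparated G.hom := GrpSchLib.isSeparated_hom
    haveI : QuasiSeparatedSpace G.left := quasiSeparatedSpace_of_quasiSeparated G.hom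
    haveI := h
    haveI : LocallyOfFiniteType (Over.mk (pullback.snd G.hom g)).hom :=
      inferInstanceAs (LocallyOfFiniteType (pullback.snd G.hom g))
    haveI : QuasiCompact (Over.mk (pullback.snd G.hom g)).hom :=
      inferInstanceAs (QuasiCompact (pullback.snd G.hom g))
    exact smooth_of_perfect (Over.mk (pullback.snd G.hom g))
      (isIso_appTop_of_isPullback (IsPullback.of_hasPullback G.hom g))

/-- Every algebraic group is an extension of an affine one by an anti-affine one. -/
theorem exists_antiAffineKernel (G : Over (Spec (CommRingCat.of k))) [GrpObj G] [LocallyOfFiniteType G.hom]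
    [QuasiCompact G.hom] :
    ∃ (_ : GrpObj (Affinization.aff G)) (N : Over (Spec (CommRingCat.of k))) (_ : GrpObj N) (i : N ⟶ G),
      IsMonHom (Affinization.toAff G) ∧ Flat (Affinization.toAff G).left ∧ Surjective (Affinization.toAff G).left ∧
      LocallyOfFiniteType (Affinization.aff G).hom ∧ IsMonHom i ∧ IsClosedImmersion i.left ∧
      LocallyOfFiniteType N.hom ∧ QuasiCompact N.hom ∧ AlgGrp.IsKernel i (Affinization.toAff G) ∧
      IsIso N.hom.appTop := by
  haveI hA : IsAffine (Affinization.aff G).left := inferInstanceAs (IsAffine (Spec Γ(G.left, ⊤)))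
  obtain ⟨hG, hmon⟩ := Affinization.exists_grpObj (Affinization.toAff G) (Affinization.isAffz_toAff G)
  letI := hG
  haveI := hmon
  obtain ⟨h1, h2, h3⟩ := Affinization.toSpecΓ_props G
  haveI : Flat (Affinization.toAff G).left := h2
  haveI : LocallyOfFiniteType (Affinization.aff G).hom := h3
  let t := Affinization.toAff G
  obtain ⟨hN, hi⟩ := MonoFibre.exists_grpObj_kernel t
  letI := hN
  haveI : IsClosedImmersion η[Affinization.aff G].left := GrpSchLib.isClosedImmersion_unit
  haveI hc : IsClosedImmersion (pullback.fst t η[Affinization.aff G]).left :=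
    MorphismProperty.of_isPullback (P := @IsClosedImmersion)
      ((IsPullback.of_hasPullback t η[Affinization.aff G]).map (Over.forget _)).flip
      ‹IsClosedImmersion η[Affinization.aff G].left›
  have hk : AlgGrp.IsKernel (pullback.fst t η[Affinization.aff G]) t := by
    rw [AlgGrp.IsKernel, toUnit_unique (toUnit _) (pullback.snd t η[Affinization.aff G])]
    exact IsPullback.of_hasPullback t η[Affinization.aff G]
  refine ⟨hG, pullback t η[Affinization.aff G], hN, pullback.fst t η[Affinization.aff G], hmon, h2, h1, h3, hi, hc,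
    ?_, ?_, hk, isIso_appTop_kernel t (Affinization.isAffz_toAff G) _ hk⟩
  · rw [← Over.w (pullback.fst t η[Affinization.aff G])]; infer_instance
  · rw [← Over.w (pullback.fst t η[Affinization.aff G])]; infer_instance

/-- The scheme-theoretic fibre of `toSpecΓ` over the image of the unit. -/
theorem scheme_kernel (G : Over (Spec (CommRingCat.of k))) [GrpObj G] [LocallyOfFiniteType G.hom]
    [QuasiCompact G.hom] :
    IsIso (pullback.snd G.left.toSpecΓ (η[G].left ≫ G.left.toSpecΓ) ≫
        (𝟙_ (Over (Spec (CommRingCat.of k)))).hom).appTop ∧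
      Smooth (pullback.snd G.left.toSpecΓ (η[G].left ≫ G.left.toSpecΓ) ≫
        (𝟙_ (Over (Spec (CommRingCat.of k)))).hom) ∧
      ConnectedSpace ↥(pullback G.left.toSpecΓ (η[G].left ≫ G.left.toSpecΓ)) := by
  obtain ⟨hA, N, hN, i, ht, -, -, -, -, -, hNl, hNq, hker, hO⟩ := exists_antiAffineKernel G
  letI := hA
  letI := hN
  haveI := ht; haveI := hNl; haveI := hNq
  have P := IsPullback.map (Over.forget _) hker
  have hη : (η[Affinization.aff G]).left = η[G].left ≫ G.left.toSpecΓ := by
    rw [← IsMonHom.one_hom (Affinization.toAff G), Over.comp_left]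
    rfl
  simp only [Over.forget_map, hη] at P
  let e : N.left ≅ pullback G.left.toSpecΓ (η[G].left ≫ G.left.toSpecΓ) := P.isoPullback
  have he : e.hom ≫ pullback.snd G.left.toSpecΓ (η[G].left ≫ G.left.toSpecΓ) ≫
      (𝟙_ (Over (Spec (CommRingCat.of k)))).hom = N.hom := by
    rw [← Category.assoc]
    exact (congrArg (· ≫ (𝟙_ (Over (Spec (CommRingCat.of k)))).hom) P.isoPullback_hom_snd).trans (Over.w _)
  haveI := hO
  haveI : Smooth N.hom := smooth_of_isIso_appTop N hO
  refine ⟨?_, ?_, ?_⟩
  · haveI : IsIso e.inv.appTop := inferInstanceAs (IsIso (Scheme.Γ.map e.inv.op))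
    haveI : IsIso (e.inv ≫ N.hom).appTop := by rw [Scheme.Hom.comp_appTop]; infer_instance
    rwa [← he, Iso.inv_hom_id_assoc] at this
  · haveI : Smooth (e.inv ≫ N.hom) := inferInstance
    rwa [← he, Iso.inv_hom_id_assoc] at this
  · haveI : ConnectedSpace N.left := AntiAffine.connectedSpace ((bijective_iff N).mpr hO)
    exact e.hom.homeomorph.surjective.connectedSpace e.hom.continuous

end Groth.Agent.MonoFibre.KerAntiAffine
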