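import Groth.Prelude.Def_SGA3x
import Mathlib

/-!
# Groups of multiplicative type of finite type are locally of finite type
-/

set_option autoImplicit false

universe u

open CategoryTheory CategoryTheory.Limits AlgebraicGeometry MonObj

noncomputable section

namespace Groth.Agent.MonoFibre

theorem locallyOfFiniteType_DS (S : Scheme.{u}) (M : Type) [AddCommGroup M] (hM : AddGroup.FG M) :
    LocallyOfFiniteType (Red.DS S M).hom := by
  haveI : AddGroup.FG M := hM
  haveI : Algebra.FiniteType (ULift.{u} ℤ) (MonoidAlgebra (ULift.{u} ℤ) (Multiplicative M)) := inferInstance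
  haveI : LocallyOfFiniteType (Red.diag (ULift.{u} ℤ) M).hom := by
    show LocallyOfFiniteType (Spec.map (CommRingCat.ofHom
      (algebraMap (ULift.{u} ℤ) (MonoidAlgebra (ULift.{u} ℤ) (Multiplicative M)))))
    rw [HasRingHomProperty.Spec_iff (P := @LocallyOfFiniteType)]
    exact RingHom.finiteType_algebraMap.mpr inferInstance
  show LocallyOfFiniteType (pullback.snd _ _)
  infer_instance

theorem locallyOfFiniteType_of_iso {T : Scheme.{u}} {A B : Over T} (e : A ≅ B) (h : LocallyOfFiniteType B.hom) :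
    LocallyOfFiniteType A.hom := by
  haveI : IsIso e.hom.left := inferInstanceAs (IsIso ((Over.forget _).mapIso e).hom)
  rw [← Over.w e.hom]
  infer_instance

variable {S : Scheme.{u}}

theorem locallyOfFiniteType_of_isMultTypeFT (H : Over S) [GrpObj H] (hH : SGA3x.IsMultTypeFT H) :
    LocallyOfFiniteType H.hom := by
  haveI : IsZariskiLocalAtTarget (@LocallyOfFiniteType.{u}) :=
    HasRingHomProperty.instIsZariskiLocalAtTarget.{u} _ (Q := RingHom.FiniteType)
  haveI : MorphismProperty.RespectsIso (@LocallyOfFiniteType.{u}) :=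
    MorphismProperty.IsStableUnderBaseChange.respectsIso
  obtain ⟨S', f, hflat, hsurj, hqc, hloc⟩ := hH
  refine IsZariskiLocalAtTarget.of_iSup_eq_top (P := @LocallyOfFiniteType.{u}) _ (iSup_affineOpens_eq_top S) ?_
  intro V
  obtain ⟨W, hWc, hWimg⟩ := hqc V.1 V.2
  -- affine opens inside `W` on which the group is split
  have hcov : ∀ w : W, ∃ A : S'.Opens, IsAffineOpen A ∧ w.1 ∈ A ∧ A ≤ W ∧
      LocallyOfFiniteType (pullback.snd H.hom (A.ι ≫ f)) := fun w => by
    obtain ⟨U, hwU, M, _, hM, ⟨e⟩⟩ := hloc w.1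
    obtain ⟨A, hA, hwA, hAU⟩ : ∃ A : S'.Opens, IsAffineOpen A ∧ w.1 ∈ A ∧ A ≤ U ⊓ W :=
      TopologicalSpace.Opens.isBasis_iff_nbhd.mp (Scheme.isBasis_affineOpens S') (show w.1 ∈ U ⊓ W from ⟨hwU, w.2⟩)
    refine ⟨A, hA, hwA, hAU.trans inf_le_right, ?_⟩
    have := locallyOfFiniteType_of_iso ((Grp.forget _).mapIso e) (locallyOfFiniteType_DS (U : Scheme.{u}) M hM)
    haveI : LocallyOfFiniteType (pullback.snd H.hom (U.ι ≫ f)) := this
    have hfac : A.ι ≫ f = S'.homOfLE (hAU.trans inf_le_left) ≫ U.ι ≫ f := by rw [Scheme.homOfLE_ι_assoc]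
    rw [hfac, ← MorphismProperty.cancel_left_of_respectsIso @LocallyOfFiniteType.{u}
      (pullbackLeftPullbackSndIso H.hom (U.ι ≫ f) (S'.homOfLE (hAU.trans inf_le_left))).hom _,
      pullbackLeftPullbackSndIso_hom_snd]
    infer_instance
  choose A hA hwA hAW hAl using hcov
  obtain ⟨t, ht⟩ := hWc.elim_finite_subcover (fun w => (A w : Set S')) (fun w => (A w).2)
    fun x hx => Set.mem_iUnion.mpr ⟨⟨x, hx⟩, hwA _⟩
  -- the finite affine cover of `V`
  let g : ∀ i : t, (A i.1 : Scheme.{u}) ⟶ (V.1 : Scheme.{u}) := fun i =>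
    IsOpenImmersion.lift V.1.ι ((A i.1).ι ≫ f) (by
      rw [Scheme.Opens.range_ι, ← hWimg]
      rintro _ ⟨z, rfl⟩
      exact ⟨_, hAW i.1 z.2, rfl⟩)
  have hg : ∀ i, g i ≫ V.1.ι = (A i.1).ι ≫ f := fun i => IsOpenImmersion.lift_fac _ _ _
  haveI : IsAffine (V.1 : Scheme.{u}) := V.2
  haveI : ∀ i : t, IsAffine ((A i.1 : Scheme.{u})) := fun i => hA i.1
  haveI : ∀ i : t, Flat (g i) := fun i => by
    haveI : Flat (g i ≫ V.1.ι) := by rw [hg]; infer_instance
    exact MorphismProperty.of_isPullback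
      ((IsPullback.of_horiz_isIso_mono ⟨Category.id_comp _⟩ :
        IsPullback (𝟙 _) (g i) (g i ≫ V.1.ι) V.1.ι)) this
  have hP : LocallyOfFiniteType (pullback.snd (H.hom ∣_ V.1) (Sigma.desc g)) := by
    rw [IsZariskiLocalAtTarget.iff_of_openCover (P := @LocallyOfFiniteType.{u})
      (sigmaOpenCover fun i : t => (A i.1 : Scheme.{u}))]
    intro i
    have h1 : IsPullback (pullback.fst _ _ ≫ pullback.fst (H.hom ∣_ V.1) (Sigma.desc g))
        (pullback.snd (pullback.snd (H.hom ∣_ V.1) (Sigma.desc g)) (Sigma.ι (fun i : t => (A i.1 : Scheme.{u})) i))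
        (H.hom ∣_ V.1) (g i) := by
      have := (IsPullback.of_hasPullback _ _).paste_horiz (IsPullback.of_hasPullback (H.hom ∣_ V.1) (Sigma.desc g))
        (h₁₁ := pullback.fst _ (Sigma.ι (fun i : t => (A i.1 : Scheme.{u})) i))
      have e : Sigma.ι (fun i : t => (A i.1 : Scheme.{u})) i ≫ Sigma.desc g = g i := Sigma.ι_desc g i
      exact e ▸ this
    have h2 := h1.paste_horiz (isPullback_morphismRestrict H.hom V.1).flip
    erw [hg] at h2
    have hl : LocallyOfFiniteType (pullback.snd H.hom ((A i.1).ι ≫ f)) := hAl i.1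
    have := MorphismProperty.comp_mem (@LocallyOfFiniteType.{u}) h2.isoPullback.hom _
      (locallyOfFiniteType_of_isOpenImmersion _) hl
    rw [IsPullback.isoPullback_hom_snd] at this
    exact this
  refine MorphismProperty.of_pullback_snd_of_descendsAlong (P := @LocallyOfFiniteType)
    (Q := @Surjective ⊓ @Flat ⊓ @QuasiCompact) (f := H.hom ∣_ V.1) (g := Sigma.desc g) ⟨⟨⟨?_⟩, ?_⟩, inferInstance⟩ hP
  · intro v
    obtain ⟨z, hzW, hz⟩ : v.1 ∈ f.base '' (W : Set S') := hWimg ▸ v.2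
    obtain ⟨i, hi, hzi⟩ := Set.mem_iUnion₂.mp (ht hzW)
    refine ⟨Sigma.ι (fun i : t => (A i.1 : Scheme.{u})) ⟨i, hi⟩ ⟨z, hzi⟩, V.1.ι.isOpenEmbedding.injective ?_⟩
    erw [← Scheme.Hom.comp_apply, ← Scheme.Hom.comp_apply, Sigma.ι_desc_assoc, hg]
    exact hz
  · haveI : IsZariskiLocalAtSource (@Flat.{u}) :=
      HasRingHomProperty.instIsZariskiLocalAtSource.{u} (Q := RingHom.Flat)
    exact IsZariskiLocalAtSource.sigmaDesc fun i => inferInstance

end Groth.Agent.MonoFibre
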