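import Mathlib
import Groth.Prelude.Def_FrameBundle
import Groth.Agent.MagnetHom.Points
import Groth.Agent.AffPts.Basic
import Groth.Agent.HopfFF.Linear

/-! Points of `GL_n` over an arbitrary base with values in rings, and homomorphisms from affine groups to `GL_n`. -/

set_option autoImplicit false
set_option synthInstance.maxHeartbeats 400000
set_option maxHeartbeats 1000000
set_option backward.isDefEq.respectTransparency false
set_option backward.isDefEq.respectTransparency.types false
universe u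

open CategoryTheory CategoryTheory.Limits MonoidalCategory CartesianMonoidalCategory MonObj AlgebraicGeometry TensorProduct

namespace Groth.Agent.MonoFibre.GLPoints

noncomputable section

attribute [local instance 50] MagnetHom.algZ
attribute [local instance 10000] Algebra.toModule

attribute [-instance] CategoryTheory.Hom.commGroup

open MagnetHom (bang canonIso)

variable {n : ℕ} {S : Scheme.{u}} (C : Type u) [CommRing C] (str : Spec (CommRingCat.of C) ⟶ S)

abbrev Z : Type u := ULift.{u} ℤ

/-- The point of `GL_{n,S}` given by an invertible matrix. -/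
def glPt (φ : CoordGrp.GLn n Z.{u} →ₐ[Z.{u}] C) : Over.mk str ⟶ FrB.GLn n S :=
  (Over.mapPullbackAdj (bang S)).homEquiv _ _
    (canonIso C str ≫ Spec.mapMulEquiv ⟨φ⟩)

theorem glPt_left_fst (φ : CoordGrp.GLn n Z.{u} →ₐ[Z.{u}] C) : (glPt C str φ).left ≫ pullback.fst _ _ =
    Spec.map (CommRingCat.ofHom φ.toRingHom) := by
  simp [glPt, Adjunction.homEquiv_unit, canonIso, Spec.mapMulEquiv]
  exact Category.id_comp _

theorem glPt_mul (φ ψ : CoordGrp.GLn n Z.{u} →ₐ[Z.{u}] C) :
    glPt C str ((⟨φ⟩ : WithConv _) * ⟨ψ⟩).ofConv = glPt C str φ * glPt C str ψ := by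
  rw [glPt, glPt, glPt, show (⟨((⟨φ⟩ : WithConv (CoordGrp.GLn n Z.{u} →ₐ[Z.{u}] C)) * ⟨ψ⟩).ofConv⟩ :
    WithConv (CoordGrp.GLn n Z.{u} →ₐ[Z.{u}] C)) = ⟨φ⟩ * ⟨ψ⟩ from rfl, map_mul]
  refine Eq.trans ?_ (MagnetHom.homEquiv_mul _ _)
  congr 1

theorem glPt_injective {φ ψ : CoordGrp.GLn n Z.{u} →ₐ[Z.{u}] C} (h : glPt C str φ = glPt C str ψ) : φ = ψ := by
  have h1 := congrArg (fun f => f.left ≫ pullback.fst _ _) h
  simp only [glPt_left_fst] at h1
  exact AlgHom.coe_ringHom_injective (congrArg CommRingCat.Hom.hom (Spec.map_injective h1))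

theorem ringHom_ext {B : Type u} [CommRing B] (f g : Z.{u} →+* B) : f = g := by
  have h := RingHom.ext_int (f.comp ULift.ringEquiv.symm.toRingHom) (g.comp ULift.ringEquiv.symm.toRingHom)
  exact RingHom.ext fun r => RingHom.congr_fun h r.down

theorem eq_one_of_mul_self {S' : Scheme.{u}} {T' X' : Over S'} [GrpObj X'] {x : T' ⟶ X'} (h : x = x * x) : x = 1 :=
  calc x = x * x * x⁻¹ := (mul_inv_cancel_right x x).symm
    _ = 1 := by rw [← h, mul_inv_cancel]

section Affine

variable {k : Type u} [Field k] {A : Type u} [CommRing A] [HopfAlgebra k A]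
  (M : Matrix (Fin n) (Fin n) A) (d : A) (hd : M.det * d = 1)


/-- The morphism to `GL_n` given by a matrix of functions. -/
def matHom : ((Spec (CommRingCat.of A)).asOver (Spec (CommRingCat.of k))) ⟶ FrB.GLn n (Spec (CommRingCat.of k)) :=
  glPt A _ (CoordGrp.GLn.pt n Z.{u} M d hd)

theorem det_map {B : Type u} [CommRing B] (φ : A →+* B) (hd : M.det * d = 1) : (φ.mapMatrix M).det * φ d = 1 := by
  rw [← RingHom.map_det, ← map_mul, hd, map_one]

theorem point_matHom (B : Type u) [CommRing B] [Algebra k B] (q : A →ₐ[k] B) :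
    AffPts.specMap k q ≫ matHom (k := k) M d hd =
      glPt B _ (CoordGrp.GLn.pt n Z.{u} (q.toRingHom.mapMatrix M) (q d) (det_map M d q.toRingHom hd)) := by
  apply Over.OverMorphism.ext
  apply pullback.hom_ext
  · rw [Over.comp_left, Category.assoc, matHom]
    rw [glPt_left_fst, glPt_left_fst]
    change Spec.map _ ≫ Spec.map _ = Spec.map _
    rw [← Spec.map_comp, ← CommRingCat.ofHom_comp]
    congr 2
    have := CoordGrp.GLn.algHom_ext (f := (AlgHom.mk q.toRingHom (fun r => RingHom.congr_fun (ringHom_ext (q.toRingHom.comp (algebraMap Z.{u} A)) (algebraMap Z.{u} B)) r) : A →ₐ[Z.{u}] B).comp (CoordGrp.GLn.pt n Z.{u} M d hd))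
      (g := CoordGrp.GLn.pt n Z.{u} (q.toRingHom.mapMatrix M) (q d) (det_map M d q.toRingHom hd))
      (fun i j => by simp) (by simp)
    exact congrArg AlgHom.toRingHom this
  · exact (Over.w _).trans (Over.w _).symm

variable (h0 : ∀ i j, CoalgebraStruct.comul (R := k) (M i j) = ∑ l, M i l ⊗ₜ[k] M l j)

include h0 in
theorem isMonHom_matHom : IsMonHom (matHom (k := k) M d hd) := by
  have hmul : μ[((Spec (CommRingCat.of A)).asOver (Spec (CommRingCat.of k)))] ≫ matHom (k := k) M d hd = (fst ((Spec (CommRingCat.of A)).asOver (Spec (CommRingCat.of k))) ((Spec (CommRingCat.of A)).asOver (Spec (CommRingCat.of k))) ≫ matHom (k := k) M d hd) * (snd ((Spec (CommRingCat.of A)).asOver (Spec (CommRingCat.of k))) ((Spec (CommRingCat.of A)).asOver (Spec (CommRingCat.of k))) ≫ matHom (k := k) M d hd) := by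
    haveI : IsAffine ((Spec (CommRingCat.of A)).asOver (Spec (CommRingCat.of k))).left :=
      inferInstanceAs (IsAffine (Spec _))
    haveI : IsAffine (((Spec (CommRingCat.of A)).asOver (Spec (CommRingCat.of k))) ⊗ ((Spec (CommRingCat.of A)).asOver (Spec (CommRingCat.of k)))).left :=
      inferInstanceAs (IsAffine (pullback (((Spec (CommRingCat.of A)).asOver (Spec (CommRingCat.of k)))).hom (((Spec (CommRingCat.of A)).asOver (Spec (CommRingCat.of k)))).hom))
    apply AffPts.hom_ext_of_points
    intro B _ _ q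
    let a : AffPts.specOver k B ⟶ ((Spec (CommRingCat.of A)).asOver (Spec (CommRingCat.of k))) := q ≫ fst _ _
    let b : AffPts.specOver k B ⟶ ((Spec (CommRingCat.of A)).asOver (Spec (CommRingCat.of k))) := q ≫ snd _ _
    obtain ⟨φ, hφ⟩ := (Spec.mapMulEquiv (R := k) (S := A) (T := B)).surjective a
    obtain ⟨ψ, hψ⟩ := (Spec.mapMulEquiv (R := k) (S := A) (T := B)).surjective b
    have hq : q ≫ μ[((Spec (CommRingCat.of A)).asOver (Spec (CommRingCat.of k)))] = AffPts.specMap k (φ * ψ).ofConv := by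
      have h1 : q ≫ μ[((Spec (CommRingCat.of A)).asOver (Spec (CommRingCat.of k)))] = a * b := by
        rw [Hom.mul_def, ← comp_lift_assoc, lift_fst_snd, Category.id_comp]
      let aφ : AffPts.specOver k B ⟶ ((Spec (CommRingCat.of A)).asOver (Spec (CommRingCat.of k))) := AffPts.specMap k φ.ofConv
      let aψ : AffPts.specOver k B ⟶ ((Spec (CommRingCat.of A)).asOver (Spec (CommRingCat.of k))) := AffPts.specMap k ψ.ofConv
      have hm : AffPts.specMap k (φ * ψ).ofConv = aφ * aψ :=
        map_mul (Spec.mapMulEquiv (R := k) (S := A) (T := B)) φ ψ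
      rw [h1, hm]
      exact congrArg₂ (· * ·) (hφ.symm.trans rfl) (hψ.symm.trans rfl)
    have ha : q ≫ fst _ _ = AffPts.specMap k φ.ofConv := hφ.symm.trans rfl
    have hb : q ≫ snd _ _ = AffPts.specMap k ψ.ofConv := hψ.symm.trans rfl
    rw [MonObj.comp_mul, ← Category.assoc, ← Category.assoc, ← Category.assoc, hq, ha, hb, point_matHom,
      point_matHom, point_matHom, ← glPt_mul]
    congr 1
    refine CoordGrp.GLn.algHom_ext (fun i j => ?_) ?_
    · rw [CoordGrp.GLn.pt_X, AlgHom.convMul_apply, CoordGrp.GLn.comul_X, map_sum]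
      show (φ * ψ).ofConv (M i j) = _
      rw [AlgHom.convMul_apply, h0, map_sum]
      simp [map_sum]
    · rw [CoordGrp.GLn.pt_Dinv]
      conv_rhs => rw [AlgHom.convMul_apply, CoordGrp.GLn.comul_Dinv]
      simp only [Algebra.TensorProduct.lift_tmul, CoordGrp.GLn.pt_Dinv]
      have e1 : ((φ * ψ).ofConv : A →ₐ[k] B).toRingHom.mapMatrix M =
          φ.ofConv.toRingHom.mapMatrix M * ψ.ofConv.toRingHom.mapMatrix M := by
        ext i j
        show (φ * ψ).ofConv (M i j) = _
        rw [AlgHom.convMul_apply, h0, map_sum]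
        simp [Matrix.mul_apply]
      have h3 := det_map M d ((φ * ψ).ofConv : A →ₐ[k] B).toRingHom hd
      have h4 : (φ.ofConv d * ψ.ofConv d) * (((φ * ψ).ofConv : A →ₐ[k] B).toRingHom.mapMatrix M).det = 1 := by
        rw [e1, Matrix.det_mul]
        calc _ = ((φ.ofConv.toRingHom.mapMatrix M).det * φ.ofConv d) *
              ((ψ.ofConv.toRingHom.mapMatrix M).det * ψ.ofConv d) := by ring
          _ = 1 := (congrArg₂ (· * ·) (det_map M d φ.ofConv.toRingHom hd)
            (det_map M d ψ.ofConv.toRingHom hd)).trans (one_mul _)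
      exact (left_inv_eq_right_inv h4 h3).symm
  refine ⟨?_, ?_⟩
  · have h := congrArg (fun f => lift η[((Spec (CommRingCat.of A)).asOver (Spec (CommRingCat.of k)))] η[((Spec (CommRingCat.of A)).asOver (Spec (CommRingCat.of k)))] ≫ f) hmul
    rw [MonObj.comp_mul, lift_fst_assoc, lift_snd_assoc] at h
    have h1 : lift η[((Spec (CommRingCat.of A)).asOver (Spec (CommRingCat.of k)))] η[((Spec (CommRingCat.of A)).asOver (Spec (CommRingCat.of k)))] ≫ μ[((Spec (CommRingCat.of A)).asOver (Spec (CommRingCat.of k)))] = η[((Spec (CommRingCat.of A)).asOver (Spec (CommRingCat.of k)))] := by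
      rw [← Hom.mul_def, show (η[((Spec (CommRingCat.of A)).asOver (Spec (CommRingCat.of k)))] : 𝟙_ _ ⟶ ((Spec (CommRingCat.of A)).asOver (Spec (CommRingCat.of k)))) = 1 by rw [Hom.one_def, toUnit_unique (toUnit _) (𝟙 _), Category.id_comp],
        _root_.one_mul]
    rw [← Category.assoc, h1] at h
    have h2 : η[((Spec (CommRingCat.of A)).asOver (Spec (CommRingCat.of k)))] ≫ matHom (k := k) M d hd = 1 := eq_one_of_mul_self h
    rw [h2, Hom.one_def, toUnit_unique (toUnit _) (𝟙 _)]
    exact Category.id_comp _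
  · rw [hmul, Hom.mul_def]
    congr 1

/-- An affine algebraic group with no nontrivial homomorphism to a general linear group is trivial. -/
theorem surjective_algebraMap [Algebra.FiniteType k A]
    (h : ∀ (n : ℕ) (f : ((Spec (CommRingCat.of A)).asOver (Spec (CommRingCat.of k))) ⟶ FrB.GLn n (Spec (CommRingCat.of k))), IsMonHom f → f = 1) :
    Function.Surjective (algebraMap k A) := by
  obtain ⟨s, hs⟩ := (inferInstance : Algebra.FiniteType k A).out
  obtain ⟨n, M, d, hd, h0, -, hmem⟩ := HopfFF.exists_coord_matrix (k := k) s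
  have h1 : matHom (k := k) M d hd = 1 := h n (matHom M d hd) (isMonHom_matHom M d hd h0)
  let Mid : Matrix (Fin n) (Fin n) A := 1
  have hone : glPt A (Spec.map (CommRingCat.ofHom (algebraMap k A)))
      (CoordGrp.GLn.pt n Z.{u} (Mid * Mid) (1 * 1) (by simp [Mid])) =
      glPt A _ (CoordGrp.GLn.pt n Z.{u} Mid 1 (by simp [Mid])) *
        glPt A _ (CoordGrp.GLn.pt n Z.{u} Mid 1 (by simp [Mid])) := by
    rw [← glPt_mul]
    congr 1
    refine CoordGrp.GLn.algHom_ext (fun i j => ?_) ?_
    · rw [CoordGrp.GLn.pt_X, AlgHom.convMul_apply, CoordGrp.GLn.comul_X, map_sum]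
      simp [Matrix.mul_apply]
    · rw [CoordGrp.GLn.pt_Dinv, AlgHom.convMul_apply, CoordGrp.GLn.comul_Dinv]
      simp
  have hid : glPt A (Spec.map (CommRingCat.ofHom (algebraMap k A)))
      (CoordGrp.GLn.pt n Z.{u} Mid 1 (by simp [Mid])) = 1 := by
    have e : CoordGrp.GLn.pt n Z.{u} (Mid * Mid) (1 * 1) (by simp [Mid]) =
        CoordGrp.GLn.pt n Z.{u} Mid (1 : A) (by simp [Mid]) :=
      CoordGrp.GLn.algHom_ext (fun i j => by simp [Mid]) (by simp)
    rw [e] at hone
    exact eq_one_of_mul_self hone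
  have h2 := glPt_injective A _ (h1.trans hid.symm)
  have hM : ∀ i j, M i j = (1 : Matrix (Fin n) (Fin n) A) i j := fun i j => by
    have := AlgHom.congr_fun h2 (CoordGrp.GLn.X i j)
    simpa [Mid] using this
  intro a
  have key : Algebra.adjoin k (s : Set A) ≤ (Algebra.ofId k A).range := by
    refine Algebra.adjoin_le fun b hb => ?_
    have hle : Submodule.span k (Set.range fun p : Fin n × Fin n => M p.1 p.2) ≤
        Subalgebra.toSubmodule (Algebra.ofId k A).range := by
      refine Submodule.span_le.mpr ?_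
      rintro _ ⟨p, rfl⟩
      simp only [hM, Matrix.one_apply]
      split_ifs
      · exact ⟨1, map_one _⟩
      · exact ⟨0, map_zero _⟩
    exact hle (hmem b hb)
  rw [hs] at key
  exact key (Algebra.mem_top (x := a))

end Affine

end

end Groth.Agent.MonoFibre.GLPoints
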