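import Mathlib
import Groth.Agent.GrpSchLib.Basic
import Groth.Agent.GrpSchLib.Component
import Groth.Agent.MonoFibre.RigidityExt

/-! The scheme-theoretic image of a homomorphism of groups over a field. -/

set_option autoImplicit false
universe u

open CategoryTheory CategoryTheory.Limits MonoidalCategory CartesianMonoidalCategory MonObj GrpObj AlgebraicGeometry Topology

namespace Groth.Agent.MonoFibre.SchemeImage

noncomputable section

variable {k : Type u} [Field k]

theorem exists_lift_of_dominant {A B K G : Scheme.{u}} (a : A ⟶ B) [IsSchemeTheoreticallyDominant a] (d : B ⟶ G)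
    (i : K ⟶ G) [IsClosedImmersion i] (c : A ⟶ K) (h : c ≫ i = a ≫ d) : ∃ d' : B ⟶ K, d' ≫ i = d := by
  let l : A ⟶ pullback d i := pullback.lift a c h.symm
  have hl : (l ≫ pullback.fst d i).ker = ⊥ := by rw [pullback.lift_fst]; exact a.ker_eq_bot
  have hbot : (pullback.fst d i).ker = ⊥ :=
    le_bot_iff.mp (le_trans (Scheme.Hom.le_ker_comp l (pullback.fst d i)) hl.le)
  haveI := IsClosedImmersion.isIso_iff_ker_eq_bot.mpr hbot
  exact ⟨inv (pullback.fst d i) ≫ pullback.snd d i, by rw [Category.assoc, ← pullback.condition, IsIso.inv_hom_id_assoc]⟩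

theorem isPullback_whiskerLeft {S : Scheme.{u}} {A B : Over S} (W : Over S) (g : A ⟶ B) :
    IsPullback (W ◁ g).left (snd W A).left (snd W B).left g.left := by
  refine IsPullback.of_right (h₁₂ := (fst W B).left) (h₂₂ := B.hom) (v₁₃ := W.hom) ?_ ?_ ?_
  · rw [← Over.comp_left, Over.w, whiskerLeft_fst]
    exact IsPullback.of_hasPullback W.hom A.hom
  · rw [← Over.comp_left, ← Over.comp_left, whiskerLeft_snd]
  · exact IsPullback.of_hasPullback W.hom B.hom

theorem whiskerLeft_dominant {A B : Over (Spec (CommRingCat.of k))} (W : Over (Spec (CommRingCat.of k))) (g : A ⟶ B)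
    [IsSchemeTheoreticallyDominant g.left] [QuasiCompact g.left] :
    IsSchemeTheoreticallyDominant (W ◁ g).left ∧ QuasiCompact (W ◁ g).left := by
  haveI : Flat W.hom := Rigidity.flat_hom W
  haveI : Flat (snd W B).left := MorphismProperty.of_isPullback (P := @Flat)
    (IsPullback.of_hasPullback W.hom B.hom) ‹_›
  exact ⟨IsSchemeTheoreticallyDominant.of_isPullback (isPullback_whiskerLeft W g).flip,
    MorphismProperty.of_isPullback (P := @QuasiCompact) (isPullback_whiskerLeft W g).flip ‹_›⟩

theorem tensorHom_dominant {A B : Over (Spec (CommRingCat.of k))} (g : A ⟶ B)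
    [IsSchemeTheoreticallyDominant g.left] [QuasiCompact g.left] :
    IsSchemeTheoreticallyDominant (g ⊗ₘ g).left ∧ QuasiCompact (g ⊗ₘ g).left := by
  obtain ⟨h1, h2⟩ := whiskerLeft_dominant A g
  obtain ⟨h3, h4⟩ := whiskerLeft_dominant B g
  have e : g ⊗ₘ g = (A ◁ g) ≫ ((β_ A B).hom ≫ (B ◁ g) ≫ (β_ B B).hom) := by
    apply CartesianMonoidalCategory.hom_ext <;> simp
  haveI := h1; haveI := h2; haveI := h3; haveI := h4
  haveI : IsIso (β_ A B).hom.left := ((Over.forget _).mapIso (β_ A B)).isIso_hom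
  haveI : IsIso (β_ B B).hom.left := ((Over.forget _).mapIso (β_ B B)).isIso_hom
  rw [e]
  simp only [Over.comp_left]
  exact ⟨inferInstance, inferInstance⟩

theorem surjective_tensorHom_of_mem {A B : Over (Spec (CommRingCat.of k))} (g : A ⟶ B) (z : (B ⊗ B).left)
    (h₁ : (fst B B).left z ∈ Set.range g.left) (h₂ : (snd B B).left z ∈ Set.range g.left) :
    z ∈ Set.range (g ⊗ₘ g).left := by
  obtain ⟨T₁, a₁, b₁, t₁, ht₁, he₁⟩ := GrpSchLib.exists_lift (fst B B) g z h₁
  obtain ⟨T₂, a₂, b₂, t₂, ht₂, he₂⟩ := GrpSchLib.exists_lift (a₁ ≫ snd B B) g t₁ (by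
    rw [Over.comp_left, Scheme.Hom.comp_apply, ht₁]; exact h₂)
  refine ⟨(lift (a₂ ≫ b₁) b₂).left t₂, ?_⟩
  have e : lift (a₂ ≫ b₁) b₂ ≫ (g ⊗ₘ g) = a₂ ≫ a₁ := by
    rw [lift_map]
    apply CartesianMonoidalCategory.hom_ext
    · rw [lift_fst, Category.assoc, Category.assoc, he₁]
    · rw [lift_snd, Category.assoc, ← he₂]
  rw [← Scheme.Hom.comp_apply, ← Over.comp_left, e, Over.comp_left, Scheme.Hom.comp_apply, ht₂, ht₁]

theorem dense_interior_of_isConstructible {T : Type*} [TopologicalSpace T] {s : Set T} (hs : IsConstructible s)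
    (hd : Dense s) : Dense (interior s) := by
  have key : IsNowhereDense (frontier s) := by
    clear hd
    induction hs using IsConstructible.empty_union_induction with
    | open_retrocompact U hU _ =>
      rw [isClosed_frontier.isNowhereDense_iff, ← frontier_compl U, interior_frontier hU.isClosed_compl]
    | union s _ t _ hs' ht' =>
      refine IsNowhereDense.mono ((frontier_union_subset s t).trans
        (Set.union_subset_union Set.inter_subset_left Set.inter_subset_right)) ?_
      rw [(isClosed_frontier.union isClosed_frontier).isNowhereDense_iff,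
        interior_union_isClosed_of_interior_empty isClosed_frontier (isClosed_frontier.isNowhereDense_iff.mp ht'),
        isClosed_frontier.isNowhereDense_iff.mp hs']
    | compl s _ hs' => rw [frontier_compl]; exact hs'
  rw [isClosed_frontier.isNowhereDense_iff, frontier, hd.closure_eq, ← Set.compl_eq_univ_sdiff, interior_compl,
    Set.compl_empty_iff] at key
  exact dense_iff_closure_eq.mpr key

theorem dense_interior_of_isLocallyConstructible {T : Type*} [TopologicalSpace T] {s : Set T}
    (hs : IsLocallyConstructible s) (hd : Dense s) : Dense (interior s) := by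
  rw [dense_iff_inter_open]
  rintro W hW ⟨x, hx⟩
  obtain ⟨U, hxU, hUo, hU⟩ := hs x
  have hd' : Dense ((Subtype.val ⁻¹' s) : Set U) := hd.preimage hUo.isOpenEmbedding_subtypeVal.isOpenMap
  obtain ⟨y, hyW, hy⟩ := dense_iff_inter_open.mp (dense_interior_of_isConstructible hU hd') _
    (hW.preimage continuous_subtype_val) ⟨⟨x, mem_of_mem_nhds hxU⟩, hx⟩
  refine ⟨y.1, hyW, ?_⟩
  exact interior_mono (Set.image_preimage_subset _ _)
    (hUo.isOpenMap_subtype_val.image_interior_subset _ ⟨y, hy, rfl⟩)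

theorem toImage_dominant {X Y : Scheme.{u}} (f : X ⟶ Y) [QuasiCompact f] :
    IsSchemeTheoreticallyDominant f.toImage := by
  refine ⟨Scheme.IdealSheafData.ext_of_iSup_eq_top
    (fun U : Y.affineOpens => ⟨f.imageι ⁻¹ᵁ U.1, U.2.preimage f.imageι⟩) ?_ fun U => ?_⟩
  · show ⨆ U : Y.affineOpens, f.imageι ⁻¹ᵁ U.1 = ⊤
    rw [← Scheme.Hom.preimage_iSup, iSup_affineOpens_eq_top]
    exact Scheme.Hom.preimage_top _
  · rw [Scheme.Hom.ker_apply, (RingHom.injective_iff_ker_eq_bot _).mp (f.toImage_app_injective U),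
      Scheme.IdealSheafData.ideal_bot]
    rfl

variable {G K : Over (Spec (CommRingCat.of k))} [GrpObj G]

/-- The scheme-theoretic image of a homomorphism is stable under the group laws. -/
theorem exists_div {H : Over (Spec (CommRingCat.of k))} [GrpObj H] (f : H ⟶ G) [IsMonHom f] [QuasiCompact f.left]
    (i : K ⟶ G) [IsClosedImmersion i.left] (g : H ⟶ K) (hgi : g ≫ i = f) [IsSchemeTheoreticallyDominant g.left] :
    (∃ e : 𝟙_ (Over (Spec (CommRingCat.of k))) ⟶ K, e ≫ i = η[G]) ∧
      ∀ (T : Over (Spec (CommRingCat.of k))) (k₁ k₂ : T ⟶ K),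
        ∃ k₃ : T ⟶ K, k₃ ≫ i = (k₁ ≫ i)⁻¹ * (k₂ ≫ i) := by
  refine ⟨⟨η[H] ≫ g, by rw [Category.assoc, hgi, IsMonHom.one_hom f]⟩, fun T k₁ k₂ => ?_⟩
  haveI : QuasiCompact (g.left ≫ i.left) := by rw [← Over.comp_left, hgi]; infer_instance
  haveI : QuasiCompact g.left := QuasiCompact.of_comp g.left i.left
  haveI := (tensorHom_dominant g).1
  let d : K ⊗ K ⟶ G := (fst K K ≫ i)⁻¹ * (snd K K ≫ i)
  have hd : (((fst H H)⁻¹ * snd H H) ≫ g) ≫ i = (g ⊗ₘ g) ≫ d := by
    rw [Category.assoc, hgi, MonObj.mul_comp, GrpObj.inv_comp, MonObj.comp_mul, GrpObj.comp_inv,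
      tensorHom_fst_assoc, tensorHom_snd_assoc, hgi]
  obtain ⟨d', hd'⟩ := exists_lift_of_dominant (g ⊗ₘ g).left d.left i.left _ (congrArg CommaMorphism.left hd)
  let D : K ⊗ K ⟶ K := Over.homMk d' (by rw [← Over.w i, ← Category.assoc, hd', Over.w])
  have hD : D ≫ i = d := Over.OverMorphism.ext hd'
  refine ⟨lift k₁ k₂ ≫ D, ?_⟩
  rw [Category.assoc, hD, MonObj.comp_mul, GrpObj.comp_inv, lift_fst_assoc, lift_snd_assoc]

/-- A closed subscheme stable under division is a subgroup. -/
theorem exists_grpObj (i : K ⟶ G) [IsClosedImmersion i.left]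
    (he : ∃ e : 𝟙_ (Over (Spec (CommRingCat.of k))) ⟶ K, e ≫ i = η[G])
    (hd : ∀ (T : Over (Spec (CommRingCat.of k))) (k₁ k₂ : T ⟶ K),
      ∃ k₃ : T ⟶ K, k₃ ≫ i = (k₁ ≫ i)⁻¹ * (k₂ ≫ i)) : ∃ _ : GrpObj K, IsMonHom i := by
  haveI : Mono i := (Over.forget _).mono_of_mono_map (show Mono i.left by infer_instance)
  obtain ⟨e, he⟩ := he
  have hone : ∀ {T : Over (Spec (CommRingCat.of k))} (a : T ⟶ 𝟙_ _), a ≫ e ≫ i = 1 := fun a => by
    rw [he, Hom.one_def, toUnit_unique a (toUnit _)]
  obtain ⟨v, hv⟩ := hd K (𝟙 K) (toUnit K ≫ e)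
  rw [Category.id_comp, Category.assoc, hone, _root_.mul_one] at hv
  obtain ⟨m, hm⟩ := hd (K ⊗ K) (fst K K ≫ v) (snd K K)
  rw [Category.assoc, hv, GrpObj.comp_inv, _root_.inv_inv] at hm
  letI mon : MonObj K :=
    { one := e
      mul := m
      one_mul := by
        rw [← cancel_mono i, Category.assoc, hm, MonObj.comp_mul, whiskerRight_fst_assoc, whiskerRight_snd_assoc,
          hone, _root_.one_mul, leftUnitor_hom]
      mul_one := by
        rw [← cancel_mono i, Category.assoc, hm, MonObj.comp_mul, whiskerLeft_fst_assoc, whiskerLeft_snd_assoc,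
          hone, _root_.mul_one, rightUnitor_hom]
      mul_assoc := by
        rw [← cancel_mono i]
        simp only [Category.assoc, hm, MonObj.comp_mul, whiskerRight_fst_assoc, whiskerRight_snd_assoc,
          whiskerLeft_fst_assoc, whiskerLeft_snd_assoc, associator_hom_fst_assoc, associator_hom_snd_fst_assoc,
          associator_hom_snd_snd_assoc, _root_.mul_assoc] }
  refine ⟨{ inv := v, left_inv := ?_, right_inv := ?_ }, ⟨he, ?_⟩⟩
  · rw [← cancel_mono i, Category.assoc, Category.assoc]
    show lift v (𝟙 K) ≫ m ≫ i = toUnit K ≫ e ≫ i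
    rw [hm, MonObj.comp_mul, lift_fst_assoc, lift_snd_assoc, hv, Category.id_comp, inv_mul_cancel, hone]
  · rw [← cancel_mono i, Category.assoc, Category.assoc]
    show lift (𝟙 K) v ≫ m ≫ i = toUnit K ≫ e ≫ i
    rw [hm, MonObj.comp_mul, lift_fst_assoc, lift_snd_assoc, hv, Category.id_comp, mul_inv_cancel, hone]
  · show m ≫ i = _
    rw [hm, Hom.mul_def]; congr 1

/-- A homomorphism is onto its scheme-theoretic image. -/
theorem surjective {H : Over (Spec (CommRingCat.of k))} [GrpObj H] [LocallyOfFiniteType H.hom]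
    [LocallyOfFiniteType G.hom] (f : H ⟶ G) [IsMonHom f] [QuasiCompact f.left]
    (i : K ⟶ G) [IsClosedImmersion i.left] (g : H ⟶ K) (hgi : g ≫ i = f) [IsSchemeTheoreticallyDominant g.left] :
    Surjective g.left := by
  obtain ⟨he, hd⟩ := exists_div f i g hgi
  obtain ⟨hK, hi⟩ := exists_grpObj i he hd
  let := hK
  haveI : Mono i := (Over.forget _).mono_of_mono_map (show Mono i.left by infer_instance)
  haveI : IsMonHom g := ⟨by rw [← cancel_mono i, Category.assoc, hgi, IsMonHom.one_hom f, IsMonHom.one_hom i],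
    by rw [← cancel_mono i, Category.assoc, hgi, IsMonHom.mul_hom f, Category.assoc, IsMonHom.mul_hom i,
      ← Category.assoc, tensorHom_comp_tensorHom, hgi]⟩
  haveI : QuasiCompact (g.left ≫ i.left) := by rw [← Over.comp_left, hgi]; infer_instance
  haveI : QuasiCompact g.left := QuasiCompact.of_comp g.left i.left
  haveI : LocallyOfFiniteType K.hom := by rw [← Over.w i]; infer_instance
  haveI : IsLocallyNoetherian K.left := LocallyOfFiniteType.isLocallyNoetherian K.hom
  haveI : LocallyOfFiniteType (g.left ≫ K.hom) := by rw [Over.w]; infer_instance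
  haveI : LocallyOfFiniteType g.left := locallyOfFiniteType_of_comp g.left K.hom
  haveI : LocallyOfFinitePresentation g.left := inferInstance
  have hc := g.left.isLocallyConstructible_image IsLocallyConstructible.univ
  rw [Set.image_univ] at hc
  have hden : Dense (interior (Set.range g.left)) :=
    dense_interior_of_isLocallyConstructible hc g.left.denseRange
  let U : K.left.Opens := ⟨interior (Set.range g.left), isOpen_interior⟩
  refine ⟨fun x => ?_⟩
  obtain ⟨z, ⟨h₁, h₂⟩, rfl⟩ : x ∈ μ[K].left '' ((fst K K).left ⁻¹' (U : Set K.left) ∩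
      (snd K K).left ⁻¹' (U : Set K.left)) := by
    rw [GrpSchLib.mul_dense_opens U U hden hden]; trivial
  obtain ⟨w, hw⟩ := surjective_tensorHom_of_mem g z (interior_subset h₁) (interior_subset h₂)
  refine ⟨μ[H].left w, ?_⟩
  rw [← hw, ← Scheme.Hom.comp_apply, ← Scheme.Hom.comp_apply, ← Over.comp_left, ← Over.comp_left,
    IsMonHom.mul_hom g]

end

end Groth.Agent.MonoFibre.SchemeImage
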