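import Mathlib

/-! Morphisms with `π_* O = O` locally: descent of morphisms constant on fibres. -/

set_option autoImplicit false
universe u

open CategoryTheory CategoryTheory.Limits AlgebraicGeometry

namespace Groth.Agent.MonoFibre.Contraction

noncomputable section

variable {P Q Z : Scheme.{u}} {π : P ⟶ Q}

/-- A closed surjection which is bijective on functions over a basis of opens. -/
structure IsContr (π : P ⟶ Q) : Prop where
  surj : Function.Surjective π
  closed : IsClosedMap π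
  basis : ∀ (q : Q) (O : Set Q), IsOpen O → q ∈ O → ∃ (W P' : Scheme.{u}) (w : W ⟶ Q) (w' : P' ⟶ P) (π' : P' ⟶ W),
    IsOpenImmersion w ∧ q ∈ Set.range w ∧ Set.range w ⊆ O ∧ IsPullback w' π' π w ∧
      Function.Bijective π'.appTop.hom

theorem hom_ext_affine {P' W : Scheme.{u}} [IsAffine Z] (π' : P' ⟶ W) (h : Function.Injective π'.appTop.hom)
    (a b : W ⟶ Z) (e : π' ≫ a = π' ≫ b) : a = b := by
  refine ext_of_isAffine ?_
  ext x
  apply h
  have := congrArg (fun m : P' ⟶ Z => m.appTop.hom x) e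
  simpa using this

theorem exists_desc_affine {P' W : Scheme.{u}} [IsAffine Z] (π' : P' ⟶ W) (h : Function.Bijective π'.appTop.hom)
    (m : P' ⟶ Z) : ∃ l : W ⟶ Z, π' ≫ l = m := by
  haveI : IsIso π'.appTop := (ConcreteCategory.isIso_iff_bijective _).mpr h
  have hZ : Z.isoSpec.inv.appTop = (Scheme.ΓSpecIso Γ(Z, ⊤)).inv := by
    have h1 : Z.isoSpec.inv.appTop ≫ Z.isoSpec.hom.appTop = 𝟙 _ := by
      rw [← Scheme.Hom.comp_appTop, Iso.hom_inv_id, Scheme.Hom.id_appTop]
    rw [show Z.isoSpec.hom.appTop = (Scheme.ΓSpecIso Γ(Z, ⊤)).hom from Scheme.toSpecΓ_appTop Z] at h1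
    exact (Iso.comp_hom_eq_id _).mp h1
  refine ⟨W.toSpecΓ ≫ Spec.map (m.appTop ≫ inv π'.appTop) ≫ Z.isoSpec.inv, ext_of_isAffine ?_⟩
  rw [← cancel_mono (inv π'.appTop)]
  simp only [Scheme.Hom.comp_appTop, Category.assoc, IsIso.hom_inv_id, Category.comp_id]
  rw [Scheme.toSpecΓ_appTop, Scheme.ΓSpecIso_naturality, hZ, Iso.inv_hom_id_assoc]

/-- Local data of a descent near `q`. -/
def HasDescAt (π : P ⟶ Q) (h : P ⟶ Z) (q : Q) : Prop :=
  ∃ (W P' : Scheme.{u}) (w : W ⟶ Q) (w' : P' ⟶ P) (π' : P' ⟶ W) (l : W ⟶ Z),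
    IsOpenImmersion w ∧ q ∈ Set.range w ∧ IsPullback w' π' π w ∧ π' ≫ l = w' ≫ h

theorem hasDescAt_of_fibre (hπ : IsContr π) (h : P ⟶ Z) (q : Q) (V : Z.Opens) (hV : IsAffineOpen V)
    (hq : ∀ p, π p = q → h p ∈ V) : HasDescAt π h q := by
  let C : Set Q := π '' (h ⁻¹' (V : Set Z))ᶜ
  have hC : IsOpen Cᶜ := (hπ.closed _ ((V.2.preimage h.continuous).isClosed_compl)).isOpen_compl
  have hqC : q ∈ Cᶜ := by
    rintro ⟨p, hp, rfl⟩
    exact hp (hq p rfl)
  obtain ⟨W, P', w, w', π', hw, hqw, hwC, sq, hbij⟩ := hπ.basis q _ hC hqC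
  haveI : IsAffine (V : Scheme.{u}) := hV
  let m : P' ⟶ (V : Scheme.{u}) := IsOpenImmersion.lift V.ι (w' ≫ h) (by
    rintro _ ⟨p, rfl⟩
    rw [Scheme.Opens.range_ι]
    by_contra hc
    exact hwC ⟨π' p, rfl⟩ ⟨w' p, hc, by rw [← Scheme.Hom.comp_apply, sq.w]; rfl⟩)
  obtain ⟨l, hl⟩ := exists_desc_affine π' hbij m
  exact ⟨W, P', w, w', π', l ≫ V.ι, hw, hqw, sq, by rw [reassoc_of% hl]; exact IsOpenImmersion.lift_fac _ _ _⟩

theorem hom_ext_of_isOpenImmersion (hπ : IsContr π) {R : Scheme.{u}} (g : R ⟶ Q) [IsOpenImmersion g] (a b : R ⟶ Z)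
    (e : pullback.snd π g ≫ a = pullback.snd π g ≫ b) : a = b := by
  have hbase : ∀ r : R, a r = b r := fun r => by
    obtain ⟨p, hp⟩ := hπ.surj (g r)
    obtain ⟨z, -, hz⟩ := Scheme.Pullback.exists_preimage_pullback (f := π) (g := g) p r hp
    rw [← hz, ← Scheme.Hom.comp_apply, ← Scheme.Hom.comp_apply, e]
  refine Scheme.hom_ext_of_forall a b fun r => ?_
  obtain ⟨_, ⟨V : Z.Opens, hV, rfl⟩, hrV, -⟩ :=
    Z.isBasis_affineOpens.exists_subset_of_mem_open (Set.mem_univ (a r)) isOpen_univ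
  obtain ⟨W, P', w, w', π', hw, hrw, hwO, sq, hbij⟩ := hπ.basis (g r) (g '' (a ⁻¹' (V : Set Z)))
    (g.isOpenEmbedding.isOpenMap _ (V.2.preimage a.continuous)) ⟨r, hrV, rfl⟩
  haveI := hw
  have hrg : Set.range w ⊆ Set.range g := hwO.trans (Set.image_subset_range _ _)
  let l : W ⟶ R := IsOpenImmersion.lift g w hrg
  have hl : l ≫ g = w := IsOpenImmersion.lift_fac _ _ _
  haveI : IsOpenImmersion l := by
    haveI : IsOpenImmersion (l ≫ g) := by rw [hl]; exact hw
    exact IsOpenImmersion.of_comp l g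
  haveI : IsAffine (V : Scheme.{u}) := hV
  have hlV : ∀ x, a (l x) ∈ V := fun x => by
    obtain ⟨r', hr', hgr⟩ := hwO ⟨x, rfl⟩
    have : r' = l x := g.isOpenEmbedding.injective (by rw [hgr, ← Scheme.Hom.comp_apply, hl])
    exact this ▸ hr'
  let la : W ⟶ (V : Scheme.{u}) := IsOpenImmersion.lift V.ι (l ≫ a) (by
    rintro _ ⟨x, rfl⟩; rw [Scheme.Opens.range_ι]; exact hlV x)
  let lb : W ⟶ (V : Scheme.{u}) := IsOpenImmersion.lift V.ι (l ≫ b) (by
    rintro _ ⟨x, rfl⟩; rw [Scheme.Opens.range_ι, Scheme.Hom.comp_apply, ← hbase]; exact hlV x)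
  have hla : la ≫ V.ι = l ≫ a := IsOpenImmersion.lift_fac _ _ _
  have hlb : lb ≫ V.ι = l ≫ b := IsOpenImmersion.lift_fac _ _ _
  have heq : la = lb := hom_ext_affine π' hbij.1 la lb (by
    rw [← cancel_mono V.ι, Category.assoc, Category.assoc, hla, hlb]
    let t : P' ⟶ pullback π g := pullback.lift w' (π' ≫ l) (by rw [Category.assoc, hl, sq.w])
    have ht : t ≫ pullback.snd π g = π' ≫ l := pullback.lift_snd _ _ _
    rw [← reassoc_of% ht, ← reassoc_of% ht, e])
  refine ⟨l.opensRange, ?_, ?_⟩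
  · obtain ⟨x, hx⟩ := hrw
    exact ⟨x, g.isOpenEmbedding.injective (by rw [← hx, ← Scheme.Hom.comp_apply, hl])⟩
  · rw [← cancel_epi l.isoOpensRange.hom, Scheme.Hom.isoOpensRange_hom_ι_assoc,
      Scheme.Hom.isoOpensRange_hom_ι_assoc, ← hla, ← hlb, heq]

theorem hom_ext (hπ : IsContr π) (a b : Q ⟶ Z) (e : π ≫ a = π ≫ b) : a = b :=
  hom_ext_of_isOpenImmersion hπ (𝟙 Q) a b (by
    have := pullback.condition (f := π) (g := 𝟙 Q)
    rw [Category.comp_id] at this
    rw [← this, Category.assoc, Category.assoc, e])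

/-- A morphism with local descents everywhere descends. -/
theorem exists_desc (hπ : IsContr π) (h : P ⟶ Z) (H : ∀ q, HasDescAt π h q) : ∃ b : Q ⟶ Z, π ≫ b = h := by
  choose W P' w w' π' l hw hqw sq hl using H
  haveI := hw
  let 𝒰 : Q.OpenCover := {
    I₀ := Q, X := W, f := w
    mem₀ := by
      rw [Scheme.presieve₀_mem_precoverage_iff]
      exact ⟨fun q => ⟨q, hqw q⟩, fun i => hw i⟩ }
  let b : Q ⟶ Z := 𝒰.glueMorphisms l fun i j => by
    haveI : IsOpenImmersion (w i) := hw i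
    haveI : IsOpenImmersion (w j) := hw j
    refine hom_ext_of_isOpenImmersion hπ (pullback.fst (w i) (w j) ≫ w i) _ _ ?_
    let g := pullback.fst (w i) (w j) ≫ w i
    let ti : pullback π g ⟶ P' i := (sq i).lift (pullback.fst π g) (pullback.snd π g ≫ pullback.fst (w i) (w j)) (by
      rw [Category.assoc]; exact pullback.condition)
    let tj : pullback π g ⟶ P' j := (sq j).lift (pullback.fst π g) (pullback.snd π g ≫ pullback.snd (w i) (w j)) (by
      rw [Category.assoc, ← pullback.condition (f := w i)]; exact pullback.condition)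
    have hi : ti ≫ π' i = pullback.snd π g ≫ pullback.fst (w i) (w j) := (sq i).lift_snd _ _ _
    have hj : tj ≫ π' j = pullback.snd π g ≫ pullback.snd (w i) (w j) := (sq j).lift_snd _ _ _
    show pullback.snd π g ≫ pullback.fst (w i) (w j) ≫ l i = pullback.snd π g ≫ pullback.snd (w i) (w j) ≫ l j
    rw [← reassoc_of% hi, ← reassoc_of% hj, hl, hl, ← Category.assoc, ← Category.assoc, (sq i).lift_fst, (sq j).lift_fst]
  refine ⟨b, Scheme.Cover.hom_ext (𝒰.pullback₁ π) _ _ fun i => ?_⟩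
  show pullback.fst π (w i) ≫ π ≫ b = pullback.fst π (w i) ≫ h
  rw [pullback.condition_assoc, show w i ≫ b = l i from 𝒰.ι_glueMorphisms l _ i]
  let t : pullback π (w i) ⟶ P' i := (sq i).lift (pullback.fst π (w i)) (pullback.snd π (w i)) pullback.condition
  have h1 : t ≫ π' i = pullback.snd π (w i) := (sq i).lift_snd _ _ _
  have h2 : t ≫ w' i = pullback.fst π (w i) := (sq i).lift_fst _ _ _
  rw [← h1, ← h2, Category.assoc, Category.assoc, hl]

/-- A morphism constant on the fibres descends. -/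
theorem exists_desc_of_const (hπ : IsContr π) (h : P ⟶ Z) (hc : ∀ p p', π p = π p' → h p = h p') :
    ∃ b : Q ⟶ Z, π ≫ b = h := by
  refine exists_desc hπ h fun q => ?_
  obtain ⟨p, rfl⟩ := hπ.surj q
  obtain ⟨_, ⟨V : Z.Opens, hV, rfl⟩, hV', -⟩ :=
    Z.isBasis_affineOpens.exists_subset_of_mem_open (Set.mem_univ (h p)) isOpen_univ
  exact hasDescAt_of_fibre hπ h _ V hV fun p' hp' => hc p' p hp' ▸ hV'

/-- Bijectivity on functions passes to basic opens of an affine target. -/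
theorem bijective_morphismRestrict_basicOpen {P' R : Scheme.{u}} [IsAffine R] [CompactSpace P'] [QuasiSeparatedSpace P']
    (π' : P' ⟶ R) (h : Function.Bijective π'.appTop.hom) (s : Γ(R, ⊤)) :
    Function.Bijective (π' ∣_ R.basicOpen s).appTop.hom := by
  suffices hb : Function.Bijective (π'.app (R.basicOpen s)).hom by
    haveI : IsIso (π'.app (R.basicOpen s)) := (ConcreteCategory.isIso_iff_bijective _).mpr hb
    refine (ConcreteCategory.isIso_iff_bijective _).mp ?_
    haveI hU : ∀ U, U = R.basicOpen s → IsIso (π'.app U) := fun U hU => hU ▸ inferInstance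
    haveI : IsIso (π'.app ((R.basicOpen s).ι ''ᵁ ⊤)) := hU _ (Scheme.Opens.ι_image_top _)
    rw [Scheme.Hom.appTop, morphismRestrict_app]
    exact IsIso.comp_isIso' (hU _ (Scheme.Opens.ι_image_top _)) (Functor.map_isIso P'.presheaf _)
  letI : Algebra Γ(R, ⊤) Γ(R, R.basicOpen s) := (R.presheaf.map (homOfLE le_top).op).hom.toAlgebra
  letI : Algebra Γ(R, ⊤) Γ(P', π' ⁻¹ᵁ R.basicOpen s) :=
    ((R.presheaf.map (homOfLE le_top).op) ≫ π'.app (R.basicOpen s)).hom.toAlgebra
  haveI : IsLocalization.Away s Γ(R, R.basicOpen s) := (isAffineOpen_top R).isLocalization_basicOpen s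
  haveI : IsLocalization.Away s Γ(P', π' ⁻¹ᵁ R.basicOpen s) := by
    let e : Γ(R, ⊤) ≃+* Γ(P', ⊤) := RingEquiv.ofBijective π'.appTop.hom h
    letI : Algebra Γ(P', ⊤) Γ(P', π' ⁻¹ᵁ R.basicOpen s) := (P'.presheaf.map (homOfLE le_top).op).hom.toAlgebra
    have hloc : IsLocalization.Away (e s) Γ(P', π' ⁻¹ᵁ R.basicOpen s) := by
      have h0 := isLocalization_basicOpen_of_qcqs (X := P') (U := ⊤) isCompact_univ isQuasiSeparated_univ (π'.appTop.hom s)
      have hpre : π' ⁻¹ᵁ R.basicOpen s = P'.basicOpen (π'.appTop.hom s) := Scheme.preimage_basicOpen π' s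
      have key : ∀ (U : P'.Opens), P'.basicOpen (π'.appTop.hom s) = U → ∀ (inst : Algebra Γ(P', ⊤) Γ(P', U)),
          inst = (P'.presheaf.map (homOfLE le_top).op).hom.toAlgebra → @IsLocalization.Away _ _ (π'.appTop.hom s) Γ(P', U) _ inst := by
        rintro U rfl inst rfl
        exact h0
      exact key _ hpre.symm _ rfl
    have := IsLocalization.isLocalization_of_base_ringEquiv (Submonoid.powers (e s)) Γ(P', π' ⁻¹ᵁ R.basicOpen s) e.symm
    rw [Submonoid.map_powers] at this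
    simp at this
    have halg : ((algebraMap Γ(P', ⊤) Γ(P', π' ⁻¹ᵁ R.basicOpen s)).comp e.toRingHom) =
        ((R.presheaf.map (homOfLE le_top).op) ≫ π'.app (R.basicOpen s)).hom := by
      rw [Scheme.Hom.naturality]
      rfl
    convert this using 1
    · exact Algebra.algebra_ext _ _ fun r => (RingHom.congr_fun halg r).symm
  exact IsLocalization.bijective (Submonoid.powers s) (π'.app (R.basicOpen s)).hom (by ext r; rfl)

end

end Groth.Agent.MonoFibre.Contraction
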