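import Mathlib
import Groth.Agent.MonoFibre.Contraction
import Groth.Agent.MonoFibre.SchemeImage
import Groth.Agent.MonoFibre.Affinization

/-! `W × f` is a contraction if `f` is proper with `f_* O = O`. -/

set_option autoImplicit false
universe u

open CategoryTheory CategoryTheory.Limits MonoidalCategory CartesianMonoidalCategory AlgebraicGeometry

namespace Groth.Agent.MonoFibre.Contraction

noncomputable section

variable {k : Type u} [Field k] {X Y : Over (Spec (CommRingCat.of k))}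

theorem isAffz_of_appTop {A A' : Over (Spec (CommRingCat.of k))} (t : A ⟶ A') [IsAffine A'.left]
    (h : IsIso t.left.appTop) : Affinization.IsAffz t := ⟨inferInstance, h⟩

theorem surjective_of_app (f : X ⟶ Y) [IsProper f.left] (hf : ∀ U : Y.left.Opens, IsIso (f.left.app U)) :
    Surjective f.left := by
  refine ⟨fun y => ?_⟩
  by_contra hy
  let U : Y.left.Opens := ⟨(Set.range f.left)ᶜ, f.left.isClosedMap.isClosed_range.isOpen_compl⟩
  haveI := hf U
  haveI : Subsingleton Γ(X.left, f.left ⁻¹ᵁ U) := by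
    have e : f.left ⁻¹ᵁ U = ⊥ := TopologicalSpace.Opens.ext (Set.eq_empty_of_forall_notMem fun x hx => hx ⟨x, rfl⟩)
    rw [e]
    infer_instance
  haveI : Subsingleton Γ(Y.left, U) :=
    ((ConcreteCategory.isIso_iff_bijective (f.left.app U)).mp inferInstance).1.subsingleton
  obtain ⟨_, ⟨B : Y.left.Opens, hB, rfl⟩, hyB, hBU⟩ :=
    Y.left.isBasis_affineOpens.exists_subset_of_mem_open (show y ∈ (U : Set Y.left) from hy) U.2
  haveI : Subsingleton Γ(Y.left, B) := by
    have h1 : (1 : Γ(Y.left, U)) = 0 := Subsingleton.elim _ _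
    have := congrArg (Y.left.presheaf.map (homOfLE (show B ≤ U from hBU)).op).hom h1
    rw [map_one, map_zero] at this
    exact subsingleton_of_zero_eq_one this.symm
  have hBe : (B : Set Y.left) = ∅ := by
    rw [← hB.range_fromSpec, Set.range_eq_empty_iff]
    exact inferInstanceAs (IsEmpty (PrimeSpectrum Γ(Y.left, B)))
  exact (hBe ▸ hyB : y ∈ (∅ : Set Y.left))

theorem isPullback_tensor_restrict (f : X ⟶ Y) {W A B XB : Over (Spec (CommRingCat.of k))} (ιA : A ⟶ W) (ιB : B ⟶ Y)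
    (ιX : XB ⟶ X) (fB : XB ⟶ B) (sq : IsPullback ιX.left fB.left f.left ιB.left) :
    IsPullback (ιA ⊗ₘ ιX).left (A ◁ fB).left (W ◁ f).left (ιA ⊗ₘ ιB).left := by
  refine IsPullback.of_right ?_ (congrArg CommaMorphism.left (show (ιA ⊗ₘ ιX) ≫ (W ◁ f) = (A ◁ fB) ≫ (ιA ⊗ₘ ιB) from ?_))
    (SchemeImage.isPullback_whiskerLeft W f).flip
  · have h := (SchemeImage.isPullback_whiskerLeft A fB).flip.paste_horiz sq
    rwa [← Over.comp_left, ← Over.comp_left, ← tensorHom_snd, ← tensorHom_snd] at h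
  · rw [← id_tensorHom, ← id_tensorHom, tensorHom_comp_tensorHom, tensorHom_comp_tensorHom, Category.comp_id,
      Category.id_comp]
    congr 1
    exact Over.OverMorphism.ext sq.w

theorem isContr_whiskerLeft (f : X ⟶ Y) [IsProper f.left] (hf : ∀ U : Y.left.Opens, IsIso (f.left.app U))
    (W : Over (Spec (CommRingCat.of k))) : IsContr (W ◁ f).left := by
  haveI := surjective_of_app f hf
  have sqW := SchemeImage.isPullback_whiskerLeft W f
  haveI : Surjective (W ◁ f).left := MorphismProperty.of_isPullback (P := @Surjective) sqW.flip ‹_›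
  haveI : IsProper (W ◁ f).left := MorphismProperty.of_isPullback (P := @IsProper) sqW.flip ‹_›
  refine ⟨(W ◁ f).left.surjective, (W ◁ f).left.isClosedMap, fun q O hO hq => ?_⟩
  obtain ⟨_, ⟨UA : W.left.Opens, hA, rfl⟩, hqA, -⟩ :=
    W.left.isBasis_affineOpens.exists_subset_of_mem_open (Set.mem_univ ((fst W Y).left q)) isOpen_univ
  obtain ⟨_, ⟨UB : Y.left.Opens, hB, rfl⟩, hqB, -⟩ :=
    Y.left.isBasis_affineOpens.exists_subset_of_mem_open (Set.mem_univ ((snd W Y).left q)) isOpen_univ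
  let A : Over (Spec (CommRingCat.of k)) := Over.mk (UA.ι ≫ W.hom)
  let B : Over (Spec (CommRingCat.of k)) := Over.mk (UB.ι ≫ Y.hom)
  let XB : Over (Spec (CommRingCat.of k)) := Over.mk ((f.left ⁻¹ᵁ UB).ι ≫ X.hom)
  let ιA : A ⟶ W := Over.homMk UA.ι rfl
  let ιB : B ⟶ Y := Over.homMk UB.ι rfl
  let ιX : XB ⟶ X := Over.homMk (f.left ⁻¹ᵁ UB).ι rfl
  let fB : XB ⟶ B := Over.homMk (f.left ∣_ UB) (by
    show (f.left ∣_ UB) ≫ UB.ι ≫ Y.hom = (f.left ⁻¹ᵁ UB).ι ≫ X.hom
    rw [morphismRestrict_ι_assoc, Over.w])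
  have sq : IsPullback ιX.left fB.left f.left ιB.left := (isPullback_morphismRestrict f.left UB).flip
  haveI : IsAffine A.left := hA
  haveI : IsAffine B.left := hB
  haveI : IsProper fB.left := inferInstanceAs (IsProper (f.left ∣_ UB))
  haveI : QuasiCompact B.hom := (quasiCompact_iff_compactSpace B.hom).mpr inferInstance
  haveI : QuasiCompact A.hom := (quasiCompact_iff_compactSpace A.hom).mpr inferInstance
  haveI : QuasiSeparated A.hom := inferInstance
  haveI : QuasiCompact XB.hom := by rw [← Over.w fB]; infer_instance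
  haveI : QuasiSeparated XB.hom := by rw [← Over.w fB]; infer_instance
  have hiso : IsIso fB.left.appTop := by
    haveI := hf (UB.ι ''ᵁ ⊤)
    show IsIso (f.left ∣_ UB).appTop
    rw [Scheme.Hom.appTop, morphismRestrict_app]
    exact IsIso.comp_isIso' (hf _) (Functor.map_isIso X.left.presheaf _)
  have hidA : Affinization.IsAffz (𝟙 A) := isAffz_of_appTop _ (by rw [Over.id_left, Scheme.Hom.id_appTop]; infer_instance)
  have hT : Affinization.IsAffz (𝟙 A ⊗ₘ fB) := hidA.tensor (isAffz_of_appTop fB hiso)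
  rw [id_tensorHom] at hT
  haveI : IsAffine (A ⊗ B).left := Affinization.isAffine_tensor A B
  haveI := hT.2
  have sq2 := isPullback_tensor_restrict f ιA ιB ιX fB sq
  let w₁ := (ιA ⊗ₘ ιB).left
  haveI : IsOpenImmersion ιA.left := inferInstanceAs (IsOpenImmersion UA.ι)
  haveI : IsOpenImmersion ιB.left := inferInstanceAs (IsOpenImmersion UB.ι)
  haveI : IsOpenImmersion w₁ := by
    haveI h1 : IsOpenImmersion (A ◁ ιB).left :=
      MorphismProperty.of_isPullback (P := @IsOpenImmersion) (SchemeImage.isPullback_whiskerLeft A ιB).flip ‹_›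
    haveI h2 : IsOpenImmersion (Y ◁ ιA).left :=
      MorphismProperty.of_isPullback (P := @IsOpenImmersion) (SchemeImage.isPullback_whiskerLeft Y ιA).flip ‹_›
    have e : ιA ⊗ₘ ιB = (A ◁ ιB) ≫ ((β_ A Y).hom ≫ (Y ◁ ιA) ≫ (β_ Y W).hom) := by
      apply CartesianMonoidalCategory.hom_ext <;> simp
    haveI : IsIso (β_ A Y).hom.left := ((Over.forget _).mapIso (β_ A Y)).isIso_hom
    haveI : IsIso (β_ Y W).hom.left := ((Over.forget _).mapIso (β_ Y W)).isIso_hom
    show IsOpenImmersion (ιA ⊗ₘ ιB).left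
    rw [e]
    simp only [Over.comp_left]
    infer_instance
  obtain ⟨r, hr⟩ : q ∈ Set.range w₁ := by
    obtain ⟨z, hz⟩ : q ∈ Set.range (pullback.map A.hom B.hom W.hom Y.hom UA.ι UB.ι (𝟙 _)
        (Category.comp_id _) (Category.comp_id _)) := by
      rw [Scheme.Pullback.range_map]
      exact ⟨by rw [Set.mem_preimage, Scheme.Opens.range_ι]; exact hqA, by
        rw [Set.mem_preimage, Scheme.Opens.range_ι]; exact hqB⟩
    refine ⟨z, hz ▸ ?_⟩
    show (ιA ⊗ₘ ιB).left z = _
    rw [show (ιA ⊗ₘ ιB).left = pullback.map A.hom B.hom W.hom Y.hom UA.ι UB.ι (𝟙 _)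
        (Category.comp_id _) (Category.comp_id _) from ?_]
    apply pullback.hom_ext
    · exact (congrArg CommaMorphism.left (tensorHom_fst ιA ιB)).trans (pullback.lift_fst _ _ _).symm
    · exact (congrArg CommaMorphism.left (tensorHom_snd ιA ιB)).trans (pullback.lift_snd _ _ _).symm
  obtain ⟨_, ⟨s, rfl⟩, hrs, hsO⟩ : ∃ D ∈ Set.range fun s : Γ((A ⊗ B).left, ⊤) => ((A ⊗ B).left.basicOpen s : Set (A ⊗ B).left),
      r ∈ D ∧ D ⊆ w₁ ⁻¹' O := by
    obtain ⟨s, h1, h2⟩ := (isAffineOpen_top (A ⊗ B).left).exists_basicOpen_le (V := ⟨w₁ ⁻¹' O, hO.preimage w₁.continuous⟩)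
      ⟨r, by show w₁ r ∈ O; rw [hr]; exact hq⟩ trivial
    exact ⟨_, ⟨s, rfl⟩, h2, h1⟩
  let D := (A ⊗ B).left.basicOpen s
  haveI : CompactSpace (A ⊗ XB).left := by
    haveI : QuasiCompact (A ◁ fB).left := MorphismProperty.of_isPullback (P := @QuasiCompact)
      (SchemeImage.isPullback_whiskerLeft A fB).flip inferInstance
    exact QuasiCompact.compactSpace_of_compactSpace (A ◁ fB).left
  haveI : QuasiSeparatedSpace (A ⊗ XB).left := by
    haveI : QuasiSeparated (A ◁ fB).left := MorphismProperty.of_isPullback (P := @QuasiSeparated)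
      (SchemeImage.isPullback_whiskerLeft A fB).flip inferInstance
    exact quasiSeparatedSpace_of_quasiSeparated (A ◁ fB).left
  refine ⟨D, _, D.ι ≫ w₁, ((A ◁ fB).left ⁻¹ᵁ D).ι ≫ (ιA ⊗ₘ ιX).left, (A ◁ fB).left ∣_ D,
    IsOpenImmersion.comp D.ι w₁, ⟨⟨r, hrs⟩, ?_⟩, ?_,
    (isPullback_morphismRestrict (A ◁ fB).left D).flip.paste_horiz sq2,
    bijective_morphismRestrict_basicOpen _ ((ConcreteCategory.isIso_iff_bijective _).mp inferInstance) s⟩
  · exact hr
  · rintro _ ⟨z, rfl⟩
    exact hsO z.2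

end

end Groth.Agent.MonoFibre.Contraction
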