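import Groth.Prelude.Def_AlgGrp
import Groth.Agent.MonoFibre.Connected
import Groth.Agent.GrpSchLib.OpenSubgroup

/-!
# Fixed points lift along étale equivariant morphisms when the group has connected fibres
-/

set_option autoImplicit false

universe u

open CategoryTheory MonoidalCategory CartesianMonoidalCategory MonObj GrpObj AlgebraicGeometry Limits

noncomputable section

namespace Groth.Agent.MonoFibre

/-- The locus where two maps agree, for a morphism with open diagonal. -/
theorem mem_range_diagonal_iff {P X Y : Scheme.{u}} (f : X ⟶ Y) [IsOpenImmersion (pullback.diagonal f)]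
    (α β : P ⟶ X) (h : α ≫ f = β ≫ f) {V : Scheme.{u}} (q : V ⟶ P) (v : V) :
    pullback.lift α β h (q v) ∈ Set.range (pullback.diagonal f) ↔
      V.fromSpecResidueField v ≫ q ≫ α = V.fromSpecResidueField v ≫ q ≫ β := by
  let m := V.fromSpecResidueField v ≫ q ≫ pullback.lift α β h
  have hm : ∀ z, m z = pullback.lift α β h (q v) := fun z => by
    show (V.fromSpecResidueField v ≫ q ≫ pullback.lift α β h) z = _
    rw [Scheme.Hom.comp_apply, Scheme.Hom.comp_apply, Scheme.fromSpecResidueField_apply]
  constructor
  · intro hv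
    let r := IsOpenImmersion.lift (pullback.diagonal f) m (by rintro _ ⟨z, rfl⟩; rw [hm]; exact hv)
    have hr : r ≫ pullback.diagonal f = m := IsOpenImmersion.lift_fac _ _ _
    have h1 := congrArg (· ≫ pullback.fst f f) hr
    have h2 := congrArg (· ≫ pullback.snd f f) hr
    simp only [m, Category.assoc, pullback.diagonal_fst, pullback.diagonal_snd, pullback.lift_fst,
      pullback.lift_snd, Category.comp_id] at h1 h2
    exact h1.symm.trans h2
  · intro he
    have hr : (V.fromSpecResidueField v ≫ q ≫ α) ≫ pullback.diagonal f = m := by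
      apply pullback.hom_ext
      · simp only [m, Category.assoc, pullback.diagonal_fst, Category.comp_id]
        erw [pullback.lift_fst]
      · simp only [m, Category.assoc, pullback.diagonal_snd, Category.comp_id]
        erw [pullback.lift_snd]
        exact he
    let pt : ↥(Spec (V.residueField v)) := IsLocalRing.closedPoint (V.residueField v)
    exact ⟨(V.fromSpecResidueField v ≫ q ≫ α) pt, by rw [← Scheme.Hom.comp_apply, hr, hm]⟩

variable {S : Scheme.{u}} {G X : Over S} [GrpObj G] (a : AlgGrp.Action G X)

theorem act_one {V : Over S} (y : V ⟶ X) : lift (1 : V ⟶ G) y ≫ a.act = y := by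
  rw [Hom.one_def]
  have : lift (toUnit V ≫ η[G]) y = lift (toUnit V) y ≫ (η[G] ▷ X) := by
    rw [lift_whiskerRight]
  rw [this, Category.assoc, a.one_act]
  simp

theorem act_mul {V : Over S} (g g' : V ⟶ G) (y : V ⟶ X) :
    lift (g * g') y ≫ a.act = lift g (lift g' y ≫ a.act) ≫ a.act := by
  have : lift (g * g') y = lift (lift g g') y ≫ (μ[G] ▷ X) := by
    rw [lift_whiskerRight, Hom.mul_def]
  rw [this, Category.assoc, a.mul_act]
  simp

/-- A point of a scheme over a base change, as a morphism over the base. -/
def resPt {S' : Scheme.{u}} (j : S' ⟶ S) (V : Over S') (v : V.left) :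
    Over.mk (V.left.fromSpecResidueField v ≫ V.hom ≫ j) ⟶ (Over.map j).obj V :=
  Over.homMk (V.left.fromSpecResidueField v) (by simp)

variable [Flat G.hom] [LocallyOfFinitePresentation G.hom] (hconn : ∀ s : S, ConnectedSpace (G.hom.fiber s))

include hconn in
/-- A point `x` fixed by `G` after an unramified equivariant morphism is fixed. -/
theorem eq_of_unramified {T : Over S} (x : T ⟶ X) {Y : Scheme.{u}} (f : X.left ⟶ Y)
    [IsOpenImmersion (pullback.diagonal f)]
    (hfix : (lift (fst G T) (snd G T ≫ x) ≫ a.act).left ≫ f = (snd G T ≫ x).left ≫ f) :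
    lift (fst G T) (snd G T ≫ x) ≫ a.act = snd G T ≫ x := by
  let α := lift (fst G T) (snd G T ≫ x) ≫ a.act
  let β := snd G T ≫ x
  let W : Set (G ⊗ T).left := pullback.lift α.left β.left hfix ⁻¹' Set.range (pullback.diagonal f)
  have hWo : IsOpen W := (pullback.diagonal f).isOpenEmbedding.isOpen_range.preimage (Scheme.Hom.continuous _)
  have hW : W = Set.univ := Set.eq_univ_of_forall fun p => by
    let t : T.left := (snd G T).left p
    let K : Type u := T.left.residueField t
    let j : Spec (CommRingCat.of K) ⟶ S := T.left.fromSpecResidueField t ≫ T.hom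
    let F := Over.pullback j
    let adj := Over.mapPullbackAdj j
    letI : GrpObj (F.obj G) := Functor.grpObjObj
    let tK : Over.mk j ⟶ T := Over.homMk (T.left.fromSpecResidueField t) rfl
    let til : ∀ {V : Over (Spec (CommRingCat.of K))}, (V ⟶ F.obj G) → ((Over.map j).obj V ⟶ G) :=
      fun {V} u => (adj.homEquiv V G).symm u
    have til_eq : ∀ {V : Over (Spec (CommRingCat.of K))} (u : V ⟶ F.obj G),
        u = adj.unit.app V ≫ F.map (til u) := fun {V} u => by
      exact ((adj.homEquiv V G).apply_symm_apply u).symm.trans (adj.homEquiv_unit (X := V) (Y := G) _)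
    have til_mul : ∀ {V : Over (Spec (CommRingCat.of K))} (u v : V ⟶ F.obj G), til (u * v) = til u * til v :=
      fun {V} u v => by
        apply (adj.homEquiv V G).injective
        refine (Equiv.apply_symm_apply _ _).trans ?_
        rw [adj.homEquiv_unit, Functor.map_mul, MonObj.comp_mul, ← til_eq, ← til_eq]
    have til_one : ∀ {V : Over (Spec (CommRingCat.of K))}, til (1 : V ⟶ F.obj G) = 1 := fun {V} => by
      apply (adj.homEquiv V G).injective
      refine (Equiv.apply_symm_apply _ _).trans ?_
      rw [adj.homEquiv_unit, Functor.map_one, MonObj.comp_one]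
    let str : ∀ (V : Over (Spec (CommRingCat.of K))), (Over.map j).obj V ⟶ T := fun V =>
      (Over.homMk V.hom rfl : (Over.map j).obj V ⟶ Over.mk j) ≫ tK
    let pr : ((Over.map j).obj (F.obj G)) ⟶ G ⊗ T := lift (til (𝟙 _)) (str _)
    let Fix : ∀ (V : Over S) (g : V ⟶ G) (s : V ⟶ T), Prop := fun V g s =>
      lift g (s ≫ x) ≫ a.act = s ≫ x
    have key : ∀ {V : Over (Spec (CommRingCat.of K))} (u : V ⟶ F.obj G) (v : V.left),
        u.left v ∈ pr.left ⁻¹' W ↔
          Fix (Over.mk (V.left.fromSpecResidueField v ≫ V.hom ≫ j))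
            (resPt j V v ≫ til u) (resPt j V v ≫ str V) := by
      intro V u v
      let e := resPt j V v
      have h1 : (Over.map j).map u ≫ til (𝟙 _) = til u := by
        show _ ≫ (adj.homEquiv _ G).symm (𝟙 _) = (adj.homEquiv _ G).symm u
        rw [← adj.homEquiv_naturality_left_symm, Category.comp_id]
      have h2 : (Over.map j).map u ≫ str _ = str V := by
        ext
        simp [str, tK]
      show pullback.lift α.left β.left hfix (pr.left (u.left v)) ∈ Set.range (pullback.diagonal f) ↔ _
      have hpt : pr.left (u.left v) = ((Over.map j).map u ≫ pr).left v := (Scheme.Hom.comp_apply _ _ _).symm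
      rw [hpt, mem_range_diagonal_iff f α.left β.left hfix ((Over.map j).map u ≫ pr).left v]
      have hα : e ≫ ((Over.map j).map u ≫ pr) ≫ α = lift (e ≫ til u) ((e ≫ str V) ≫ x) ≫ a.act := by
        simp only [α, pr, comp_lift_assoc, comp_lift, lift_fst, lift_snd_assoc, Category.assoc, reassoc_of% h2, h1, h2]
      have hβ : e ≫ ((Over.map j).map u ≫ pr) ≫ β = (e ≫ str V) ≫ x := by
        simp only [β, pr, comp_lift, lift_snd_assoc, Category.assoc, reassoc_of% h2, h2]
      show (e ≫ ((Over.map j).map u ≫ pr) ≫ α).left = (e ≫ ((Over.map j).map u ≫ pr) ≫ β).left ↔ _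
      rw [hα, hβ]
      exact ⟨fun h => Over.OverMorphism.ext h, fun h => congrArg (fun q => q.left) h⟩
    have hmul : ∀ {V : Over (Spec (CommRingCat.of K))} (u v : V ⟶ F.obj G) (z : V.left),
        u.left z ∈ pr.left ⁻¹' W → v.left z ∈ pr.left ⁻¹' W → (u * v).left z ∈ pr.left ⁻¹' W := by
      intro V u v z hu hv
      rw [key] at hu hv ⊢
      simp only [Fix] at hu hv ⊢
      rw [til_mul, MonObj.comp_mul, act_mul, hv, hu]
    have hone : GrpSchLib.unitPt (F.obj G) ∈ pr.left ⁻¹' W := by
      have := key (V := 𝟙_ (Over (Spec (CommRingCat.of K)))) η[F.obj G] (IsLocalRing.closedPoint K)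
      refine this.2 ?_
      simp only [Fix]
      have h1 : η[F.obj G] = (1 : 𝟙_ (Over (Spec (CommRingCat.of K))) ⟶ F.obj G) := by
        rw [Hom.one_def, toUnit_unique (toUnit _) (𝟙 _), Category.id_comp]
      rw [h1, til_one, MonObj.comp_one, act_one]
    have hcl : IsClosed (pr.left ⁻¹' W) :=
      GrpSchLib.mem_closure_mul_inv (hWo.preimage pr.left.continuous) hone hmul
    haveI : ConnectedSpace ↥(F.obj G).left := by
      haveI : GeometricallyConnected G.hom :=
        geometricallyConnected_of_connected_fibres G.hom η[G].left (Over.w η[G]) hconn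
      exact GeometricallyConnected.connectedSpace_of_subsingleton (pullback.snd G.hom j)
    haveI : PreconnectedSpace ↥((Over.map j).obj (F.obj G)).left :=
      inferInstanceAs (PreconnectedSpace ↥(F.obj G).left)
    have huniv : pr.left ⁻¹' W = Set.univ :=
      IsClopen.eq_univ ⟨hcl, hWo.preimage pr.left.continuous⟩ ⟨_, hone⟩
    let ω : Spec ((G ⊗ T).left.residueField p) ⟶ (G ⊗ T).left := (G ⊗ T).left.fromSpecResidueField p
    let ρ : Spec ((G ⊗ T).left.residueField p) ⟶ Spec (CommRingCat.of K) := Spec.map ((snd G T).left.residueFieldMap p)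
    have hρ : ρ ≫ j = ω ≫ (G ⊗ T).hom := by
      show Spec.map ((snd G T).left.residueFieldMap p) ≫ T.left.fromSpecResidueField t ≫ T.hom = _
      rw [Scheme.Hom.SpecMap_residueFieldMap_fromSpecResidueField_assoc, Over.w]
    let g : (Over.map j).obj (Over.mk ρ) ⟶ G := Over.homMk (ω ≫ (fst G T).left) (by
      rw [Category.assoc, Over.w]; exact hρ.symm)
    let u := adj.homEquiv _ G g
    have hu : ((Over.map j).map u ≫ pr).left = ω := by
      have h1 : (Over.map j).map u ≫ til (𝟙 _) = g := by
        show _ ≫ (adj.homEquiv _ G).symm (𝟙 _) = g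
        rw [← adj.homEquiv_naturality_left_symm, Category.comp_id]
        exact Equiv.symm_apply_apply _ _
      apply pullback.hom_ext
      · have hfst : pr.left ≫ pullback.fst G.hom T.hom = (til (𝟙 (F.obj G))).left :=
          congrArg (fun q => q.left) (lift_fst (til (𝟙 (F.obj G))) (str _))
        show (u.left ≫ pr.left) ≫ _ = _
        rw [Category.assoc, hfst]
        exact congrArg (fun q => q.left) h1
      · have hsnd : pr.left ≫ pullback.snd G.hom T.hom = (F.obj G).hom ≫ T.left.fromSpecResidueField t :=
          congrArg (fun q => q.left) (lift_snd (til (𝟙 (F.obj G))) (str _))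
        show (u.left ≫ pr.left) ≫ _ = _
        rw [Category.assoc, hsnd, ← Category.assoc, Over.w u]
        exact Scheme.Hom.SpecMap_residueFieldMap_fromSpecResidueField _ _
    let pt : ↥(Spec ((G ⊗ T).left.residueField p)) := IsLocalRing.closedPoint _
    have hp : pr.left (u.left pt) = p := by
      rw [← Scheme.Hom.comp_apply]
      exact (congrArg (fun q => q pt) hu).trans (Scheme.fromSpecResidueField_apply p pt)
    exact hp ▸ (huniv ▸ Set.mem_univ (u.left pt) : u.left pt ∈ pr.left ⁻¹' W)
  let r := IsOpenImmersion.lift (pullback.diagonal f) (pullback.lift α.left β.left hfix) (by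
    rintro _ ⟨z, rfl⟩
    exact (hW ▸ Set.mem_univ z : z ∈ W))
  have hr : r ≫ pullback.diagonal f = pullback.lift α.left β.left hfix := IsOpenImmersion.lift_fac _ _ _
  have h1 := congrArg (· ≫ pullback.fst f f) hr
  have h2 := congrArg (· ≫ pullback.snd f f) hr
  simp only [Category.assoc, pullback.diagonal_fst, pullback.diagonal_snd, pullback.lift_fst, pullback.lift_snd,
    Category.comp_id] at h1 h2
  exact Over.OverMorphism.ext (h1.symm.trans h2)

end Groth.Agent.MonoFibre
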