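import Mathlib
import Groth.Agent.MonoFibre.ContractionProd
import Groth.Agent.MonoFibre.FixedPt
import Groth.Agent.MonoFibre.Connected
import Groth.Agent.GrpSchLib.Component

/-! Blanchard's lemma: actions descend along contractions. -/

set_option autoImplicit false
universe u

open CategoryTheory CategoryTheory.Limits MonoidalCategory CartesianMonoidalCategory MonObj AlgebraicGeometry

namespace Groth.Agent.MonoFibre.Blanchard

noncomputable section

open Contraction

variable {k : Type u} [Field k] {G X Y : Over (Spec (CommRingCat.of k))} [GrpObj G] (f : X ⟶ Y) [IsProper f.left]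
  (hf : ∀ U : Y.left.Opens, IsIso (f.left.app U))

include hf in
theorem hom_ext_whiskerLeft {W Z : Over (Spec (CommRingCat.of k))} {a b : W ⊗ Y ⟶ Z}
    (h : (W ◁ f) ≫ a = (W ◁ f) ≫ b) : a = b :=
  Over.OverMorphism.ext (hom_ext (isContr_whiskerLeft f hf W) a.left b.left (congrArg CommaMorphism.left h))

include hf in
theorem hom_ext_base {Z : Over (Spec (CommRingCat.of k))} {a b : Y ⟶ Z} (h : f ≫ a = f ≫ b) : a = b := by
  have := hom_ext_whiskerLeft f hf (W := 𝟙_ _) (a := (λ_ Y).hom ≫ a) (b := (λ_ Y).hom ≫ b)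
    (by rw [leftUnitor_naturality_assoc, leftUnitor_naturality_assoc, h])
  exact (cancel_epi (λ_ Y).hom).mp this

variable (a : AlgGrp.Action G X)

include hf in
theorem exists_action (hc : ∀ p q : ↥(G ⊗ X).left, (G ◁ f).left p = (G ◁ f).left q →
    (a.act ≫ f).left p = (a.act ≫ f).left q) : ∃! b : AlgGrp.Action G Y, (G ◁ f) ≫ b.act = a.act ≫ f := by
  obtain ⟨b₀, hb₀⟩ := exists_desc_of_const (isContr_whiskerLeft f hf G) (a.act ≫ f).left hc
  let bact : G ⊗ Y ⟶ Y := Over.homMk b₀ (by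
    refine hom_ext (isContr_whiskerLeft f hf G) _ _ ?_
    rw [← Category.assoc, hb₀, Over.w, Over.w])
  have hb : (G ◁ f) ≫ bact = a.act ≫ f := Over.OverMorphism.ext hb₀
  have hone : η[G] ▷ Y ≫ bact = (λ_ Y).hom := by
    refine hom_ext_whiskerLeft f hf ?_
    rw [← Category.assoc, whisker_exchange, Category.assoc, hb, ← Category.assoc, a.one_act,
      MonoidalCategory.leftUnitor_naturality]
  have hmul : μ[G] ▷ Y ≫ bact = (α_ G G Y).hom ≫ G ◁ bact ≫ bact := by
    refine hom_ext_whiskerLeft f hf ?_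
    rw [← Category.assoc, whisker_exchange, Category.assoc, hb, ← Category.assoc, a.mul_act,
      associator_naturality_right_assoc, ← MonoidalCategory.whiskerLeft_comp_assoc, hb,
      MonoidalCategory.whiskerLeft_comp_assoc, hb]
    simp only [Category.assoc]
  refine ⟨{ act := bact, one_act := hone, mul_act := hmul }, hb, fun b' hb' => ?_⟩
  obtain ⟨b'act, h1, h2⟩ := b'
  have : b'act = bact := hom_ext_whiskerLeft f hf (hb'.trans hb.symm)
  subst this
  rfl

theorem const_of_pairs (h : ∀ (T : Over (Spec (CommRingCat.of k))) (g : T ⟶ G) (x₁ x₂ : T ⟶ X),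
    x₁ ≫ f = x₂ ≫ f → lift g x₁ ≫ a.act ≫ f = lift g x₂ ≫ a.act ≫ f) (p q : ↥(G ⊗ X).left)
    (hpq : (G ◁ f).left p = (G ◁ f).left q) : (a.act ≫ f).left p = (a.act ≫ f).left q := by
  obtain ⟨z, hz₁, hz₂⟩ := Scheme.Pullback.exists_preimage_pullback (f := (G ◁ f).left) (g := (G ◁ f).left) p q hpq
  let P := pullback (G ◁ f).left (G ◁ f).left
  let T : Over (Spec (CommRingCat.of k)) := Over.mk (pullback.fst (G ◁ f).left (G ◁ f).left ≫ (G ⊗ X).hom)
  let u : T ⟶ G ⊗ X := Over.homMk (pullback.fst _ _) rfl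
  let v : T ⟶ G ⊗ X := Over.homMk (pullback.snd _ _) (by
    show pullback.snd (G ◁ f).left (G ◁ f).left ≫ (G ⊗ X).hom = pullback.fst (G ◁ f).left (G ◁ f).left ≫ (G ⊗ X).hom
    rw [← Over.w (G ◁ f), ← Category.assoc, ← Category.assoc, pullback.condition])
  have huv : u ≫ (G ◁ f) = v ≫ (G ◁ f) := Over.OverMorphism.ext pullback.condition
  have hg : u ≫ fst G X = v ≫ fst G X := by simpa using congrArg (· ≫ fst G Y) huv
  have hx : (u ≫ snd G X) ≫ f = (v ≫ snd G X) ≫ f := by simpa using congrArg (· ≫ snd G Y) huv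
  have hu : u = lift (u ≫ fst G X) (u ≫ snd G X) := by ext1 <;> simp
  have hv : v = lift (u ≫ fst G X) (v ≫ snd G X) := by ext1 <;> simp [hg]
  have key := h T (u ≫ fst G X) (u ≫ snd G X) (v ≫ snd G X) hx
  rw [← hu, ← hv] at key
  have hp : u.left z = p := hz₁
  have hq : v.left z = q := hz₂
  rw [← hp, ← hq, ← Scheme.Hom.comp_apply, ← Scheme.Hom.comp_apply, ← Over.comp_left, ← Over.comp_left, key]

omit [IsProper f.left] in
theorem mem_range_unitSection (p : ↥(G ⊗ X).left) (hp : (fst G X).left p = GrpSchLib.unitPt G) :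
    p ∈ Set.range (lift (1 : X ⟶ G) (𝟙 X)).left := by
  let pt : ↥(Spec (CommRingCat.of k)) := IsLocalRing.closedPoint k
  obtain ⟨z, hz⟩ : p ∈ Set.range (pullback.map (𝟙 (Spec (CommRingCat.of k))) X.hom G.hom X.hom η[G].left (𝟙 _) (𝟙 _)
      (by rw [Category.comp_id]; exact (Over.w η[G]).symm) (by simp)) := by
    rw [Scheme.Pullback.range_map]
    refine ⟨?_, ⟨_, rfl⟩⟩
    show (fst G X).left p ∈ Set.range η[G].left
    rw [hp, GrpSchLib.range_unit]
    rfl
  let Z : Over (Spec (CommRingCat.of k)) := Over.mk (pullback.snd (𝟙 (Spec (CommRingCat.of k))) X.hom ≫ X.hom)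
  let j : Z ⟶ X := Over.homMk (pullback.snd _ _) rfl
  let m : Z ⟶ G ⊗ X := Over.homMk (pullback.map (𝟙 (Spec (CommRingCat.of k))) X.hom G.hom X.hom η[G].left (𝟙 _) (𝟙 _)
      (by rw [Category.comp_id]; exact (Over.w η[G]).symm) (by simp)) (by
    show _ ≫ pullback.fst G.hom X.hom ≫ G.hom = _
    rw [← Category.assoc]
    erw [pullback.lift_fst]
    rw [Category.assoc]
    erw [Over.w η[G]]
    exact pullback.condition)
  have hm : m = j ≫ lift (1 : X ⟶ G) (𝟙 X) := by
    apply CartesianMonoidalCategory.hom_ext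
    · rw [Category.assoc, lift_fst, MonObj.comp_one, Hom.one_def]
      apply Over.OverMorphism.ext
      show _ ≫ pullback.fst G.hom X.hom = _ ≫ η[G].left
      erw [pullback.lift_fst]
      congr 1
      exact (Category.comp_id _).symm.trans pullback.condition
    · rw [Category.assoc, lift_snd, Category.comp_id]
      apply Over.OverMorphism.ext
      show _ ≫ pullback.snd G.hom X.hom = _
      erw [pullback.lift_snd]
      rw [Category.comp_id]
      rfl
  refine ⟨j.left z, ?_⟩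
  rw [← Scheme.Hom.comp_apply, ← Over.comp_left, ← hm]
  exact hz

include hf in
theorem const_of_connected [ConnectedSpace G.left] [LocallyOfFiniteType G.hom] [IsSeparated Y.hom] (p q : ↥(G ⊗ X).left)
    (hpq : (G ◁ f).left p = (G ◁ f).left q) : (a.act ≫ f).left p = (a.act ≫ f).left q := by
  haveI := GrpSchLib.irreducibleSpace_of_connectedSpace (G := G)
  haveI : Surjective (GrpSchLib.idIncl G).left := ⟨fun x => by
    have : x ∈ Set.range (GrpSchLib.idIncl G).left := by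
      rw [GrpSchLib.range_idIncl]
      exact GrpSchLib.subset_irreducibleComponent (IrreducibleSpace.isIrreducible_univ _) (Set.mem_univ _) (Set.mem_univ _)
    exact this⟩
  obtain ⟨z, hz₁, hz₂⟩ := Scheme.Pullback.exists_preimage_pullback (f := (G ◁ f).left) (g := (G ◁ f).left) p q hpq
  let P := pullback (G ◁ f).left (G ◁ f).left
  let L := P.residueField z
  let T : Over (Spec (CommRingCat.of k)) :=
    Over.mk (P.fromSpecResidueField z ≫ pullback.fst (G ◁ f).left (G ◁ f).left ≫ (G ⊗ X).hom)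
  let u : T ⟶ G ⊗ X := Over.homMk (P.fromSpecResidueField z ≫ pullback.fst _ _) (Category.assoc _ _ _)
  let v : T ⟶ G ⊗ X := Over.homMk (P.fromSpecResidueField z ≫ pullback.snd _ _) (by
    show (P.fromSpecResidueField z ≫ pullback.snd (G ◁ f).left (G ◁ f).left) ≫ (G ⊗ X).hom = _
    rw [Category.assoc, ← Over.w (G ◁ f), ← pullback.condition_assoc, Over.w]
    rfl)
  let tt : ↥T.left := IsLocalRing.closedPoint L
  have hut : u.left tt = p := by
    show (P.fromSpecResidueField z ≫ pullback.fst _ _) tt = p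
    rw [Scheme.Hom.comp_apply, Scheme.fromSpecResidueField_apply, hz₁]
  have hvt : v.left tt = q := by
    show (P.fromSpecResidueField z ≫ pullback.snd _ _) tt = q
    rw [Scheme.Hom.comp_apply, Scheme.fromSpecResidueField_apply, hz₂]
  have huv : u ≫ (G ◁ f) = v ≫ (G ◁ f) := by
    apply Over.OverMorphism.ext
    show (P.fromSpecResidueField z ≫ pullback.fst _ _) ≫ _ = (P.fromSpecResidueField z ≫ pullback.snd _ _) ≫ _
    rw [Category.assoc, Category.assoc, pullback.condition]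
  have hg : u ≫ fst G X = v ≫ fst G X := by simpa using congrArg (· ≫ fst G Y) huv
  have hx : (u ≫ snd G X) ≫ f = (v ≫ snd G X) ≫ f := by simpa using congrArg (· ≫ snd G Y) huv
  let m₁ : G ⊗ T ⟶ Y := (G ◁ (u ≫ snd G X)) ≫ a.act ≫ f
  let m₂ : G ⊗ T ⟶ Y := (G ◁ (v ≫ snd G X)) ≫ a.act ≫ f
  have hπm : (G ◁ (u ≫ snd G X)) ≫ (G ◁ f) = (G ◁ (v ≫ snd G X)) ≫ (G ◁ f) := by
    rw [← MonoidalCategory.whiskerLeft_comp, ← MonoidalCategory.whiskerLeft_comp, hx]
  -- near the unit the composite descends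
  let e₀ : T ⟶ G ⊗ T := lift 1 (𝟙 T)
  let r : ↥(G ⊗ Y).left := ((G ◁ (u ≫ snd G X)) ≫ (G ◁ f)).left (e₀.left tt)
  obtain ⟨_, ⟨V : Y.left.Opens, hV, rfl⟩, hyV, -⟩ :=
    Y.left.isBasis_affineOpens.exists_subset_of_mem_open (Set.mem_univ (((u ≫ snd G X) ≫ f).left tt)) isOpen_univ
  have hfib : ∀ w : ↥(G ⊗ X).left, (G ◁ f).left w = r → (a.act ≫ f).left w ∈ V := fun w hw => by
    have h1 : (fst G X).left w = GrpSchLib.unitPt G := by
      rw [← whiskerLeft_fst G f, Over.comp_left, Scheme.Hom.comp_apply, hw, ← Scheme.Hom.comp_apply,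
        ← Scheme.Hom.comp_apply, ← Over.comp_left, ← Over.comp_left]
      simp only [e₀, Category.assoc, whiskerLeft_fst, lift_fst]
      exact GrpSchLib.one_apply T tt
    obtain ⟨x, rfl⟩ := mem_range_unitSection (X := X) w h1
    rw [← Scheme.Hom.comp_apply, ← Over.comp_left, ← Category.assoc, act_one, Category.id_comp]
    have h2 : f.left x = (snd G Y).left r := by
      rw [← hw, ← Scheme.Hom.comp_apply, ← Scheme.Hom.comp_apply, ← Over.comp_left, ← Over.comp_left]
      simp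
    rw [h2, ← Scheme.Hom.comp_apply, ← Scheme.Hom.comp_apply, ← Over.comp_left, ← Over.comp_left]
    simpa [e₀] using hyV
  obtain ⟨W, P', w, w', π', l, hw, hrw, sq, hl⟩ :=
    hasDescAt_of_fibre (isContr_whiskerLeft f hf G) (a.act ≫ f).left r V hV hfib
  haveI := hw
  let Ω : (G ⊗ T).left.Opens := ((G ◁ (u ≫ snd G X)) ≫ (G ◁ f)).left ⁻¹ᵁ w.opensRange
  let lΩ : (Ω : Scheme.{u}) ⟶ W := IsOpenImmersion.lift w (Ω.ι ≫ ((G ◁ (u ≫ snd G X)) ≫ (G ◁ f)).left) (by
    rintro _ ⟨y, rfl⟩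
    exact y.2)
  have hlΩ : lΩ ≫ w = Ω.ι ≫ ((G ◁ (u ≫ snd G X)) ≫ (G ◁ f)).left := IsOpenImmersion.lift_fac _ _ _
  have hm : Ω.ι ≫ m₁.left = Ω.ι ≫ m₂.left := by
    have key : ∀ (ξ : T ⟶ X), (G ◁ ξ) ≫ (G ◁ f) = (G ◁ (u ≫ snd G X)) ≫ (G ◁ f) →
        Ω.ι ≫ ((G ◁ ξ) ≫ a.act ≫ f).left = lΩ ≫ l := fun ξ hξ => by
      let t : (Ω : Scheme.{u}) ⟶ P' := sq.lift (Ω.ι ≫ (G ◁ ξ).left) lΩ (by
        rw [Category.assoc, ← Over.comp_left, hξ, hlΩ])
      have ht : t ≫ π' = lΩ := sq.lift_snd _ _ _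
      rw [← ht, Category.assoc, hl, ← Category.assoc t, sq.lift_fst, Category.assoc, ← Over.comp_left]
    rw [key _ rfl, key _ hπm.symm]
  haveI : IrreducibleSpace ↥(G ⊗ T).left := by
    haveI : IrreducibleSpace ↥T.left := inferInstanceAs (IrreducibleSpace (PrimeSpectrum L))
    haveI := GrpSchLib.irreducibleSpace_idObj_tensor (G := G) T
    have e : (GrpSchLib.idIncl G) ▷ T = (β_ (GrpSchLib.idObj G) T).hom ≫ (T ◁ GrpSchLib.idIncl G) ≫ (β_ T G).hom := by
      apply CartesianMonoidalCategory.hom_ext <;> simp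
    haveI : Surjective (T ◁ GrpSchLib.idIncl G).left := MorphismProperty.of_isPullback (P := @Surjective)
      (SchemeImage.isPullback_whiskerLeft T (GrpSchLib.idIncl G)).flip ‹_›
    haveI : IsIso (β_ (GrpSchLib.idObj G) T).hom.left := ((Over.forget _).mapIso (β_ (GrpSchLib.idObj G) T)).isIso_hom
    haveI : IsIso (β_ T G).hom.left := ((Over.forget _).mapIso (β_ T G)).isIso_hom
    haveI : Surjective ((GrpSchLib.idIncl G) ▷ T).left := by rw [e]; simp only [Over.comp_left]; infer_instance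
    exact ((GrpSchLib.idIncl G) ▷ T).left.surjective.irreducibleSpace ((GrpSchLib.idIncl G) ▷ T).left.continuous
  have hΩ : Dense (Ω : Set (G ⊗ T).left) := Ω.2.dense ⟨e₀.left tt, hrw⟩
  have hc : IsClosed (Set.range (equalizer.ι m₁ m₂).left) := (equalizer.ι m₁ m₂).left.isClosedEmbedding.isClosed_range
  have hsub : (Ω : Set (G ⊗ T).left) ⊆ Set.range (equalizer.ι m₁ m₂).left := by
    let Ωo : Over (Spec (CommRingCat.of k)) := Over.mk (Ω.ι ≫ (G ⊗ T).hom)
    let oι : Ωo ⟶ G ⊗ T := Over.homMk Ω.ι rfl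
    intro x hx
    refine ⟨(equalizer.lift oι (Over.OverMorphism.ext hm : oι ≫ m₁ = oι ≫ m₂)).left ⟨x, hx⟩, ?_⟩
    rw [← Scheme.Hom.comp_apply, ← Over.comp_left, equalizer.lift_ι]
    rfl
  obtain ⟨y, hy⟩ : (lift (u ≫ fst G X) (𝟙 T)).left tt ∈ Set.range (equalizer.ι m₁ m₂).left :=
    hc.closure_subset_iff.mpr hsub (hΩ _)
  have e₁ : lift (u ≫ fst G X) (𝟙 T) ≫ (G ◁ (u ≫ snd G X)) = u := by ext1 <;> simp
  have e₂ : lift (u ≫ fst G X) (𝟙 T) ≫ (G ◁ (v ≫ snd G X)) = v := by ext1 <;> simp [hg]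
  have hfin : m₁.left ((lift (u ≫ fst G X) (𝟙 T)).left tt) = m₂.left ((lift (u ≫ fst G X) (𝟙 T)).left tt) := by
    rw [← hy, ← Scheme.Hom.comp_apply, ← Scheme.Hom.comp_apply, ← Over.comp_left, ← Over.comp_left, equalizer.condition]
  rw [← Scheme.Hom.comp_apply, ← Scheme.Hom.comp_apply, ← Over.comp_left, ← Over.comp_left] at hfin
  simp only [m₁, m₂, reassoc_of% e₁, reassoc_of% e₂] at hfin
  rw [← hut, ← hvt, ← Scheme.Hom.comp_apply, ← Scheme.Hom.comp_apply, ← Over.comp_left, ← Over.comp_left]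
  exact hfin

end

end Groth.Agent.MonoFibre.Blanchard
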