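import Mathlib
import Groth.Agent.GrpSchLib.ClosedRestriction

/-! The largest closed subscheme `Z` of `X` with two morphisms equal on `Z × Y`. -/

set_option autoImplicit false
universe u

open CategoryTheory CategoryTheory.Limits MonoidalCategory CartesianMonoidalCategory AlgebraicGeometry

namespace Groth.Agent.MonoFibre.MaxClosed

noncomputable section

theorem exists_maxClosed {K : Type u} [Field K] {X Y W : Over (Spec (CommRingCat.of K))} (m₁ m₂ : X ⊗ Y ⟶ W)
    [IsClosedImmersion (equalizer.ι m₁ m₂).left] :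
    ∃ (Z : Over (Spec (CommRingCat.of K))) (incl : Z ⟶ X), IsClosedImmersion incl.left ∧
      ∀ (T : Over (Spec (CommRingCat.of K))) (g : T ⟶ X), (∃ z : T ⟶ Z, z ≫ incl = g) ↔
        ∀ (T' : Over (Spec (CommRingCat.of K))) (h : T' ⟶ T) (g' : T' ⟶ Y),
          lift (h ≫ g) g' ≫ m₁ = lift (h ≫ g) g' ≫ m₂ := by
  let ie := equalizer.ι m₁ m₂
  haveI : IsClosedImmersion ie.left := inferInstance
  haveI : IsClosedImmersion (ie.left : _ ⟶ pullback X.hom Y.hom) := ‹IsClosedImmersion ie.left›
  obtain ⟨Z, i, hi, hZ⟩ := Groth.Agent.GrpSchLib.ClosedRestriction.exists_restriction X.hom Y.hom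
    (ie.left : (equalizer m₁ m₂).left ⟶ pullback X.hom Y.hom)
  refine ⟨Over.mk (i ≫ X.hom), Over.homMk i rfl, hi, fun T g => ?_⟩
  have hG : (∃ z : T ⟶ Over.mk (i ≫ X.hom), z ≫ Over.homMk i rfl = g) ↔
      Groth.Agent.GrpSchLib.ClosedRestriction.Good X.hom Y.hom (ie.left : (equalizer m₁ m₂).left ⟶ pullback X.hom Y.hom) g.left := by
    refine Iff.trans ⟨?_, ?_⟩ (hZ g.left)
    · rintro ⟨z, rfl⟩
      exact ⟨z.left, rfl⟩
    · rintro ⟨z, hz⟩
      exact ⟨Over.homMk z (show z ≫ i ≫ X.hom = T.hom by rw [← Category.assoc, hz, Over.w g]),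
        Over.OverMorphism.ext hz⟩
  rw [hG]
  constructor
  · rintro ⟨e, he⟩ T' h g'
    let P := lift (h ≫ g) g'
    let l : T'.left ⟶ pullback (g.left ≫ X.hom) Y.hom := pullback.lift h.left g'.left (by
      rw [Over.w g, Over.w g', Over.w h])
    have hP : P.left = (l ≫ e) ≫ ie.left := by
      refine Eq.trans ?_ ((congrArg (l ≫ ·) he).symm.trans (Category.assoc _ _ _).symm)
      apply pullback.hom_ext
      · exact (show P.left ≫ pullback.fst X.hom Y.hom = (h ≫ g).left from pullback.lift_fst (h ≫ g).left g'.left (by rw [Over.w, Over.w])).trans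
          (((Category.assoc _ _ _).trans (congrArg (l ≫ ·) (Groth.Agent.GrpSchLib.ClosedRestriction.prodMap_fst _ _ g.left))).trans
            (pullback.lift_fst_assoc _ _ _ _)).symm
      · exact (show P.left ≫ pullback.snd X.hom Y.hom = g'.left from pullback.lift_snd (h ≫ g).left g'.left (by rw [Over.w, Over.w])).trans
          (((Category.assoc _ _ _).trans (congrArg (l ≫ ·) (Groth.Agent.GrpSchLib.ClosedRestriction.prodMap_snd _ _ g.left))).trans
            (pullback.lift_snd _ _ _)).symm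
    apply Over.OverMorphism.ext
    rw [Over.comp_left, Over.comp_left, hP, Category.assoc _ ie.left m₂.left]
    refine (Category.assoc _ _ _).trans (congrArg ((l ≫ e) ≫ ·) ?_)
    exact congrArg (·.left) (equalizer.condition m₁ m₂)
  · intro hc
    let T' : Over (Spec (CommRingCat.of K)) := Over.mk (pullback.fst (g.left ≫ X.hom) Y.hom ≫ T.hom)
    let h : T' ⟶ T := Over.homMk (pullback.fst _ _) rfl
    let g' : T' ⟶ Y := Over.homMk (pullback.snd (g.left ≫ X.hom) Y.hom)
      (show pullback.snd _ _ ≫ Y.hom = pullback.fst _ _ ≫ T.hom by rw [← pullback.condition, Over.w g])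
    have hh : lift (h ≫ g) g' ≫ m₁ = lift (h ≫ g) g' ≫ m₂ := hc T' h g'
    refine ⟨(equalizer.lift _ hh).left, ?_⟩
    refine (congrArg (·.left) (equalizer.lift_ι _ hh)).trans ?_
    apply pullback.hom_ext
    · exact (show (lift (h ≫ g) g').left ≫ pullback.fst X.hom Y.hom = (h ≫ g).left from pullback.lift_fst (h ≫ g).left g'.left (by rw [Over.w, Over.w])).trans
        (Groth.Agent.GrpSchLib.ClosedRestriction.prodMap_fst X.hom Y.hom g.left).symm
    · exact (show (lift (h ≫ g) g').left ≫ pullback.snd X.hom Y.hom = g'.left from pullback.lift_snd (h ≫ g).left g'.left (by rw [Over.w, Over.w])).trans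
        (Groth.Agent.GrpSchLib.ClosedRestriction.prodMap_snd X.hom Y.hom g.left).symm

set_option backward.isDefEq.respectTransparency false in
theorem isImmersion_equalizer_ι_left {S : Scheme.{u}} {X Y : Over S} (f g : X ⟶ Y) :
    IsImmersion (equalizer.ι f g).left := by
  refine MorphismProperty.of_isPullback
    ((Limits.isPullback_equalizer_prod f g).map (Over.forget _)).flip ?_
  rw [← MorphismProperty.cancel_right_of_respectsIso @IsImmersion _
    (Over.prodLeftIsoPullback Y Y).hom]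
  convert! (inferInstance : IsImmersion (pullback.diagonal Y.hom))
  ext1 <;> simp [← Over.comp_left]

theorem isClosedImmersion_equalizer_of_affine_cover {K : Type u} [Field K] {P W : Over (Spec (CommRingCat.of K))}
    (m₁ m₂ : P ⟶ W) (hstab : ∀ U : W.left.Opens, m₂.left ⁻¹ᵁ U ≤ m₁.left ⁻¹ᵁ U) :
    IsClosedImmersion (equalizer.ι m₁ m₂).left := by
  let ι := equalizer.ι m₁ m₂
  haveI : IsImmersion ι.left := isImmersion_equalizer_ι_left m₁ m₂
  refine IsClosedImmersion.of_isPreimmersion _ (isOpen_compl_iff.mp (isOpen_iff_forall_mem_open.mpr fun z hz => ?_))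
  obtain ⟨_, ⟨U : W.left.Opens, hU, rfl⟩, hzU, -⟩ :=
    W.left.isBasis_affineOpens.exists_subset_of_mem_open (Set.mem_univ (m₂.left z)) isOpen_univ
  let V : P.left.Opens := m₂.left ⁻¹ᵁ U
  let Q : Over (Spec (CommRingCat.of K)) := Over.mk (V.ι ≫ P.hom)
  let q : Q ⟶ P := Over.homMk V.ι rfl
  let Uo : Over (Spec (CommRingCat.of K)) := Over.mk (U.ι ≫ W.hom)
  haveI : IsAffine Uo.left := hU
  haveI : IsSeparated Uo.hom := inferInstance
  let u : Uo ⟶ W := Over.homMk U.ι rfl
  have hr₁ : Set.range (q ≫ m₁).left ⊆ Set.range U.ι := by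
    rintro _ ⟨x, rfl⟩
    rw [Scheme.Opens.range_ι]
    exact hstab U x.2
  have hr₂ : Set.range (q ≫ m₂).left ⊆ Set.range U.ι := by
    rintro _ ⟨x, rfl⟩
    rw [Scheme.Opens.range_ι]
    exact x.2
  let n₁ : Q ⟶ Uo := Over.homMk (IsOpenImmersion.lift U.ι (q ≫ m₁).left hr₁) (by
    show IsOpenImmersion.lift U.ι (q ≫ m₁).left hr₁ ≫ U.ι ≫ W.hom = _
    rw [← Category.assoc, IsOpenImmersion.lift_fac, Over.w])
  let n₂ : Q ⟶ Uo := Over.homMk (IsOpenImmersion.lift U.ι (q ≫ m₂).left hr₂) (by
    show IsOpenImmersion.lift U.ι (q ≫ m₂).left hr₂ ≫ U.ι ≫ W.hom = _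
    rw [← Category.assoc, IsOpenImmersion.lift_fac, Over.w])
  have h₁ : n₁ ≫ u = q ≫ m₁ := Over.OverMorphism.ext (IsOpenImmersion.lift_fac _ _ _)
  have h₂ : n₂ ≫ u = q ≫ m₂ := Over.OverMorphism.ext (IsOpenImmersion.lift_fac _ _ _)
  haveI : IsClosedImmersion (equalizer.ι n₁ n₂).left := inferInstance
  have hC : IsClosed (Set.range (equalizer.ι n₁ n₂).left) := (equalizer.ι n₁ n₂).left.isClosedEmbedding.isClosed_range
  refine ⟨V.ι '' (Set.range (equalizer.ι n₁ n₂).left)ᶜ, ?_, V.ι.isOpenEmbedding.isOpenMap _ hC.isOpen_compl,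
    ⟨z, hzU⟩, ?_, rfl⟩
  · rintro _ ⟨x, hx, rfl⟩ ⟨y, hy⟩
    apply hx
    let T : Over (Spec (CommRingCat.of K)) :=
      Over.mk ((equalizer m₁ m₂).left.fromSpecResidueField y ≫ (equalizer m₁ m₂).hom)
    let t : T ⟶ P := Over.homMk ((equalizer m₁ m₂).left.fromSpecResidueField y) rfl ≫ ι
    let pt : ↥T.left := IsLocalRing.closedPoint _
    have ht : t.left pt = q.left x := by
      show ((equalizer m₁ m₂).left.fromSpecResidueField y ≫ ι.left) pt = V.ι x
      rw [Scheme.Hom.comp_apply, Scheme.fromSpecResidueField_apply]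
      exact hy
    have htr : Set.range t.left ⊆ Set.range V.ι := by
      rintro _ ⟨s, rfl⟩
      rw [show s = pt from Subsingleton.elim (α := PrimeSpectrum _) _ _, ht]
      exact ⟨x, rfl⟩
    let t' : T ⟶ Q := Over.homMk (IsOpenImmersion.lift V.ι t.left htr) (by
      show IsOpenImmersion.lift V.ι t.left htr ≫ V.ι ≫ P.hom = T.hom
      rw [← Category.assoc, IsOpenImmersion.lift_fac, Over.w])
    have ht' : t' ≫ q = t := Over.OverMorphism.ext (IsOpenImmersion.lift_fac _ _ _)
    haveI : Mono u := (Over.forget _).mono_of_mono_map (show Mono u.left by exact inferInstanceAs (Mono U.ι))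
    have he : t' ≫ n₁ = t' ≫ n₂ := by
      rw [← cancel_mono u, Category.assoc, Category.assoc, h₁, h₂, ← Category.assoc, ← Category.assoc, ht']
      simp only [t, Category.assoc]
      exact congrArg (_ ≫ ·) (equalizer.condition m₁ m₂)
    refine ⟨(equalizer.lift t' he).left pt, ?_⟩
    rw [← Scheme.Hom.comp_apply, ← Over.comp_left, equalizer.lift_ι]
    apply V.ι.isOpenEmbedding.injective
    show (t'.left ≫ V.ι) pt = V.ι x
    rw [show t'.left ≫ V.ι = t.left from IsOpenImmersion.lift_fac _ _ _, ht]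
    rfl
  · rintro ⟨y, hy⟩
    apply hz
    refine ⟨(equalizer.lift (equalizer.ι n₁ n₂ ≫ q) (by
      rw [Category.assoc, Category.assoc, ← h₁, ← h₂, ← Category.assoc, ← Category.assoc, equalizer.condition])).left y, ?_⟩
    rw [← Scheme.Hom.comp_apply, ← Over.comp_left, equalizer.lift_ι, Over.comp_left, Scheme.Hom.comp_apply, hy]
    rfl

end

end Groth.Agent.MonoFibre.MaxClosed
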