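import Groth.Agent.MonoFibre.Orbit

/-!
# Homogeneous schemes with a separated open meeting all maximal points of the fibres are separated
-/

set_option autoImplicit false

universe u

open CategoryTheory MonoidalCategory CartesianMonoidalCategory MonObj GrpObj AlgebraicGeometry Limits

noncomputable section

namespace Groth.Agent.MonoFibre

variable {S : Scheme.{u}}

theorem flat_of_field {k A : Type u} [Field k] [CommRing A] (f : k →+* A) : f.Flat := by
  algebraize [f]
  show Module.Flat k A
  infer_instance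

theorem isMaxPt_of_flat {A B : Scheme.{u}} (f : A ⟶ B) [Flat f] {a : A} (ha : IsMaxPt a) : IsMaxPt (f a) := by
  intro b hb
  obtain ⟨a', ha', rfl⟩ := Flat.generalizingMap f hb
  rw [ha a' ha']

variable {G X : Over S} [GrpObj G] (a : AlgGrp.Action G X)

/-- The orbit map over a base change, read over the base. -/
theorem map_orbitMap_counit {S' : Scheme.{u}} (j : S' ⟶ S) (x : 𝟙_ (Over S') ⟶ Red.bc j X)
    (x₀ : (Over.map j).obj (Red.bc j G) ⟶ X)
    (hx : (Over.map j).map (toUnit (Red.bc j G) ≫ x) ≫ (Over.mapPullbackAdj j).counit.app X = x₀) :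
    (Over.map j).map ((bcAction j a).orbitMap x) ≫ (Over.mapPullbackAdj j).counit.app X =
      lift ((Over.mapPullbackAdj j).counit.app G) x₀ ≫ a.act := by
  let adj := Over.mapPullbackAdj j
  apply (adj.homEquiv _ _).injective
  have hg : adj.unit.app (Red.bc j G) ≫ (Over.pullback j).map (adj.counit.app G) = 𝟙 _ := adj.right_triangle_components G
  have hx0 : adj.unit.app (Red.bc j G) ≫ (Over.pullback j).map x₀ = toUnit (Red.bc j G) ≫ x := by
    rw [← hx]
    exact (adj.homEquiv_unit (X := Red.bc j G) (Y := X) _).symm.trans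
      ((congrArg _ (adj.homEquiv_counit (X := Red.bc j G) (Y := X) _).symm).trans
        ((adj.homEquiv _ _).apply_symm_apply _))
  refine ((congrArg _ (adj.homEquiv_counit (X := Red.bc j G) (Y := X) _).symm).trans
    ((adj.homEquiv _ _).apply_symm_apply _)).trans ?_
  rw [adj.homEquiv_unit]
  have hl : (Over.pullback j).map (lift (adj.counit.app G) x₀) =
      lift ((Over.pullback j).map (adj.counit.app G)) ((Over.pullback j).map x₀) ≫
        Functor.LaxMonoidal.μ (Over.pullback j) G X := by
    rw [← cancel_mono (Functor.OplaxMonoidal.δ (Over.pullback j) G X), Category.assoc, Functor.Monoidal.μ_δ]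
    refine Eq.trans ?_ (Category.comp_id _).symm
    apply hom_ext <;> simp [← Functor.map_comp]
  rw [AlgGrp.Action.orbitMap]
  refine Eq.symm ?_
  rw [Functor.map_comp, hl]
  simp only [Category.assoc]
  rw [comp_lift_assoc]
  erw [hg, hx0]
  rfl

variable [LocallyOfFiniteType G.hom]

theorem isSeparated_of_maxPts (W : G.left.Opens) (hW : ∀ s : S, η[G].left s ∈ W) [UniversallyOpen (W.ι ≫ G.hom)]
    (hΦ : Surjective (lift a.act (snd G X)).left)
    (hU : ∀ s : S, ∃ U : X.left.Opens, IsSeparated (U.ι ≫ X.hom) ∧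
      ∀ ξ : (X.hom.fiber s), IsMaxPt ξ → X.hom.fiberι s ξ ∈ U) : IsSeparated X.hom := by
  rw [isSeparated_iff]
  refine IsClosedImmersion.of_isPreimmersion _ (isClosed_of_closure_subset fun (z : (X ⊗ X).left) hz => ?_)
  let D : Set (X ⊗ X).left := Set.range (pullback.diagonal X.hom)
  obtain ⟨U, hUsep, hUmax⟩ := hU ((X ⊗ X).hom z)
  let pU : (U : Scheme.{u}) ⟶ S := U.ι ≫ X.hom
  haveI : IsSeparated pU := hUsep
  let P := G ⊗ (X ⊗ X)
  let α : P ⟶ X := lift (fst _ _) (snd _ _ ≫ fst X X) ≫ a.act
  let β : P ⟶ X := lift (fst _ _) (snd _ _ ≫ snd X X) ≫ a.act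
  let m : P ⟶ X ⊗ X := lift α β
  let V : Set P.left := (fst G (X ⊗ X)).left ⁻¹' W ∩ (α.left ⁻¹' U ∩ β.left ⁻¹' U)
  have hV : IsOpen V := (W.2.preimage (fst G (X ⊗ X)).left.continuous).inter
    ((U.2.preimage α.left.continuous).inter (U.2.preimage β.left.continuous))
  have hiff : ∀ p : P.left, m.left p ∈ D ↔ (snd G (X ⊗ X)).left p ∈ D := fun p => by
    let e : Over.mk (P.left.fromSpecResidueField p ≫ P.hom) ⟶ P := Over.homMk (P.left.fromSpecResidueField p) rfl
    show m.left p ∈ Set.range (pullback.diagonal X.hom) ↔ (snd G (X ⊗ X)).left p ∈ Set.range (pullback.diagonal X.hom)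
    rw [mem_diagonal_range_iff_comp X.hom m.left p, mem_diagonal_range_iff_comp X.hom (snd G (X ⊗ X)).left p]
    show (e ≫ m ≫ fst X X).left = (e ≫ m ≫ snd X X).left ↔
      (e ≫ snd G (X ⊗ X) ≫ fst X X).left = (e ≫ snd G (X ⊗ X) ≫ snd X X).left
    have h := act_left_cancel a (e ≫ fst _ _) (e ≫ snd G (X ⊗ X) ≫ fst X X) (e ≫ snd G (X ⊗ X) ≫ snd X X)
    simp only [m, α, β, lift_fst, lift_snd, comp_lift_assoc]
    exact ⟨fun h' => congrArg (fun q => q.left) (h.1 (Over.OverMorphism.ext h')),
      fun h' => congrArg (fun q => q.left) (h.2 (Over.OverMorphism.ext h'))⟩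
  -- a point of `V` over `z`
  obtain ⟨p, hpV, hpz⟩ : ∃ p ∈ V, (snd G (X ⊗ X)).left p = z := by
    let κ : Type u := (X ⊗ X).left.residueField z
    let K : Type u := AlgebraicClosure κ
    let ι₀ : Spec (CommRingCat.of K) ⟶ (X ⊗ X).left :=
      Spec.map (CommRingCat.ofHom (algebraMap κ K)) ≫ (X ⊗ X).left.fromSpecResidueField z
    have hι₀ : ∀ w, ι₀ w = z := fun w => by
      rw [Scheme.Hom.comp_apply]
      exact Scheme.fromSpecResidueField_apply z _
    let j : Spec (CommRingCat.of K) ⟶ S := ι₀ ≫ (X ⊗ X).hom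
    let GK := Red.bc j G
    haveI : LocallyOfFiniteType GK.hom := inferInstanceAs (LocallyOfFiniteType (pullback.snd G.hom j))
    let zT : Over.mk j ⟶ X ⊗ X := Over.homMk ι₀ rfl
    let gK : (Over.map j).obj GK ⟶ G := (Over.mapPullbackAdj j).counit.app G
    let str : (Over.map j).obj GK ⟶ Over.mk j := Over.homMk GK.hom rfl
    let pr : (Over.map j).obj GK ⟶ P := lift gK (str ≫ zT)
    have hz' : ∀ w : GK.left, (snd G (X ⊗ X)).left (pr.left w) = z := fun w => by
      rw [← Scheme.Hom.comp_apply, ← Over.comp_left, lift_snd, Over.comp_left, Scheme.Hom.comp_apply]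
      exact hι₀ _
    let pt : Over.mk (𝟙 (Spec (CommRingCat.of K))) ⟶ Red.bc j (Over.mk j) :=
      Over.homMk (pullback.lift (𝟙 _) (𝟙 _) rfl) (pullback.lift_snd _ _ _)
    let px : ∀ (f : X ⊗ X ⟶ X), (𝟙_ (Over (Spec (CommRingCat.of K)))) ⟶ Red.bc j X :=
      fun f => pt ≫ (Over.pullback j).map (zT ≫ f)
    have hpx : ∀ f : X ⊗ X ⟶ X, (Over.map j).map (toUnit GK ≫ px f) ≫ (Over.mapPullbackAdj j).counit.app X =
        (str ≫ zT) ≫ f := fun f => Over.OverMorphism.ext (by
      show (GK.hom ≫ pullback.lift (𝟙 _) (𝟙 _) rfl ≫ ((Over.pullback j).map (zT ≫ f)).left) ≫ pullback.fst X.hom j =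
        (GK.hom ≫ ι₀) ≫ f.left
      simp only [Category.assoc]
      refine congrArg (GK.hom ≫ ·) ?_
      show pullback.lift (𝟙 _) (𝟙 _) rfl ≫ pullback.lift (pullback.fst j j ≫ (zT ≫ f).left) (pullback.snd j j) _ ≫
        pullback.fst X.hom j = _
      rw [pullback.lift_fst, pullback.lift_fst_assoc, Category.id_comp]
      rfl)
    have hmax : ∀ θ : (Red.bc j X).left, IsMaxPt θ → pullback.fst X.hom j θ ∈ U := fun θ hθ => by
      let s := (X ⊗ X).hom z
      let r : Spec (CommRingCat.of K) ⟶ Spec (S.residueField s) :=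
        Spec.map (CommRingCat.ofHom (algebraMap κ K)) ≫ Spec.map ((X ⊗ X).hom.residueFieldMap z)
      have hr : r ≫ S.fromSpecResidueField s = j := by
        show (_ ≫ _) ≫ _ = (_ ≫ _) ≫ _
        rw [Category.assoc, Category.assoc, Scheme.Hom.SpecMap_residueFieldMap_fromSpecResidueField]
      haveI : Flat r := by
        show Flat (Spec.map (CommRingCat.ofHom (algebraMap κ K)) ≫ Spec.map ((X ⊗ X).hom.residueFieldMap z))
        rw [← Spec.map_comp, HasRingHomProperty.Spec_iff (P := @Flat)]
        exact flat_of_field _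
      let q : pullback X.hom j ⟶ X.hom.fiber s :=
        pullback.map X.hom j X.hom (S.fromSpecResidueField s) (𝟙 _) r (𝟙 _) (by simp) (by simp [hr])
      haveI : Flat q := by
        refine MorphismProperty.of_isPullback (P := @Flat)
          ((?_ : IsPullback q (pullback.snd X.hom j) (pullback.snd X.hom (S.fromSpecResidueField s)) r).flip) inferInstance
        refine IsPullback.of_right (h₁₂ := pullback.fst X.hom (S.fromSpecResidueField s)) ?_
          (pullback.lift_snd _ _ _) (IsPullback.of_hasPullback X.hom (S.fromSpecResidueField s))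
        have h1 : q ≫ pullback.fst X.hom (S.fromSpecResidueField s) = pullback.fst X.hom j := by
          simp only [q, pullback.map]
          erw [pullback.lift_fst, Category.comp_id]
        refine IsPullback.of_iso (IsPullback.of_hasPullback X.hom j) (Iso.refl _) (Iso.refl _) (Iso.refl _) (Iso.refl _)
          ?_ ?_ ?_ ?_
        · exact (Category.comp_id _).trans (h1.symm.trans (Category.id_comp _).symm)
        · exact (Category.comp_id _).trans (Category.id_comp _).symm
        · exact (Category.comp_id _).trans (Category.id_comp _).symm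
        · exact (Category.comp_id _).trans (hr.symm.trans (Category.id_comp _).symm)
      have := hUmax _ (isMaxPt_of_flat q hθ)
      rw [← Scheme.Hom.comp_apply, show q ≫ X.hom.fiberι s = pullback.fst X.hom j by
        simp only [q, pullback.map, Scheme.Hom.fiberι]
        erw [pullback.lift_fst, Category.comp_id]] at this
      exact this
    obtain ⟨w, hwW, hwA, hwB⟩ := exists_mem_orbit_inter (bcAction j a) (bcAction_surjective j a hΦ) (px (fst X X)) (px (snd X X))
      (U := pullback.fst X.hom j ⁻¹' U) (U.2.preimage (Scheme.Hom.continuous _)) hmax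
      (W := pullback.fst G.hom j ⁻¹' W) (W.2.preimage (Scheme.Hom.continuous _)) (by
        show pullback.fst G.hom j (η[GK].left (IsLocalRing.closedPoint K)) ∈ W
        have hε : (Functor.LaxMonoidal.ε (Over.pullback j)).left ≫ pullback.fst (𝟙_ (Over S)).hom j = j := by
          have h := Over.w (Functor.LaxMonoidal.ε (Over.pullback j))
          have h2 : pullback.fst (𝟙_ (Over S)).hom j = pullback.snd (𝟙_ (Over S)).hom j ≫ j :=
            (Category.comp_id _).symm.trans pullback.condition
          rw [h2, ← Category.assoc]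
          exact (congrArg (· ≫ j) h).trans (Category.id_comp j)
        have h1 : η[GK].left ≫ pullback.fst G.hom j = j ≫ η[G].left := by
          show ((Functor.LaxMonoidal.ε (Over.pullback j)).left ≫ ((Over.pullback j).map η[G]).left) ≫ _ = _
          rw [Category.assoc]
          refine (congrArg (_ ≫ ·) (pullback.lift_fst _ _ _)).trans ?_
          rw [← Category.assoc, hε]
        erw [← Scheme.Hom.comp_apply, h1, Scheme.Hom.comp_apply]
        exact hW _)
    refine ⟨pr.left w, ⟨?_, ?_, ?_⟩, hz' w⟩
    · show (fst G (X ⊗ X)).left (pr.left w) ∈ W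
      rw [← Scheme.Hom.comp_apply, ← Over.comp_left, lift_fst]
      exact hwW
    · show α.left (pr.left w) ∈ U
      rw [← Scheme.Hom.comp_apply, ← Over.comp_left]
      have h3 : pr ≫ α = lift gK ((str ≫ zT) ≫ fst X X) ≫ a.act := by
        simp only [α, pr, comp_lift_assoc, lift_fst, lift_snd_assoc]
      rw [h3, ← map_orbitMap_counit a j _ _ (hpx (fst X X))]
      exact hwA
    · show β.left (pr.left w) ∈ U
      rw [← Scheme.Hom.comp_apply, ← Over.comp_left]
      have h3 : pr ≫ β = lift gK ((str ≫ zT) ≫ snd X X) ≫ a.act := by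
        simp only [β, pr, comp_lift_assoc, lift_fst, lift_snd_assoc]
      rw [h3, ← map_orbitMap_counit a j _ _ (hpx (snd X X))]
      exact hwB
  let PW : P.left.Opens := ⟨(fst G (X ⊗ X)).left ⁻¹' W, W.2.preimage (fst G (X ⊗ X)).left.continuous⟩
  haveI : UniversallyOpen (PW.ι ≫ (snd G (X ⊗ X)).left) :=
    MorphismProperty.of_isPullback (P := @UniversallyOpen)
      ((isPullback_morphismRestrict (fst G (X ⊗ X)).left W).paste_vert
        (IsPullback.of_hasPullback G.hom (X ⊗ X).hom)) inferInstance
  have hp : p ∈ closure (V ∩ m.left ⁻¹' D) := by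
    have h1 : p ∈ closure ((snd G (X ⊗ X)).left ⁻¹' D) := by
      let p' : PW := ⟨p, hpV.1⟩
      have h2 : p' ∈ closure ((PW.ι ≫ (snd G (X ⊗ X)).left) ⁻¹' D) := by
        rw [← (PW.ι ≫ (snd G (X ⊗ X)).left).isOpenMap.preimage_closure_eq_closure_preimage (Scheme.Hom.continuous _)]
        show (snd G (X ⊗ X)).left p ∈ closure D
        rwa [hpz]
      exact mem_closure_image PW.ι.continuous.continuousAt h2 |> closure_mono (by
        rintro _ ⟨q, hq, rfl⟩
        exact hq)
    rw [show V ∩ m.left ⁻¹' D = V ∩ (snd G (X ⊗ X)).left ⁻¹' D from Set.ext fun q => and_congr_right fun _ => hiff q]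
    exact hV.inter_closure ⟨hpV, h1⟩
  let jU : pullback pU pU ⟶ (X ⊗ X).left :=
    pullback.map pU pU X.hom X.hom U.ι U.ι (𝟙 S) (Category.comp_id _) (Category.comp_id _)
  have hrange : ∀ q ∈ V, m.left q ∈ Set.range jU := fun q hq => by
    rw [Scheme.Pullback.range_map, Scheme.Opens.range_ι]
    constructor
    · show (fst X X).left (m.left q) ∈ U
      rw [← Scheme.Hom.comp_apply, ← Over.comp_left, lift_fst]
      exact hq.2.1
    · show (snd X X).left (m.left q) ∈ U
      rw [← Scheme.Hom.comp_apply, ← Over.comp_left, lift_snd]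
      exact hq.2.2
  have hdiag : pullback.diagonal pU ≫ jU = U.ι ≫ pullback.diagonal X.hom := by
    apply pullback.hom_ext
    · simp only [jU, pullback.map, Category.assoc, pullback.diagonal_fst, Category.comp_id]
      erw [pullback.lift_fst, pullback.diagonal_fst_assoc]
    · simp only [jU, pullback.map, Category.assoc, pullback.diagonal_snd, Category.comp_id]
      erw [pullback.lift_snd, pullback.diagonal_snd_assoc]
  obtain ⟨w, hw⟩ := hrange p hpV
  have hw' : w ∈ closure (Set.range (pullback.diagonal pU)) := by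
    have hsub : V ∩ m.left ⁻¹' D ⊆ m.left ⁻¹' (jU '' Set.range (pullback.diagonal pU)) := by
      rintro q ⟨hqV, x, hx⟩
      obtain ⟨v, hv⟩ := hrange q hqV
      have hxU' : x ∈ U := by
        have h := congrArg (fun t => (fst X X).left t) hx
        have h1 : (fst X X).left (pullback.diagonal X.hom x) = x := by
          show (pullback.diagonal X.hom ≫ pullback.fst X.hom X.hom) x = x
          rw [pullback.diagonal_fst]; rfl
        rw [h1] at h
        rw [h, ← Scheme.Hom.comp_apply, ← Over.comp_left, lift_fst]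
        exact hqV.2.1
      refine ⟨pullback.diagonal pU ⟨x, hxU'⟩, ⟨_, rfl⟩, ?_⟩
      erw [← Scheme.Hom.comp_apply, hdiag, Scheme.Hom.comp_apply]
      exact hx
    have h2 : m.left p ∈ closure (jU '' Set.range (pullback.diagonal pU)) :=
      m.left.continuous.closure_preimage_subset _ (closure_mono hsub hp)
    rw [← hw] at h2
    rwa [jU.isEmbedding.closure_eq_preimage_closure_image]
  rw [(pullback.diagonal pU).isClosedEmbedding.isClosed_range.closure_eq] at hw'
  obtain ⟨x, rfl⟩ := hw'
  have hD : m.left p ∈ D := by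
    rw [← hw, ← Scheme.Hom.comp_apply, hdiag, Scheme.Hom.comp_apply]
    exact ⟨_, rfl⟩
  exact hpz ▸ (hiff p).1 hD

end Groth.Agent.MonoFibre
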