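import Groth.Agent.FlatLocus.FibreCrit
import Groth.Agent.FlatLocus.SmoothFibres
import Groth.Agent.FlatLocus.PointScheme
import Groth.Agent.FpqcDesc.Stalk
import Groth.Agent.SchDesc.TorsorDesc
/-!
Loci of homomorphisms of group schemes which are detected on fibres and spread by translation.
-/

set_option autoImplicit false
set_option maxHeartbeats 1000000
set_option backward.isDefEq.respectTransparency.types false
set_option linter.style.haveILetI false

universe u

open CategoryTheory CategoryTheory.Limits MonoidalCategory CartesianMonoidalCategory MonObj AlgebraicGeometry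

namespace Groth.Agent.MonoFibre.HomLocus

/-- Translation over an algebraically closed field. -/
theorem of_open_algClosed {k : Type u} [Field k] [IsAlgClosed k] (P : MorphismProperty Scheme.{u})
    [IsZariskiLocalAtSource P] [P.RespectsIso] {G H : Over (Spec (CommRingCat.of k))} [GrpObj G] [GrpObj H]
    [LocallyOfFiniteType G.hom] (u : G ⟶ H) [IsMonHom u] (W : G.left.Opens) (hW : (W : Set G.left).Nonempty)
    (h : P (W.ι ≫ u.left)) : P u.left := by
  haveI := LocallyOfFiniteType.jacobsonSpace G.hom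
  let T : Set G.left := {x | ∃ O : G.left.Opens, x ∈ O ∧ P (O.ι ≫ u.left)}
  have hT : IsOpen T := isOpen_iff_forall_mem_open.mpr fun x ⟨O, hx, hO⟩ =>
    ⟨O, fun y hy => ⟨O, hy, hO⟩, O.2, hx⟩
  suffices hall : ∀ x : G.left, x ∈ T by
    choose O hxO hO using hall
    exact IsZariskiLocalAtSource.of_iSup_eq_top (P := P) O
      (top_unique fun x _ => TopologicalSpace.Opens.mem_iSup.2 ⟨x, hxO x⟩) hO
  by_contra hne
  rw [not_forall] at hne
  obtain ⟨x, hx, hxc⟩ := nonempty_inter_closedPoints (Z := Tᶜ) hne hT.isClosed_compl.isLocallyClosed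
  obtain ⟨y, hy, hyc⟩ := nonempty_inter_closedPoints hW W.2.isLocallyClosed
  let a : 𝟙_ (Over (Spec (CommRingCat.of k))) ⟶ G :=
    Over.homMk _ ((pointEquivClosedPoint G.hom).symm ⟨x, hxc⟩).2
  let b : 𝟙_ (Over (Spec (CommRingCat.of k))) ⟶ G :=
    Over.homMk _ ((pointEquivClosedPoint G.hom).symm ⟨y, hyc⟩).2
  obtain ⟨c, hc⟩ : ∃ c : 𝟙_ (Over (Spec (CommRingCat.of k))) ⟶ G, c = b * a⁻¹ := ⟨_, rfl⟩
  let τ : G ≅ G :=
    { hom := (toUnit G ≫ c) * 𝟙 G
      inv := (toUnit G ≫ c)⁻¹ * 𝟙 G
      hom_inv_id := by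
        rw [MonObj.comp_mul, GrpObj.comp_inv, comp_toUnit_assoc, Category.comp_id, _root_.inv_mul_cancel_left]
      inv_hom_id := by
        rw [MonObj.comp_mul, comp_toUnit_assoc, Category.comp_id, _root_.mul_inv_cancel_left] }
  let σ : H ≅ H :=
    { hom := (toUnit H ≫ c ≫ u) * 𝟙 H
      inv := (toUnit H ≫ c ≫ u)⁻¹ * 𝟙 H
      hom_inv_id := by
        rw [MonObj.comp_mul, GrpObj.comp_inv, comp_toUnit_assoc, Category.comp_id, _root_.inv_mul_cancel_left]
      inv_hom_id := by
        rw [MonObj.comp_mul, comp_toUnit_assoc, Category.comp_id, _root_.mul_inv_cancel_left] }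
  have hnat : τ.hom ≫ u = u ≫ σ.hom := by
    rw [MonObj.mul_comp, MonObj.comp_mul, Category.id_comp, Category.comp_id, comp_toUnit_assoc, Category.assoc]
  haveI : IsIso τ.hom.left := ((Over.forget _).mapIso τ).isIso_hom
  haveI : IsIso σ.hom.left := ((Over.forget _).mapIso σ).isIso_hom
  have hxy : τ.hom.left x = y := by
    have e : a ≫ τ.hom = b := by
      rw [MonObj.comp_mul, comp_toUnit_assoc, Category.comp_id,
        toUnit_unique (toUnit (𝟙_ (Over (Spec (CommRingCat.of k))))) (𝟙 _), Category.id_comp]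
      rw [hc]
      exact _root_.inv_mul_cancel_right b a
    simpa [a, b, pointEquivClosedPoint] using congr(($e).left (IsLocalRing.closedPoint k))
  refine hx ⟨τ.hom.left ⁻¹ᵁ W, show τ.hom.left x ∈ W from hxy ▸ hy, ?_⟩
  refine (MorphismProperty.cancel_right_of_respectsIso P _ σ.hom.left).mp ?_
  rw [Category.assoc, ← Over.comp_left, ← hnat, Over.comp_left, ← morphismRestrict_ι_assoc]
  exact MorphismProperty.RespectsIso.precomp P (τ.hom.left ∣_ W) _ h

/-- Translation over a field. -/
theorem of_open {k : Type u} [Field k] (P : MorphismProperty Scheme.{u})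
    [IsZariskiLocalAtSource P] [P.IsStableUnderBaseChange]
    [P.DescendsAlong (@Surjective ⊓ @Flat ⊓ @QuasiCompact)] {G H : Over (Spec (CommRingCat.of k))} [GrpObj G]
    [GrpObj H] [LocallyOfFiniteType G.hom] (u : G ⟶ H) [IsMonHom u] (W : G.left.Opens)
    (hW : (W : Set G.left).Nonempty) (h : P (W.ι ≫ u.left)) : P u.left := by
  let g : Spec (CommRingCat.of (AlgebraicClosure k)) ⟶ Spec (CommRingCat.of k) :=
    Spec.map (CommRingCat.ofHom (algebraMap k (AlgebraicClosure k)))
  letI : GrpObj ((Over.pullback g).obj G) := Functor.grpObjObj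
  letI : GrpObj ((Over.pullback g).obj H) := Functor.grpObjObj
  haveI : LocallyOfFiniteType ((Over.pullback g).obj G).hom :=
    MorphismProperty.pullback_snd G.hom g ‹_›
  let p : pullback G.hom g ⟶ G.left := pullback.fst G.hom g
  let q : pullback H.hom g ⟶ H.left := pullback.fst H.hom g
  have hsq : IsPullback p ((Over.pullback g).map u).left u.left q := by
    refine IsPullback.of_bot (v₂₁ := pullback.snd H.hom g) (v₂₂ := H.hom) (h₃₁ := g) ?_ ?_
      (IsPullback.of_hasPullback H.hom g)
    · rw [show ((Over.pullback g).map u).left ≫ pullback.snd H.hom g = pullback.snd G.hom g from pullback.lift_snd _ _ _,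
        Over.w u]
      exact IsPullback.of_hasPullback G.hom g
    · exact (pullback.lift_fst _ _ _).symm
  haveI : Surjective p := inferInstanceAs (Surjective (pullback.fst G.hom g))
  haveI : Surjective q := inferInstanceAs (Surjective (pullback.fst H.hom g))
  haveI : Flat q := inferInstanceAs (Flat (pullback.fst H.hom g))
  haveI : QuasiCompact q := inferInstanceAs (QuasiCompact (pullback.fst H.hom g))
  have hWp : P ((p ⁻¹ᵁ W).ι ≫ ((Over.pullback g).map u).left) :=
    MorphismProperty.of_isPullback ((isPullback_morphismRestrict p W).paste_vert hsq) h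
  have hne : ((p ⁻¹ᵁ W) : Set ↥(pullback G.hom g)).Nonempty := by
    obtain ⟨x, hx⟩ := hW
    obtain ⟨z, hz⟩ := p.surjective x
    exact ⟨z, show p z ∈ W from hz ▸ hx⟩
  exact MorphismProperty.of_isPullback_of_descendsAlong (Q := @Surjective ⊓ @Flat ⊓ @QuasiCompact) hsq.flip
    ⟨⟨‹Surjective q›, ‹Flat q›⟩, ‹QuasiCompact q›⟩
    (of_open_algClosed P ((Over.pullback g).map u) _ hne hWp)

variable {X Y S : Scheme.{u}} (f : X ⟶ Y) (g : Y ⟶ S)

theorem formallySmooth_stalk_iff_fibre [LocallyOfFiniteType g] [LocallyOfFinitePresentation (f ≫ g)] [Flat (f ≫ g)]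
    (s : S) (z : (f ≫ g).fiber s) :
    (f.stalkMap ((f ≫ g).fiberι s z)).hom.FormallySmooth ↔
      ((MoreMor.fiberMap f g s).stalkMap z).hom.FormallySmooth := by
  haveI := FlatLocus.locallyOfFinitePresentation_of_comp f g
  have hiff := FlatLocus.fiberMap_stalk_iff f g RingHom.FormallySmooth.respectsIso s z
  letI := (f.stalkMap ((f ≫ g).fiberι s z)).hom.toAlgebra
  refine ⟨fun h => hiff.mpr ?_, fun h => ?_⟩
  · haveI : Algebra.FormallySmooth _ _ := h
    exact RingHom.formallySmooth_algebraMap.mpr inferInstance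
  · haveI : LocallyOfFinitePresentation (MoreMor.fiberMap f g s ≫ g.fiberToSpecResidueField s) := by
      rw [show MoreMor.fiberMap f g s ≫ g.fiberToSpecResidueField s =
        (f ≫ g).fiberToSpecResidueField s from pullback.lift_snd _ _ _]
      exact MorphismProperty.pullback_snd _ _ inferInstance
    haveI : LocallyOfFiniteType (g.fiberToSpecResidueField s) :=
      MorphismProperty.pullback_snd _ _ inferInstance
    haveI := FlatLocus.locallyOfFinitePresentation_of_comp (MoreMor.fiberMap f g s) (g.fiberToSpecResidueField s)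
    have hf : (f.stalkMap ((f ≫ g).fiberι s z)).hom.Flat :=
      (FlatLocus.flat_stalkMap_of_fibre f g s z (Flat.stalkMap (f ≫ g) _)
        (FlatLocus.formallySmooth_stalk_of_flat _ _ h)).2
    exact FlatLocus.formallySmooth_stalkMap_of_quotient f _ hf _ (FlatLocus.map_maximalIdeal_le g _) (hiff.mp h)

omit f g in
/-- The criterion phrased with a pullback. -/
theorem exists_smooth_nhd_iff_fibre (f : X ⟶ Y) (g : Y ⟶ S) (h : X ⟶ S) (e : f ≫ g = h) [Flat h]
    [LocallyOfFinitePresentation h] [LocallyOfFiniteType g] (s : S) (z : ↥(pullback h (S.fromSpecResidueField s)))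
    (x : X) (hx : pullback.fst h (S.fromSpecResidueField s) z = x) :
    let F := pullback.lift (f := g) (g := S.fromSpecResidueField s)
      (pullback.fst h (S.fromSpecResidueField s) ≫ f) (pullback.snd h (S.fromSpecResidueField s))
      (by rw [Category.assoc, e, pullback.condition])
    ((∃ W : X.Opens, x ∈ W ∧ Smooth (W.ι ≫ f)) ↔ ∃ W : (pullback h (S.fromSpecResidueField s)).Opens, z ∈ W ∧ Smooth (W.ι ≫ F)) ∧
    ((∃ W : X.Opens, x ∈ W ∧ Etale (W.ι ≫ f)) ↔ ∃ W : (pullback h (S.fromSpecResidueField s)).Opens, z ∈ W ∧ Etale (W.ι ≫ F)) := by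
  subst e
  subst hx
  intro F
  haveI := FlatLocus.locallyOfFinitePresentation_of_comp f g
  haveI : LocallyOfFinitePresentation (MoreMor.fiberMap f g s ≫ g.fiberToSpecResidueField s) := by
    rw [show MoreMor.fiberMap f g s ≫ g.fiberToSpecResidueField s =
      (f ≫ g).fiberToSpecResidueField s from pullback.lift_snd _ _ _]
    exact MorphismProperty.pullback_snd _ _ inferInstance
  haveI : LocallyOfFiniteType (g.fiberToSpecResidueField s) :=
    MorphismProperty.pullback_snd _ _ inferInstance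
  haveI : LocallyOfFinitePresentation F :=
    FlatLocus.locallyOfFinitePresentation_of_comp (MoreMor.fiberMap f g s) (g.fiberToSpecResidueField s)
  refine ⟨?_, ?_⟩
  · rw [FlatLocus.exists_smooth_nhd_iff, FlatLocus.exists_smooth_nhd_iff]
    exact formallySmooth_stalk_iff_fibre f g s z
  · rw [FlatLocus.exists_etale_nhd_iff, FlatLocus.exists_etale_nhd_iff]
    exact and_congr (formallySmooth_stalk_iff_fibre f g s z) (FlatLocus.formallyUnramified_stalk_iff_fibre f g s z)

/-- Loci detected on fibres are saturated and open. -/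
theorem locus {S : Scheme.{u}} {G H : Over S} [GrpObj G] [GrpObj H] (u : G ⟶ H) [IsMonHom u]
    [Flat G.hom] [LocallyOfFinitePresentation G.hom] (P : MorphismProperty Scheme.{u})
    [IsZariskiLocalAtSource P] [P.IsStableUnderBaseChange]
    [P.DescendsAlong (@Surjective ⊓ @Flat ⊓ @QuasiCompact)]
    (key : ∀ (s : S) (z : ↥(pullback G.hom (S.fromSpecResidueField s))) (x : G.left),
      pullback.fst G.hom (S.fromSpecResidueField s) z = x →
      ((∃ W : G.left.Opens, x ∈ W ∧ P (W.ι ≫ u.left)) ↔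
        ∃ W : (pullback G.hom (S.fromSpecResidueField s)).Opens, z ∈ W ∧
          P (W.ι ≫ ((Over.pullback (S.fromSpecResidueField s)).map u).left))) :
    IsOpen {s : S | P ((Over.pullback (S.fromSpecResidueField s)).map u).left} ∧
    {x : G.left | ∃ W : G.left.Opens, x ∈ W ∧ P (W.ι ≫ u.left)} =
      G.hom.base ⁻¹' {s : S | P ((Over.pullback (S.fromSpecResidueField s)).map u).left} := by
  let A : Set G.left := {x : G.left | ∃ W : G.left.Opens, x ∈ W ∧ P (W.ι ≫ u.left)}
  let U : Set S := {s : S | P ((Over.pullback (S.fromSpecResidueField s)).map u).left}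
  have hopen : IsOpen A := isOpen_iff_forall_mem_open.mpr fun x ⟨O, hx, hO⟩ =>
    ⟨O, fun y hy => ⟨O, hy, hO⟩, O.2, hx⟩
  have hAU : A = G.hom.base ⁻¹' U := by
    ext x
    let s : S := G.hom x
    let ι₀ : Spec (CommRingCat.of (S.residueField s)) ⟶ S := S.fromSpecResidueField s
    letI : GrpObj ((Over.pullback ι₀).obj G) := Functor.grpObjObj
    letI : GrpObj ((Over.pullback ι₀).obj H) := Functor.grpObjObj
    haveI : LocallyOfFiniteType ((Over.pullback ι₀).obj G).hom :=
      MorphismProperty.pullback_snd G.hom ι₀ inferInstance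
    obtain ⟨z, hz, -⟩ := Scheme.Pullback.exists_preimage_pullback (f := G.hom) (g := ι₀) x
      (IsLocalRing.closedPoint (S.residueField s)) (S.fromSpecResidueField_apply s _).symm
    refine (key s z x hz).trans ⟨fun ⟨W, hzW, hW⟩ => ?_, fun h => ⟨⊤, trivial, ?_⟩⟩
    · exact of_open P ((Over.pullback ι₀).map u) W ⟨z, hzW⟩ hW
    · exact IsZariskiLocalAtSource.comp h _
  refine ⟨?_, hAU⟩
  show IsOpen U
  have hsurj : Function.Surjective G.hom.base := fun s =>
    ⟨η[G].left s, by rw [← Scheme.Hom.comp_apply, Over.w]; rfl⟩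
  rw [← Set.image_preimage_eq U hsurj, ← hAU]
  exact G.hom.isOpenMap _ hopen

/-- Loci detected on fibres are saturated and open. -/
theorem locus_of_lft {S : Scheme.{u}} {G H : Over S} [GrpObj G] [GrpObj H] (u : G ⟶ H) [IsMonHom u]
    (hlft : ∀ s : S, LocallyOfFiniteType (G.hom.fiberToSpecResidueField s)) (P : MorphismProperty Scheme.{u})
    [IsZariskiLocalAtSource P] [P.IsStableUnderBaseChange]
    [P.DescendsAlong (@Surjective ⊓ @Flat ⊓ @QuasiCompact)]
    (key : ∀ (s : S) (z : ↥(pullback G.hom (S.fromSpecResidueField s))) (x : G.left),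
      pullback.fst G.hom (S.fromSpecResidueField s) z = x →
      ((∃ W : G.left.Opens, x ∈ W ∧ P (W.ι ≫ u.left)) ↔
        ∃ W : (pullback G.hom (S.fromSpecResidueField s)).Opens, z ∈ W ∧
          P (W.ι ≫ ((Over.pullback (S.fromSpecResidueField s)).map u).left))) :
    IsOpen {s : S | P ((Over.pullback (S.fromSpecResidueField s)).map u).left} ∧
    {x : G.left | ∃ W : G.left.Opens, x ∈ W ∧ P (W.ι ≫ u.left)} =
      G.hom.base ⁻¹' {s : S | P ((Over.pullback (S.fromSpecResidueField s)).map u).left} := by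
  let A : Set G.left := {x : G.left | ∃ W : G.left.Opens, x ∈ W ∧ P (W.ι ≫ u.left)}
  let U : Set S := {s : S | P ((Over.pullback (S.fromSpecResidueField s)).map u).left}
  have hopen : IsOpen A := isOpen_iff_forall_mem_open.mpr fun x ⟨O, hx, hO⟩ =>
    ⟨O, fun y hy => ⟨O, hy, hO⟩, O.2, hx⟩
  have hAU : A = G.hom.base ⁻¹' U := by
    ext x
    let s : S := G.hom x
    let ι₀ : Spec (CommRingCat.of (S.residueField s)) ⟶ S := S.fromSpecResidueField s
    letI : GrpObj ((Over.pullback ι₀).obj G) := Functor.grpObjObj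
    letI : GrpObj ((Over.pullback ι₀).obj H) := Functor.grpObjObj
    haveI : LocallyOfFiniteType ((Over.pullback ι₀).obj G).hom := hlft s
    obtain ⟨z, hz, -⟩ := Scheme.Pullback.exists_preimage_pullback (f := G.hom) (g := ι₀) x
      (IsLocalRing.closedPoint (S.residueField s)) (S.fromSpecResidueField_apply s _).symm
    refine (key s z x hz).trans ⟨fun ⟨W, hzW, hW⟩ => ?_, fun h => ⟨⊤, trivial, ?_⟩⟩
    · exact of_open P ((Over.pullback ι₀).map u) W ⟨z, hzW⟩ hW
    · exact IsZariskiLocalAtSource.comp h _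
  refine ⟨?_, hAU⟩
  show IsOpen U
  have hU : U = η[G].left ⁻¹' A := by
    ext s
    have e : G.hom (η[G].left s) = s := by rw [← Scheme.Hom.comp_apply, Over.w]; rfl
    show s ∈ U ↔ η[G].left s ∈ A
    rw [hAU, Set.mem_preimage]
    exact e.symm ▸ Iff.rfl
  rw [hU]
  exact hopen.preimage η[G].left.continuous

/-- A morphism locally of finite type is locally quasi-finite near the points isolated in their fibres. -/
theorem exists_lqf_nhd_iff {X Y : Scheme.{u}} (f : X ⟶ Y) [LocallyOfFiniteType f] (x : X) :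
    (∃ W : X.Opens, x ∈ W ∧ LocallyQuasiFinite (W.ι ≫ f)) ↔
      ∃ O : Set X, IsOpen O ∧ x ∈ O ∧ O ∩ f ⁻¹' {f x} ⊆ {x} := by
  have h1 : (∃ W : X.Opens, x ∈ W ∧ LocallyQuasiFinite (W.ι ≫ f)) ↔ f.QuasiFiniteAt x := by
    refine ⟨fun ⟨W, hx, hW⟩ => ?_, fun h => ⟨f.quasiFiniteLocus, h, inferInstance⟩⟩
    haveI := hW
    exact (Scheme.Hom.quasiFiniteAt_comp_iff_of_isOpenImmersion (f := W.ι) (g := f) (x := (⟨x, hx⟩ : W))).mp
      (Scheme.Hom.quasiFiniteAt (f := W.ι ≫ f) (⟨x, hx⟩ : W))
  rw [h1, Scheme.Hom.quasiFiniteAt_iff_isOpen_singleton_asFiber, ← (f.fiberHomeo (f x)).isOpen_image]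
  simp only [Set.image_singleton, Scheme.Hom.asFiber, Homeomorph.apply_symm_apply]
  rw [isOpen_induced_iff]
  constructor
  · rintro ⟨O, hO, e⟩
    refine ⟨O, hO, ?_, fun a ⟨ha, ha'⟩ => ?_⟩
    · exact (Set.ext_iff.mp e ⟨x, rfl⟩).mpr rfl
    · exact congrArg Subtype.val ((Set.ext_iff.mp e ⟨a, ha'⟩).mp ha)
  · rintro ⟨O, hO, hx, he⟩
    refine ⟨O, hO, Set.ext fun a => ⟨fun ha => Subtype.ext (he ⟨ha, a.2⟩), ?_⟩⟩
    rintro rfl
    exact hx

/-- Local quasi-finiteness at a point is detected on the fibre over a base. -/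
theorem exists_lqf_nhd_iff_fibre {X Y S : Scheme.{u}} (f : X ⟶ Y) (g : Y ⟶ S) (h : X ⟶ S) (e : f ≫ g = h)
    [LocallyOfFiniteType f] (s : S) (z : ↥(pullback h (S.fromSpecResidueField s)))
    (x : X) (hx : pullback.fst h (S.fromSpecResidueField s) z = x) :
    let F := pullback.lift (f := g) (g := S.fromSpecResidueField s)
      (pullback.fst h (S.fromSpecResidueField s) ≫ f) (pullback.snd h (S.fromSpecResidueField s))
      (by rw [Category.assoc, e, pullback.condition])
    (∃ W : X.Opens, x ∈ W ∧ LocallyQuasiFinite (W.ι ≫ f)) ↔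
      ∃ W : (pullback h (S.fromSpecResidueField s)).Opens, z ∈ W ∧ LocallyQuasiFinite (W.ι ≫ F) := by
  subst e
  subst hx
  intro F
  haveI : LocallyOfFiniteType F := by
    have hF : F = MoreMor.fiberMap f g s := rfl
    rw [hF, ← (FlatLocus.isPullback_fiberMap f g s).isoPullback_hom_snd]
    exact MorphismProperty.RespectsIso.precomp _ _ _ (MorphismProperty.pullback_snd _ _ ‹_›)
  rw [exists_lqf_nhd_iff, exists_lqf_nhd_iff]
  let a := (f ≫ g).fiberι s
  let b := g.fiberι s
  have hab : ∀ c, f (a c) = b (F c) := fun c =>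
    congrArg (fun (m : (f ≫ g).fiber s ⟶ Y) => m c) (show a ≫ f = F ≫ b from (pullback.lift_fst _ _ _).symm)
  have hb : Function.Injective b := b.isEmbedding.injective
  constructor
  · rintro ⟨O, hO, hzO, hsub⟩
    refine ⟨a ⁻¹' O, hO.preimage a.continuous, hzO, fun c ⟨hc, hc'⟩ => a.isEmbedding.injective ?_⟩
    refine hsub ⟨hc, ?_⟩
    show f (a c) = f (a z)
    rw [hab, hab, show F c = F z from hc']
  · rintro ⟨O, hO, hzO, hsub⟩
    obtain ⟨O', hO', rfl⟩ := a.isEmbedding.isInducing.isOpen_iff.mp hO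
    refine ⟨O', hO', hzO, fun x' ⟨hx', hx''⟩ => ?_⟩
    have hs : x' ∈ Set.range a := by
      rw [show Set.range a = (f ≫ g) ⁻¹' {s} from (f ≫ g).range_fiberι s]
      show (f ≫ g) x' = s
      rw [Scheme.Hom.comp_apply, show f x' = f (a z) from hx'', ← Scheme.Hom.comp_apply]
      exact (show a z ∈ (f ≫ g) ⁻¹' {s} from (f ≫ g).range_fiberι s ▸ ⟨z, rfl⟩)
    obtain ⟨c, rfl⟩ := hs
    rw [hsub ⟨hx', hb (by rw [← hab, ← hab]; exact hx'')⟩]
    rfl

/-- Unramifiedness at a point is detected on the fibre over a base. -/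
theorem exists_unramified_nhd_iff_fibre {X Y S : Scheme.{u}} (f : X ⟶ Y) (g : Y ⟶ S) (h : X ⟶ S) (e : f ≫ g = h)
    [LocallyOfFiniteType f] (s : S) (z : ↥(pullback h (S.fromSpecResidueField s)))
    (x : X) (hx : pullback.fst h (S.fromSpecResidueField s) z = x) :
    let F := pullback.lift (f := g) (g := S.fromSpecResidueField s)
      (pullback.fst h (S.fromSpecResidueField s) ≫ f) (pullback.snd h (S.fromSpecResidueField s))
      (by rw [Category.assoc, e, pullback.condition])
    (∃ W : X.Opens, x ∈ W ∧ FormallyUnramified (W.ι ≫ f)) ↔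
      ∃ W : (pullback h (S.fromSpecResidueField s)).Opens, z ∈ W ∧ FormallyUnramified (W.ι ≫ F) := by
  subst e
  subst hx
  intro F
  haveI : LocallyOfFiniteType F := by
    have hF : F = MoreMor.fiberMap f g s := rfl
    rw [hF, ← (FlatLocus.isPullback_fiberMap f g s).isoPullback_hom_snd]
    exact MorphismProperty.RespectsIso.precomp _ _ _ (MorphismProperty.pullback_snd _ _ ‹_›)
  rw [FlatLocus.exists_formallyUnramified_nhd_iff, FlatLocus.exists_formallyUnramified_nhd_iff]
  exact FlatLocus.formallyUnramified_stalk_iff_fibre f g s z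

end Groth.Agent.MonoFibre.HomLocus
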