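import Mathlib
import Groth.Agent.FlatLocus.SmoothFibres

/-!
# Homomorphisms of group schemes with monomorphic fibres are monomorphisms
-/

set_option autoImplicit false

universe u

open CategoryTheory CategoryTheory.Limits AlgebraicGeometry MonoidalCategory CartesianMonoidalCategory MonObj

noncomputable section

namespace Groth.Agent.MonoFibre

/-- A morphism locally of finite type whose fibres are monomorphisms is a monomorphism. -/
theorem mono_of_mono_fibres {X Y : Scheme.{u}} (k : X ⟶ Y) [LocallyOfFiniteType k]
    (h : ∀ y : Y, Mono (pullback.snd k (Y.fromSpecResidueField y))) : Mono k := by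
  haveI : FormallyUnramified k := FlatLocus.formallyUnramified_of_fibres k fun y => by
    haveI : Mono (k.fiberToSpecResidueField y) := h y
    infer_instance
  haveI : Surjective (pullback.diagonal k) := ⟨fun z => by
    let y : Y := k (pullback.fst k k z)
    let P := pullback k k
    let iz := P.fromSpecResidueField z
    let r : Spec (P.residueField z) ⟶ Spec (Y.residueField y) :=
      Spec.map ((pullback.fst k k ≫ k).residueFieldMap z)
    have hr : r ≫ Y.fromSpecResidueField y = iz ≫ pullback.fst k k ≫ k := by
      show Spec.map ((pullback.fst k k ≫ k).residueFieldMap z) ≫ Y.fromSpecResidueField ((pullback.fst k k ≫ k) z) = _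
      exact Scheme.Hom.SpecMap_residueFieldMap_fromSpecResidueField _ _
    let a : Spec (P.residueField z) ⟶ pullback k (Y.fromSpecResidueField y) :=
      pullback.lift (iz ≫ pullback.fst k k) r (by rw [hr, Category.assoc])
    let b : Spec (P.residueField z) ⟶ pullback k (Y.fromSpecResidueField y) :=
      pullback.lift (iz ≫ pullback.snd k k) r (by rw [hr, Category.assoc, pullback.condition])
    haveI := h y
    have hab : a = b := (cancel_mono (pullback.snd k (Y.fromSpecResidueField y))).1
      ((pullback.lift_snd _ _ _).trans (pullback.lift_snd _ _ _).symm)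
    have h12 : iz ≫ pullback.fst k k = iz ≫ pullback.snd k k := by
      have := congrArg (fun q => q ≫ pullback.fst k (Y.fromSpecResidueField y)) hab
      rwa [pullback.lift_fst, pullback.lift_fst] at this
    have hfac : (iz ≫ pullback.fst k k) ≫ pullback.diagonal k = iz := by
      apply pullback.hom_ext
      · rw [Category.assoc, pullback.diagonal_fst, Category.comp_id]
      · rw [Category.assoc, pullback.diagonal_snd, Category.comp_id, h12]
    let pt : ↥(Spec (P.residueField z)) := IsLocalRing.closedPoint (P.residueField z)
    refine ⟨(iz ≫ pullback.fst k k) pt, ?_⟩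
    rw [← Scheme.Hom.comp_apply, hfac]
    exact Scheme.fromSpecResidueField_apply z pt⟩
  haveI : IsIso (pullback.diagonal k) := (isIso_iff_isOpenImmersion_and_epi_base _).2
    ⟨inferInstance, (TopCat.epi_iff_surjective _).2 (pullback.diagonal k).surjective⟩
  exact (pullback.isIso_diagonal_iff k).1 inferInstance

variable {S : Scheme.{u}}

/-- A homomorphism from an `S`-group locally of finite type all of whose fibres are monomorphisms. -/
theorem mono_of_hom_mono_fibres (H G : Over S) [GrpObj H] [GrpObj G] [LocallyOfFiniteType H.hom] (u : H ⟶ G)
    [IsMonHom u] (hfib : ∀ s : S, Mono ((Over.pullback (S.fromSpecResidueField s)).map u).left) : Mono u.left := by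
  let i := pullback.fst u.left η[G].left
  let k : pullback u.left η[G].left ⟶ S := pullback.snd u.left η[G].left
  haveI : IsImmersion η[G].left := by
    haveI : IsImmersion (η[G].left ≫ G.hom) := by
      rw [Over.w]
      exact inferInstanceAs (IsImmersion (𝟙 S))
    exact IsImmersion.of_comp _ G.hom
  have hk : i ≫ H.hom = k := by
    show pullback.fst u.left η[G].left ≫ H.hom = _
    rw [← Over.w u, ← Category.assoc, pullback.condition, Category.assoc, Over.w]
    exact Category.comp_id _
  haveI : LocallyOfFiniteType k := hk ▸ inferInstanceAs (LocallyOfFiniteType (pullback.fst _ _ ≫ H.hom))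
  haveI : Mono k := mono_of_mono_fibres k fun s => ⟨fun {T} a b e => by
    haveI := hfib s
    let p := pullback.fst k (S.fromSpecResidueField s)
    let lft : ∀ c : T ⟶ pullback k (S.fromSpecResidueField s),
        ∃ d : T ⟶ pullback H.hom (S.fromSpecResidueField s), d ≫ pullback.fst _ _ = c ≫ p ≫ i ∧
          d ≫ pullback.snd _ _ = c ≫ pullback.snd _ _ ∧
          d ≫ ((Over.pullback (S.fromSpecResidueField s)).map u).left =
            pullback.lift (c ≫ p ≫ k ≫ η[G].left) (c ≫ pullback.snd _ _) (by
              simp only [Category.assoc, Over.w]
              erw [Category.comp_id]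
              rw [pullback.condition]) := fun c => by
      refine ⟨pullback.lift (c ≫ p ≫ i) (c ≫ pullback.snd _ _) (by
        simp only [Category.assoc, hk]; rw [pullback.condition]), pullback.lift_fst _ _ _, pullback.lift_snd _ _ _, ?_⟩
      apply pullback.hom_ext
      · simp only [Category.assoc]
        erw [pullback.lift_fst, pullback.lift_fst, pullback.lift_fst_assoc]
        simp only [Category.assoc, i, k, pullback.condition]
      · simp only [Category.assoc]
        erw [pullback.lift_snd, pullback.lift_snd, pullback.lift_snd]
    obtain ⟨da, ha1, ha2, ha3⟩ := lft a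
    obtain ⟨db, hb1, hb2, hb3⟩ := lft b
    have hk' : ∀ c : T ⟶ pullback k (S.fromSpecResidueField s), c ≫ p ≫ k = c ≫ pullback.snd _ _ ≫ S.fromSpecResidueField s :=
      fun c => by rw [pullback.condition]
    have hd : da = db := (cancel_mono ((Over.pullback (S.fromSpecResidueField s)).map u).left).1 (ha3.trans (by
      rw [hb3]
      congr 1
      · have := congrArg (fun q => (q ≫ S.fromSpecResidueField s) ≫ η[G].left) e
        simp only [Category.assoc] at this
        rw [← pullback.condition_assoc] at this
        exact this
      ))
    apply pullback.hom_ext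
    · apply pullback.hom_ext
      · simpa [ha1, hb1, p, i] using congrArg (fun q => q ≫ pullback.fst H.hom (S.fromSpecResidueField s)) hd
      · show (a ≫ p) ≫ k = (b ≫ p) ≫ k
        rw [Category.assoc, Category.assoc, hk', hk', ← Category.assoc, e, Category.assoc]
    · exact e⟩
  haveI : Mono u := ⟨fun {T} a b e => by
    have h1 : (a / b) ≫ u = 1 := by rw [GrpObj.div_comp, e, div_self']
    let z := a / b
    let q : T.left ⟶ pullback u.left η[G].left := pullback.lift z.left T.hom (by
      rw [← Over.comp_left, h1]
      rfl)
    let q' : T.left ⟶ pullback u.left η[G].left := pullback.lift (1 : T ⟶ H).left T.hom (by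
      rw [← Over.comp_left, MonObj.one_comp]
      rfl)
    have hq : q = q' := (cancel_mono k).1 ((pullback.lift_snd _ _ _).trans (pullback.lift_snd _ _ _).symm)
    have hz : z = 1 := Over.OverMorphism.ext (by
      have := congrArg (fun t => t ≫ i) hq
      rwa [pullback.lift_fst, pullback.lift_fst] at this)
    exact div_eq_one.mp hz⟩
  infer_instance

end Groth.Agent.MonoFibre
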