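import Groth.Agent.MonoFibre.HomogGen

/-!
# Irreducible components of homogeneous schemes over a field, without finiteness
-/

set_option autoImplicit false

universe u

open CategoryTheory MonoidalCategory CartesianMonoidalCategory MonObj GrpObj AlgebraicGeometry Limits

noncomputable section

namespace Groth.Agent.MonoFibre

open GrpSchLib

variable {k : Type u} [Field k] {G X : Over (Spec (CommRingCat.of k))} [GrpObj G]

theorem inv_mem_idComp {T : Over (Spec (CommRingCat.of k))} (v : T ⟶ G) (t : T.left) (h : v.left t ∈ idComp G) :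
    v⁻¹.left t ∈ idComp G := by
  rw [← comp_invM, Over.comp_left, Scheme.Hom.comp_apply]
  exact subset_irreducibleComponent (isIrreducible_irreducibleComponent.image _
    (invM G).left.continuous.continuousOn) ⟨_, mem_irreducibleComponent, invM_unitPt⟩ ⟨_, h, rfl⟩

theorem mul_mem_idComp {T : Over (Spec (CommRingCat.of k))} (v w : T ⟶ G) (t : T.left)
    (hv : v.left t ∈ idComp G) (hw : w.left t ∈ idComp G) : (v * w).left t ∈ idComp G := by
  let i := idIncl G
  let m : idObj G ⊗ idObj G ⟶ G := (fst _ _ ≫ i) * (snd _ _ ≫ i)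
  haveI : IrreducibleSpace ↥(idObj G ⊗ idObj G).left := irreducibleSpace_idObj_tensor (idObj G)
  have hirr : IsIrreducible (Set.range m.left) := by
    rw [← Set.image_univ]
    exact (IrreducibleSpace.isIrreducible_univ _).image _ m.left.continuous.continuousOn
  have hone : unitPt G ∈ Set.range m.left := by
    obtain ⟨T', a, b, t', -, he⟩ := exists_lift (1 : ptObj (unitPt G) ⟶ G) i (Classical.arbitrary _)
      (by rw [one_apply, range_idIncl]; exact mem_irreducibleComponent)
    refine ⟨(lift b b).left t', ?_⟩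
    rw [← Scheme.Hom.comp_apply, ← Over.comp_left, MonObj.comp_mul, lift_fst_assoc, lift_snd_assoc, ← he,
      MonObj.comp_one, _root_.one_mul, one_apply]
  refine subset_irreducibleComponent hirr hone ?_
  obtain ⟨T₁, a₁, b₁, t₁, ht₁, he₁⟩ := exists_lift v i t (by rw [range_idIncl]; exact hv)
  obtain ⟨T₂, a₂, b₂, t₂, ht₂, he₂⟩ := exists_lift (a₁ ≫ w) i t₁ (by
    rw [range_idIncl, Over.comp_left, Scheme.Hom.comp_apply, ht₁]; exact hw)
  refine ⟨(lift (a₂ ≫ b₁) b₂).left t₂, ?_⟩
  have h : lift (a₂ ≫ b₁) b₂ ≫ m = a₂ ≫ a₁ ≫ (v * w) := by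
    simp only [m, MonObj.comp_mul, lift_fst_assoc, lift_snd_assoc, Category.assoc, ← he₁, ← he₂]
  rw [← Scheme.Hom.comp_apply, ← Over.comp_left, h, Over.comp_left, Scheme.Hom.comp_apply, ht₂,
    Over.comp_left, Scheme.Hom.comp_apply, ht₁]

theorem idComp_generic_specializes {θ₀ g : G.left} (hθ₀ : θ₀ ⤳ unitPt G) (hmax : IsMaxPt θ₀) (hg : g ∈ idComp G) :
    θ₀ ⤳ g := by
  obtain ⟨θ, hθ⟩ := QuasiSober.sober (isIrreducible_irreducibleComponent (x := unitPt G)) isClosed_irreducibleComponent
  rw [maxPt_unique_grp hmax (isMaxPt_generic (irreducibleComponent_mem_irreducibleComponents _) hθ) hθ₀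
    (hθ.specializes mem_irreducibleComponent)]
  exact hθ.specializes hg

variable (a : AlgGrp.Action G X)

theorem orbit_unit (x : 𝟙_ (Over (Spec (CommRingCat.of k))) ⟶ X) :
    (a.orbitMap x).left (unitPt G) = x.left (IsLocalRing.closedPoint k) := by
  have h : η[G] ≫ a.orbitMap x = x := by
    rw [orbitMap_apply, ← toUnit_unique (𝟙 _) (toUnit _), Category.id_comp,
      show η[G] = (1 : 𝟙_ (Over (Spec (CommRingCat.of k))) ⟶ G) by
        rw [Hom.one_def, toUnit_unique (toUnit _) (𝟙 _), Category.id_comp], act_one]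
  have h' : (a.orbitMap x).left (η[G].left (IsLocalRing.closedPoint k)) = x.left (IsLocalRing.closedPoint k) :=
    (Scheme.Hom.comp_apply _ _ _).symm.trans (congrArg (fun m : 𝟙_ _ ⟶ X => m.left (IsLocalRing.closedPoint k)) h)
  exact h'

/-- The maximal point of the identity component gives the maximal point above a rational point. -/
theorem orbit_theta_eq [PerfectField k] (hΦ : Surjective (lift a.act (snd G X)).left)
    (x : 𝟙_ (Over (Spec (CommRingCat.of k))) ⟶ X) {θ₀ : G.left} (hθ₀ : θ₀ ⤳ unitPt G) (hmax : IsMaxPt θ₀)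
    {ξ : X.left} (hξ : IsMaxPt ξ) (hx : ξ ⤳ x.left (IsLocalRing.closedPoint k)) : (a.orbitMap x).left θ₀ = ξ := by
  obtain ⟨θ, hθ, rfl⟩ := generalizingMap_orbitMap_perfect a hΦ x (orbit_unit a x ▸ hx)
  obtain ⟨θ', hθ', hθ'max⟩ := exists_isMaxPt θ
  rw [maxPt_unique_grp hmax hθ'max hθ₀ (hθ'.trans hθ)]
  exact hξ _ (hθ'.map (a.orbitMap x).left.continuous)

theorem flat_specMap {K : Type u} [Field K] (j : Spec (CommRingCat.of K) ⟶ Spec (CommRingCat.of k)) : Flat j :=
  flat_to_field (Field.toIsField k) j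

theorem flat_fst_field {K : Type u} [Field K] (j : Spec (CommRingCat.of K) ⟶ Spec (CommRingCat.of k))
    (A : Over (Spec (CommRingCat.of k))) : Flat (pullback.fst A.hom j) :=
  MorphismProperty.of_isPullback (P := @Flat) (IsPullback.of_hasPullback A.hom j).flip (flat_specMap j)

theorem fst_unitPt {K : Type u} [Field K] (j : Spec (CommRingCat.of K) ⟶ Spec (CommRingCat.of k)) :
    pullback.fst G.hom j (unitPt (Red.bc j G)) = unitPt G :=
  (congrArg (fun t : (Over.map j).obj (𝟙_ (Over (Spec (CommRingCat.of K)))) ⟶ G =>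
    t.left (IsLocalRing.closedPoint K)) (one_counit (G := G) j)).trans (one_apply _ _)

/-- An algebraically closed field with a point above a given point. -/
structure PtExt {T : Scheme.{u}} (t : T ⟶ Spec (CommRingCat.of k)) (p : T) where
  K : Type u
  [field : Field K]
  [alg : IsAlgClosed K]
  ι₀ : Spec (CommRingCat.of K) ⟶ T
  apply_eq : ∀ w, ι₀ w = p

attribute [instance] PtExt.field PtExt.alg

def ptExt {T : Scheme.{u}} (t : T ⟶ Spec (CommRingCat.of k)) (p : T) : PtExt t p where
  K := AlgebraicClosure (T.residueField p)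
  ι₀ := Spec.map (CommRingCat.ofHom (algebraMap (T.residueField p) (AlgebraicClosure (T.residueField p)))) ≫
    T.fromSpecResidueField p
  apply_eq w := by rw [Scheme.Hom.comp_apply]; exact Scheme.fromSpecResidueField_apply p _

include a in
/-- In a homogeneous scheme a point has only one maximal generalisation. -/
theorem maxPt_unique' (hΦ : Surjective (lift a.act (snd G X)).left) {ξ ξ' x : X.left} (hξ : IsMaxPt ξ)
    (hξ' : IsMaxPt ξ') (h : ξ ⤳ x) (h' : ξ' ⤳ x) : ξ = ξ' := by
  let E := ptExt X.hom x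
  let j : Spec (CommRingCat.of E.K) ⟶ Spec (CommRingCat.of k) := E.ι₀ ≫ X.hom
  let xK := ratLift (A := X) j E.ι₀ rfl
  let q := pullback.fst X.hom j
  let pt : ↥(𝟙_ (Over (Spec (CommRingCat.of E.K)))).left := IsLocalRing.closedPoint E.K
  haveI : Flat q := flat_fst_field j X
  have hqx : q (xK.left pt) = x := by
    rw [← Scheme.Hom.comp_apply, ratLift_fst]; exact E.apply_eq _
  obtain ⟨θ₀, hθ₀, hmax⟩ := exists_isMaxPt (unitPt (Red.bc j G))
  have key : ∀ c, IsMaxPt c → c ⤳ x → c = q (((bcAction j a).orbitMap xK).left θ₀) := fun c hc hcx => by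
    obtain ⟨d, hd, rfl⟩ := Flat.generalizingMap q (hqx.symm ▸ hcx : c ⤳ q (xK.left pt))
    obtain ⟨d', hd', hd'max⟩ := exists_isMaxPt d
    rw [orbit_theta_eq (bcAction j a) (bcAction_surjective j a hΦ) xK hθ₀ hmax hd'max (hd'.trans hd)]
    exact (hc _ (hd'.map q.continuous)).symm
  exact (key ξ hξ h).trans (key ξ' hξ' h').symm

/-- The identity component keeps the maximal points. -/
theorem maxPt_specializes_act (hΦ : Surjective (lift a.act (snd G X)).left) (p : (G ⊗ X).left)
    (hp : (fst G X).left p ∈ idComp G) {ξ : X.left} (hξ : IsMaxPt ξ) (h : ξ ⤳ (snd G X).left p) :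
    ξ ⤳ a.act.left p := by
  let E := ptExt (G ⊗ X).hom p
  let j : Spec (CommRingCat.of E.K) ⟶ Spec (CommRingCat.of k) := E.ι₀ ≫ (G ⊗ X).hom
  let pt : ↥(𝟙_ (Over (Spec (CommRingCat.of E.K)))).left := IsLocalRing.closedPoint E.K
  let gK := ratLift (A := G) j (E.ι₀ ≫ (fst G X).left) (by rw [Category.assoc, Over.w])
  let xK := ratLift (A := X) j (E.ι₀ ≫ (snd G X).left) (by rw [Category.assoc, Over.w])
  let A := bcAction j a
  let q := pullback.fst X.hom j
  haveI : Flat q := flat_fst_field j X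
  have hqx : q (xK.left pt) = (snd G X).left p := by
    rw [← Scheme.Hom.comp_apply, ratLift_fst, Scheme.Hom.comp_apply, E.apply_eq]
  obtain ⟨θ₀, hθ₀, hmax⟩ := exists_isMaxPt (unitPt (Red.bc j G))
  obtain ⟨d, hd, rfl⟩ := Flat.generalizingMap q (hqx.symm ▸ h : ξ ⤳ q (xK.left pt))
  obtain ⟨d', hd', hd'max⟩ := exists_isMaxPt d
  have hd'e := orbit_theta_eq A (bcAction_surjective j a hΦ) xK hθ₀ hmax hd'max (hd'.trans hd)
  have hgK : gK.left pt ∈ idComp (Red.bc j G) := mem_idComp_bc j (by
    rw [← Scheme.Hom.comp_apply, ratLift_fst, Scheme.Hom.comp_apply, E.apply_eq]; exact hp)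
  have h2 := ((idComp_generic_specializes hθ₀ hmax hgK).map (A.orbitMap xK).left.continuous).map q.continuous
  rw [hd'e, hξ _ (hd'.map q.continuous)] at h2
  have he : (gK ≫ A.orbitMap xK).left ≫ q = E.ι₀ ≫ a.act.left := by
    rw [orbitMap_apply, toUnit_unique (toUnit _) (𝟙 _), Category.id_comp]
    refine (left_comp_fst j (A := X) _).trans ?_
    rw [bcAction_counit]
    let e : (Over.map j).obj (𝟙_ (Over (Spec (CommRingCat.of E.K)))) ⟶ G ⊗ X :=
      Over.homMk E.ι₀ (Category.id_comp j).symm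
    show _ = (e ≫ a.act).left
    congr 2
    apply CartesianMonoidalCategory.hom_ext
    · rw [lift_fst]; exact Over.OverMorphism.ext ((left_comp_fst j gK).symm.trans (ratLift_fst j _ _))
    · rw [lift_snd]; exact Over.OverMorphism.ext ((left_comp_fst j xK).symm.trans (ratLift_fst j _ _))
  have h3 : q ((A.orbitMap xK).left (gK.left pt)) = a.act.left p := by
    rw [← Scheme.Hom.comp_apply, ← Scheme.Hom.comp_apply, ← Over.comp_left_assoc, he, Scheme.Hom.comp_apply, E.apply_eq]
  rwa [h3] at h2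

/-- Every point is a translate, by the identity component, of the maximal point above it. -/
theorem exists_act_eq (hΦ : Surjective (lift a.act (snd G X)).left) {y ξ : X.left} (hξ : IsMaxPt ξ) (h : ξ ⤳ y) :
    ∃ p : (G ⊗ X).left, (fst G X).left p ∈ idComp G ∧ (snd G X).left p = ξ ∧ a.act.left p = y := by
  let E := ptExt X.hom y
  let j : Spec (CommRingCat.of E.K) ⟶ Spec (CommRingCat.of k) := E.ι₀ ≫ X.hom
  let gK : (Over.map j).obj (Red.bc j G) ⟶ G := (Over.mapPullbackAdj j).counit.app G
  let str : (Over.map j).obj (Red.bc j G) ⟶ Over.mk j := Over.homMk (Red.bc j G).hom rfl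
  let zX : Over.mk j ⟶ X := Over.homMk E.ι₀ rfl
  let pr : (Over.map j).obj (Red.bc j G) ⟶ G ⊗ X := lift gK (str ≫ zX)
  let xK := ratLift (A := X) j E.ι₀ rfl
  have hxK : (Over.map j).map (toUnit (Red.bc j G) ≫ xK) ≫ (Over.mapPullbackAdj j).counit.app X = str ≫ zX :=
    Over.OverMorphism.ext (by
      show ((Red.bc j G).hom ≫ xK.left) ≫ pullback.fst X.hom j = (Red.bc j G).hom ≫ E.ι₀
      rw [Category.assoc, ratLift_fst])
  let q := pullback.fst X.hom j
  let pt : ↥(𝟙_ (Over (Spec (CommRingCat.of E.K)))).left := IsLocalRing.closedPoint E.K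
  haveI : Flat q := flat_fst_field j X
  have hqx : q (xK.left pt) = y := by
    rw [← Scheme.Hom.comp_apply, ratLift_fst]; exact E.apply_eq _
  obtain ⟨θ₀, hθ₀, hmax⟩ := exists_isMaxPt (unitPt (Red.bc j G))
  obtain ⟨d, hd, hdq⟩ := Flat.generalizingMap q (hqx.symm ▸ h : ξ ⤳ q (xK.left pt))
  obtain ⟨d', hd', hd'max⟩ := exists_isMaxPt d
  have hd'e := orbit_theta_eq (bcAction j a) (bcAction_surjective j a hΦ) xK hθ₀ hmax hd'max (hd'.trans hd)
  have hθI : gK.left θ₀ ∈ idComp G := mem_idComp_of_mem (y := unitPt G) mem_irreducibleComponent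
    (.inr ((hθ₀.map (pullback.fst G.hom j).continuous).trans (specializes_of_eq (fst_unitPt (G := G) j))))
  refine ⟨(lift gK⁻¹ (lift gK (str ≫ zX) ≫ a.act)).left θ₀, ?_, ?_, ?_⟩
  · rw [← Scheme.Hom.comp_apply, ← Over.comp_left, lift_fst]
    exact inv_mem_idComp _ _ hθI
  · rw [← Scheme.Hom.comp_apply, ← Over.comp_left, lift_snd, ← map_orbitMap_counit a j _ _ hxK]
    exact (congrArg q hd'e).trans (hξ _ (hdq ▸ hd'.map q.continuous))
  · rw [← Scheme.Hom.comp_apply, ← Over.comp_left, ← act_mul, inv_mul_cancel, act_one]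
    exact E.apply_eq _

/-- The saturation of an open set by the identity component. -/
def satSet (U : Set X.left) : Set X.left :=
  a.act.left '' {p | (fst G X).left p ∈ idComp G ∧ (snd G X).left p ∈ U}

theorem mem_satSet_iff (hΦ : Surjective (lift a.act (snd G X)).left) {U : Set X.left} (hU : IsOpen U) (y : X.left) :
    y ∈ satSet a U ↔ ∃ ξ ∈ U, IsMaxPt ξ ∧ ξ ⤳ y := by
  constructor
  · rintro ⟨p, ⟨hp, hpU⟩, rfl⟩
    obtain ⟨ξ, hξu, hξ⟩ := exists_isMaxPt ((snd G X).left p)
    exact ⟨ξ, hξu.mem_open hU hpU, hξ, maxPt_specializes_act a hΦ p hp hξ hξu⟩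
  · rintro ⟨ξ, hξU, hξ, h⟩
    obtain ⟨p, hp, hps, hpa⟩ := exists_act_eq a hΦ hξ h
    exact ⟨p, ⟨hp, hps ▸ hξU⟩, hpa⟩

theorem isOpen_satSet (U : X.left.Opens) : IsOpen (satSet a (U : Set X.left)) := by
  refine isOpen_iff_forall_mem_open.mpr ?_
  rintro y ⟨p, ⟨hp, hpU⟩, rfl⟩
  let E := ptExt (G ⊗ X).hom p
  let j : Spec (CommRingCat.of E.K) ⟶ Spec (CommRingCat.of k) := E.ι₀ ≫ (G ⊗ X).hom
  let pt : ↥(𝟙_ (Over (Spec (CommRingCat.of E.K)))).left := IsLocalRing.closedPoint E.K
  let gK := ratLift (A := G) j (E.ι₀ ≫ (fst G X).left) (by rw [Category.assoc, Over.w])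
  let xK := ratLift (A := X) j (E.ι₀ ≫ (snd G X).left) (by rw [Category.assoc, Over.w])
  let q := pullback.fst X.hom j
  haveI : UniversallyOpen q :=
    MorphismProperty.of_isPullback (P := @UniversallyOpen) (IsPullback.of_hasPullback X.hom j).flip inferInstance
  let τ := translX (bcAction j a) gK
  let c := (Over.mapPullbackAdj j).counit.app X
  let m : (Over.map j).obj (Red.bc j X) ⟶ G ⊗ X :=
    lift ((Over.map j).map (toUnit (Red.bc j X) ≫ gK) ≫ (Over.mapPullbackAdj j).counit.app G) c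
  have hτ : τ.left ≫ q = (m ≫ a.act).left := by
    refine (left_comp_fst j (A := X) _).trans ?_
    rw [show τ = lift (toUnit (Red.bc j X) ≫ gK) (𝟙 _) ≫ (bcAction j a).act from rfl, bcAction_counit,
      CategoryTheory.Functor.map_id, Category.id_comp]
  have hfst : ∀ w, (fst G X).left (m.left w) = (fst G X).left p := fun w => by
    rw [← Scheme.Hom.comp_apply, ← Over.comp_left, lift_fst]
    show (((Red.bc j X).hom ≫ gK.left) ≫ pullback.fst G.hom j) w = _
    rw [Category.assoc, ratLift_fst, Scheme.Hom.comp_apply, Scheme.Hom.comp_apply, E.apply_eq]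
  refine ⟨q '' (τ.left '' (q ⁻¹' (U : Set X.left))), ?_, ?_, ?_⟩
  · rintro _ ⟨_, ⟨w, hw, rfl⟩, rfl⟩
    refine ⟨m.left w, ⟨hfst w ▸ hp, ?_⟩, ?_⟩
    · rw [← Scheme.Hom.comp_apply, ← Over.comp_left, lift_snd]; exact hw
    · rw [← Scheme.Hom.comp_apply, ← Over.comp_left, ← hτ, Scheme.Hom.comp_apply]
  · exact q.isOpenMap _ ((translXHomeo (bcAction j a) gK).isOpenMap _ (U.2.preimage q.continuous))
  · refine ⟨τ.left (xK.left pt), ⟨xK.left pt, ?_, rfl⟩, ?_⟩
    · show q (xK.left pt) ∈ U
      rw [← Scheme.Hom.comp_apply, ratLift_fst, Scheme.Hom.comp_apply, E.apply_eq]; exact hpU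
    · rw [← Scheme.Hom.comp_apply, ← Scheme.Hom.comp_apply, hτ]
      let e : (Over.map j).obj (𝟙_ (Over (Spec (CommRingCat.of E.K)))) ⟶ G ⊗ X :=
        Over.homMk E.ι₀ (Category.id_comp j).symm
      have h1 : (Over.map j).map xK ≫ m = e := by
        apply CartesianMonoidalCategory.hom_ext
        · rw [Category.assoc, lift_fst, ← Category.assoc, ← Functor.map_comp, comp_toUnit_assoc,
            toUnit_unique (toUnit _) (𝟙 _), Category.id_comp]
          exact Over.OverMorphism.ext ((left_comp_fst j gK).symm.trans (ratLift_fst j _ _))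
        · rw [Category.assoc, lift_snd]
          exact Over.OverMorphism.ext ((left_comp_fst j xK).symm.trans (ratLift_fst j _ _))
      have h2 := congrArg (fun t : (Over.map j).obj (𝟙_ (Over (Spec (CommRingCat.of E.K)))) ⟶ G ⊗ X =>
        (t ≫ a.act).left pt) h1
      refine h2.trans ?_
      show (E.ι₀ ≫ a.act.left) pt = _
      rw [Scheme.Hom.comp_apply, E.apply_eq]

theorem isMaxPt_iff_component {ξ : X.left} : IsMaxPt ξ ↔ closure {ξ} ∈ irreducibleComponents X.left := by
  refine ⟨fun h => ?_, fun h => isMaxPt_generic h rfl⟩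
  obtain ⟨θ, hθ⟩ := QuasiSober.sober (isIrreducible_irreducibleComponent (x := ξ)) isClosed_irreducibleComponent
  rw [← h θ (hθ.specializes mem_irreducibleComponent), hθ.def]
  exact irreducibleComponent_mem_irreducibleComponents ξ

theorem exists_eq_closure {C : Set X.left} (hC : C ∈ irreducibleComponents X.left) :
    ∃ ξ, IsMaxPt ξ ∧ closure {ξ} = C := by
  obtain ⟨ξ, hξ⟩ := QuasiSober.sober hC.1 (isClosed_of_mem_irreducibleComponents C hC)
  exact ⟨ξ, isMaxPt_generic hC hξ, hξ.def⟩

include a in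
theorem existsUnique_component (hΦ : Surjective (lift a.act (snd G X)).left) (z : X.left) :
    ∃! C, C ∈ irreducibleComponents X.left ∧ z ∈ C := by
  refine ⟨irreducibleComponent z, ⟨irreducibleComponent_mem_irreducibleComponents z, mem_irreducibleComponent⟩, ?_⟩
  rintro C ⟨hC, hzC⟩
  obtain ⟨ξ, hξ, rfl⟩ := exists_eq_closure hC
  obtain ⟨ξ', hξ', hC'⟩ := exists_eq_closure (irreducibleComponent_mem_irreducibleComponents z)
  rw [maxPt_unique' a hΦ hξ hξ' (specializes_iff_mem_closure.2 hzC)
    (specializes_iff_mem_closure.2 (hC'.symm ▸ mem_irreducibleComponent)), hC']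

/-- The component of a rational point stays irreducible after extending the field. -/
theorem isIrreducible_preimage_component (hΦ : Surjective (lift a.act (snd G X)).left)
    (x : 𝟙_ (Over (Spec (CommRingCat.of k))) ⟶ X) (pt : ↥(𝟙_ (Over (Spec (CommRingCat.of k)))).left)
    {ξ : X.left} (hξ : IsMaxPt ξ) (hx : ξ ⤳ x.left pt)
    {K : Type u} [Field K] (j : Spec (CommRingCat.of K) ⟶ Spec (CommRingCat.of k)) :
    IsIrreducible (pullback.fst X.hom j ⁻¹' closure {ξ}) := by
  let q := pullback.fst X.hom j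
  haveI : Flat q := flat_fst_field j X
  obtain ⟨p, hp, hps, hpa⟩ := exists_act_eq a hΦ hξ hx
  haveI hone : Subsingleton ↥(pullback (𝟙_ (Over (Spec (CommRingCat.of k)))).hom j) := by
    haveI : IsIso (pullback.snd (𝟙_ (Over (Spec (CommRingCat.of k)))).hom j) :=
      pullback_snd_iso_of_left_iso (𝟙 _) j
    haveI : Subsingleton ↥(Spec (CommRingCat.of K)) := inferInstanceAs (Subsingleton (PrimeSpectrum K))
    exact (pullback.snd (𝟙_ (Over (Spec (CommRingCat.of k)))).hom j).homeomorph.subsingleton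
  have huniq : ∀ z z', q z = x.left pt → q z' = x.left pt → z = z' := fun z z' hz hz' => by
    have h : ∀ w, q w = x.left pt → ∃ v, pullback.map (𝟙_ (Over (Spec (CommRingCat.of k)))).hom j X.hom j x.left (𝟙 _) (𝟙 _)
        (by rw [Category.comp_id]; exact (Over.w x).symm) (by simp) v = w := fun w hw => by
      show w ∈ Set.range _
      rw [Scheme.Pullback.range_map]
      exact ⟨⟨pt, hw.symm⟩, ⟨_, rfl⟩⟩
    obtain ⟨v, rfl⟩ := h z hz
    obtain ⟨v', rfl⟩ := h z' hz'
    rw [Subsingleton.elim v v']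
  -- every maximal point above the preimage specialises to the point above `x`
  have key : ∀ ξ', IsMaxPt ξ' → q ξ' = ξ → ∀ z, q z = x.left pt → ξ' ⤳ z := by
    intro ξ' hξ' hq z hz
    let F := Over.pullback j
    let A := bcAction j a
    let sF := pullback.map (G ⊗ X).hom j X.hom j (snd G X).left (𝟙 _) (𝟙 _)
      (by rw [Category.comp_id, Over.w]) (by simp)
    have hsF : (F.map (snd G X)).left = sF := by
      apply pullback.hom_ext <;> simp [F, sF, pullback.map]
    obtain ⟨r, hr1, hr2⟩ : ∃ r, pullback.fst (G ⊗ X).hom j r = p ∧ (F.map (snd G X)).left r = ξ' := by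
      have sq : IsPullback (pullback.fst (G ⊗ X).hom j) (F.map (snd G X)).left (snd G X).left q := by
        refine IsPullback.flip ?_
        refine IsPullback.of_right (h₁₂ := pullback.snd X.hom j) (v₁₃ := j) (h₂₂ := X.hom) ?_ ?_
          (IsPullback.of_hasPullback X.hom j).flip
        · rw [Over.w, show (F.map (snd G X)).left ≫ pullback.snd X.hom j = pullback.snd (G ⊗ X).hom j from
            Over.w (F.map (snd G X))]
          exact (IsPullback.of_hasPullback (G ⊗ X).hom j).flip
        · simp [F]; exact pullback.lift_fst _ _ _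
      obtain ⟨r, h1, h2⟩ := Scheme.Pullback.exists_preimage_pullback (f := (snd G X).left) (g := q) p ξ' (hps.trans hq.symm)
      exact ⟨sq.isoPullback.inv r, by rw [← Scheme.Hom.comp_apply, IsPullback.isoPullback_inv_fst]; exact h1,
        by rw [← Scheme.Hom.comp_apply, IsPullback.isoPullback_inv_snd]; exact h2⟩
    let p' := (Functor.OplaxMonoidal.δ F G X).left r
    have h1 : (snd (Red.bc j G) (Red.bc j X)).left p' = ξ' := by
      rw [← Scheme.Hom.comp_apply, ← Over.comp_left, Functor.OplaxMonoidal.δ_snd]; exact hr2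
    have h2 : (fst (Red.bc j G) (Red.bc j X)).left p' ∈ idComp (Red.bc j G) := mem_idComp_bc j (by
      rw [← Scheme.Hom.comp_apply, ← Scheme.Hom.comp_apply, ← Over.comp_left_assoc, Functor.OplaxMonoidal.δ_fst]
      erw [pullback.lift_fst]
      rw [Scheme.Hom.comp_apply, hr1]; exact hp)
    have h3 : A.act.left p' = z := by
      refine huniq _ _ ?_ hz
      rw [← Scheme.Hom.comp_apply, ← Scheme.Hom.comp_apply, ← Over.comp_left_assoc]
      rw [show Functor.OplaxMonoidal.δ F G X ≫ A.act = F.map a.act by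
        show Functor.OplaxMonoidal.δ F G X ≫ Functor.LaxMonoidal.μ F G X ≫ F.map a.act = _
        rw [← Category.assoc, Functor.Monoidal.δ_μ, Category.id_comp]]
      erw [pullback.lift_fst]
      rw [Scheme.Hom.comp_apply, hr1]; exact hpa
    exact h3 ▸ maxPt_specializes_act A (bcAction_surjective j a hΦ) p' h2 hξ' (specializes_of_eq h1.symm)
  obtain ⟨z, hz, -⟩ := Scheme.Pullback.exists_preimage_pullback (f := X.hom) (g := j) (x.left pt)
    (IsLocalRing.closedPoint K) (Subsingleton.elim (α := PrimeSpectrum k) _ _)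
  have hsrc : ∀ w, q w ∈ closure {ξ} → ∀ ξw, IsMaxPt ξw → ξw ⤳ w → q ξw = ξ := fun w hw ξw hξw hs =>
    maxPt_unique' a hΦ (isMaxPt_of_flat q hξw) hξ (hs.map q.continuous) (specializes_iff_mem_closure.2 hw)
  obtain ⟨ζ, hζz, hζ⟩ := exists_isMaxPt z
  have hzmem : q z ∈ closure {ξ} := hz ▸ hx.mem_closure
  have hqζ := hsrc z hzmem ζ hζ hζz
  suffices h : pullback.fst X.hom j ⁻¹' closure {ξ} = closure {ζ} by rw [h]; exact isIrreducible_singleton.closure
  refine Set.Subset.antisymm (fun w hw => ?_) ?_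
  · obtain ⟨ξw, hs, hξw⟩ := exists_isMaxPt w
    rw [maxPt_unique' (bcAction j a) (bcAction_surjective j a hΦ) hζ hξw hζz (key ξw hξw (hsrc w hw ξw hξw hs) z hz)]
    exact hs.mem_closure
  · exact closure_minimal (Set.singleton_subset_iff.2 (show q ζ ∈ closure {ξ} from hqζ.symm ▸ subset_closure rfl))
      (isClosed_closure.preimage q.continuous)

/-- A rational point is moved by the identity component onto its whole component. -/
theorem closure_subset_image_idComp (hΦ : Surjective (lift a.act (snd G X)).left)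
    (x : 𝟙_ (Over (Spec (CommRingCat.of k))) ⟶ X) (pt : ↥(𝟙_ (Over (Spec (CommRingCat.of k)))).left)
    {ξ : X.left} (hξ : IsMaxPt ξ) (hx : ξ ⤳ x.left pt) :
    closure {ξ} ⊆ (a.orbitMap x).left '' idComp G := by
  intro y hy
  obtain ⟨p, hp, hps, hpa⟩ := exists_act_eq a hΦ hξ (specializes_iff_mem_closure.2 hy)
  obtain ⟨p', hp', hps', hpa'⟩ := exists_act_eq a hΦ hξ hx
  obtain ⟨T, c, b, t, ⟨htp, htp'⟩, he⟩ : ∃ (T : Over (Spec (CommRingCat.of k))) (c b : T ⟶ G ⊗ X) (t : T.left),
      (c.left t = p ∧ b.left t = p') ∧ c ≫ snd G X = b ≫ snd G X := by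
    obtain ⟨r, hr, hr'⟩ := Scheme.Pullback.exists_preimage_pullback (f := (snd G X).left) (g := (snd G X).left) p p'
      (hps.trans hps'.symm)
    let T : Over (Spec (CommRingCat.of k)) := Over.mk (pullback.fst (snd G X).left (snd G X).left ≫ (G ⊗ X).hom)
    let c : T ⟶ G ⊗ X := Over.homMk (pullback.fst _ _)
    let b : T ⟶ G ⊗ X := Over.homMk (pullback.snd (snd G X).left (snd G X).left) (by
      show _ = pullback.fst (snd G X).left (snd G X).left ≫ (G ⊗ X).hom
      rw [← Over.w (snd G X), ← Category.assoc, ← Category.assoc, pullback.condition])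
    exact ⟨T, c, b, r, ⟨hr, hr'⟩, Over.OverMorphism.ext pullback.condition⟩
  let g : T ⟶ G := (c ≫ fst G X) * (b ≫ fst G X)⁻¹
  let v : T ⟶ X := b ≫ a.act
  have hg : g.left t ∈ idComp G := by
    refine mul_mem_idComp _ _ t ?_ (inv_mem_idComp _ _ ?_) <;> rw [Over.comp_left, Scheme.Hom.comp_apply]
    · rw [htp]; exact hp
    · rw [htp']; exact hp'
  have hgv : lift g v ≫ a.act = c ≫ a.act := by
    have e : ∀ w : T ⟶ G ⊗ X, w ≫ a.act = lift (w ≫ fst G X) (w ≫ snd G X) ≫ a.act := fun w => by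
      rw [← comp_lift, lift_fst_snd, Category.comp_id]
    show lift g (b ≫ a.act) ≫ a.act = _
    rw [e b, e c, ← act_mul, inv_mul_cancel_right, he]
  have hv : v.left t = x.left pt := by
    rw [Over.comp_left, Scheme.Hom.comp_apply, htp']; exact hpa'
  obtain ⟨T', d, e', t', ht', hd⟩ := exists_lift v x t ⟨pt, hv.symm⟩
  refine ⟨(d ≫ g).left t', ?_, ?_⟩
  · rw [Over.comp_left, Scheme.Hom.comp_apply, ht']; exact hg
  · rw [← Scheme.Hom.comp_apply, ← Over.comp_left, orbitMap_apply,
      show lift (d ≫ g) (toUnit T' ≫ x) = d ≫ lift g v by rw [comp_lift, hd, toUnit_unique e' (toUnit _)],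
      Category.assoc, hgv, Over.comp_left, Scheme.Hom.comp_apply, Over.comp_left, Scheme.Hom.comp_apply, ht', htp]
    exact hpa

theorem quasiCompact_ι_of_isRetrocompact {Y : Scheme.{u}} (U : Y.Opens) (hU : IsRetrocompact (U : Set Y)) :
    QuasiCompact U.ι := ⟨fun W hW hWc => by
  rw [U.ι.isEmbedding.isCompact_iff, Set.image_preimage_eq_inter_range, Scheme.Opens.range_ι, Set.inter_comm]
  exact hU hWc hW⟩

theorem satSet_eq_closure (hΦ : Surjective (lift a.act (snd G X)).left) (U : X.left.Opens)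
    (hU : IsRetrocompact (U : Set X.left)) : satSet a (U : Set X.left) = closure (U : Set X.left) := by
  ext y
  refine (mem_satSet_iff a hΦ (U := (U : Set X.left)) U.2 y).trans ?_
  constructor
  · rintro ⟨ξ, hξU, -, hξy⟩
    exact hξy.mem_closed isClosed_closure (subset_closure hξU)
  · intro hy
    haveI := quasiCompact_ι_of_isRetrocompact U hU
    obtain ⟨u, -, hu⟩ := SpreadOut.exists_specializes_of_mem_closure_image U.ι (Z := Set.univ) isClosed_univ
      (y := y) (by rwa [Set.image_univ, Scheme.Opens.range_ι])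
    obtain ⟨ξ, hξu, hξ⟩ := exists_isMaxPt (U.ι u)
    exact ⟨ξ, hξu.mem_open U.2 u.2, hξ, hξu.trans hu⟩

include a in
theorem connectedComponent_eq_closure (hΦ : Surjective (lift a.act (snd G X)).left) [QuasiSeparatedSpace X.left]
    {ξ x : X.left} (hξ : IsMaxPt ξ) (hx : ξ ⤳ x) : connectedComponent x = closure {ξ} := by
  refine Set.Subset.antisymm (fun y hy => ?_) ?_
  · obtain ⟨ξ', hξ'y, hξ'⟩ := exists_isMaxPt y
    by_contra hne
    have hn : ξ' ∉ closure {ξ} := fun h => hne (hξ'y.mem_closed isClosed_closure h)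
    obtain ⟨U, hUa, hξU, hUsub⟩ := exists_isAffineOpen_mem_and_subset (X := X.left) (x := ξ')
      (U := ⟨(closure {ξ})ᶜ, isClosed_closure.isOpen_compl⟩) hn
    have hUr : IsRetrocompact (U : Set X.left) := fun W hWc hW =>
      QuasiSeparatedSpace.inter_isCompact _ _ U.2 hUa.isCompact hW hWc
    have hV : IsClopen (satSet a (U : Set X.left)) :=
      ⟨(satSet_eq_closure a hΦ U hUr).symm ▸ isClosed_closure, isOpen_satSet a U⟩
    have hxV : x ∈ satSet a (U : Set X.left) :=
      hV.connectedComponent_subset ((mem_satSet_iff a hΦ (U := (U : Set X.left)) U.2 y).2 ⟨ξ', hξU, hξ', hξ'y⟩)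
        (connectedComponent_eq hy ▸ mem_connectedComponent (x := x))
    obtain ⟨ξ'', hU'', hξ'', hx''⟩ := (mem_satSet_iff a hΦ (U := (U : Set X.left)) U.2 x).1 hxV
    exact hUsub hU'' (maxPt_unique' a hΦ hξ'' hξ hx'' hx ▸ subset_closure rfl)
  · exact (isIrreducible_singleton.closure.isConnected.2).subset_connectedComponent hx.mem_closure

/-- An irreducible homogeneous scheme is quasi-compact. -/
theorem compactSpace_of_irreducible (hΦ : Surjective (lift a.act (snd G X)).left) [IrreducibleSpace X.left] :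
    CompactSpace X.left := by
  obtain ⟨x⟩ := (inferInstance : Nonempty X.left)
  obtain ⟨U, hU, hxU, -⟩ := exists_isAffineOpen_mem_and_subset (X := X.left) (x := x) (U := ⊤) trivial
  obtain ⟨η₀, hη⟩ := QuasiSober.sober (IrreducibleSpace.isIrreducible_univ X.left) isClosed_univ
  haveI := compactSpace_idObj (G := G)
  haveI : CompactSpace U := isCompact_iff_compactSpace.mp hU.isCompact
  haveI : QuasiCompact (U.ι ≫ X.hom) := inferInstance
  haveI : CompactSpace ↥(pullback (idObj G).hom (U.ι ≫ X.hom)) :=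
    QuasiCompact.compactSpace_of_compactSpace (pullback.fst (idObj G).hom (U.ι ≫ X.hom))
  refine ⟨?_⟩
  have hc : IsCompact (satSet a (U : Set X.left)) := by
    refine IsCompact.image ?_ a.act.left.continuous
    have hr : {p : (G ⊗ X).left | (fst G X).left p ∈ idComp G ∧ (snd G X).left p ∈ (U : Set X.left)} =
        Set.range (pullback.map (idObj G).hom (U.ι ≫ X.hom) G.hom X.hom (idIncl G).left U.ι (𝟙 _) (by simp) (by simp)) := by
      rw [Scheme.Pullback.range_map, range_idIncl, Scheme.Opens.range_ι]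
      rfl
    rw [hr]
    exact isCompact_range (Scheme.Hom.continuous _)
  convert hc
  refine (Set.eq_univ_of_forall fun y => (mem_satSet_iff a hΦ (U := (U : Set X.left)) U.2 y).2 ⟨η₀, ?_, ?_, hη.specializes (Set.mem_univ y)⟩).symm
  · exact (hη.specializes (Set.mem_univ x)).mem_open U.2 hxU
  · exact fun θ hθ => (hθ.antisymm (hη.specializes (Set.mem_univ θ))).eq

end Groth.Agent.MonoFibre
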