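import Mathlib
import Groth.Agent.MonoFibre.KerAntiAffine
import Groth.Agent.MonoFibre.RigidityGrp
import Groth.Agent.ProjActLib.AffineQuot
import Groth.Agent.GrpQuotLib.FieldQuot
import Groth.Agent.S7519
import Groth.Agent.S6050
import Groth.Prelude.Def_Red2

/-! The centre of an algebraic group and the affineness of the quotient by it in the connected case. -/

set_option autoImplicit false
universe u

open CategoryTheory CategoryTheory.Limits MonoidalCategory CartesianMonoidalCategory MonObj GrpObj AlgebraicGeometry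

namespace Groth.Agent.MonoFibre.CentreQuot

variable {k : Type u} [Field k] {G : Over (Spec (CommRingCat.of k))} [GrpObj G]

/-- A point commuting with all points. -/
def Central {T : Over (Spec (CommRingCat.of k))} (g : T ⟶ G) : Prop :=
  ∀ (T' : Over (Spec (CommRingCat.of k))) (x : T' ⟶ T) (h : T' ⟶ G), (x ≫ g) * h = h * (x ≫ g)

/-- The centre is a closed subgroup scheme. -/
theorem exists_centre [LocallyOfFiniteType G.hom] :
    ∃ (Z : Over (Spec (CommRingCat.of k))) (_ : GrpObj Z) (j : Z ⟶ G), IsMonHom j ∧ IsClosedImmersion j.left ∧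
      ∀ (T : Over (Spec (CommRingCat.of k))) (g : T ⟶ G), (∃ z : T ⟶ Z, z ≫ j = g) ↔ Central g := by
  obtain ⟨Z, j, hj, hZ⟩ := S7519.result k G
  haveI := hj
  haveI : Mono j := Over.mono_of_mono_left j
  have hc : ∀ {T : Over (Spec (CommRingCat.of k))} (a : T ⟶ Z), Central (a ≫ j) := fun a =>
    (hZ _ _).mp ⟨a, rfl⟩
  obtain ⟨str, hstr⟩ := S6050.S6050Aux.exists_grpObj_of_closed j
    ((hZ _ _).mpr fun T' x h => by
      rw [show x ≫ η[G] = 1 by rw [Hom.one_def, toUnit_unique x (toUnit _)], _root_.one_mul, _root_.mul_one])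
    (fun W a b => (hZ _ _).mpr fun T' x h => by
      rw [MonObj.comp_mul, _root_.mul_assoc, hc b T' x h, ← _root_.mul_assoc, hc a T' x h, _root_.mul_assoc])
    (fun W a => (hZ _ _).mpr fun T' x h => by
      rw [GrpObj.comp_inv]
      exact (Commute.inv_left (hc a T' x h : Commute (x ≫ a ≫ j) h)).eq)
  exact ⟨Z, str, j, hstr, hj, hZ⟩

/-- A homomorphism killing the central points of a connected algebraic group has affine image. -/
theorem isAffine_of_kills_central [LocallyOfFiniteType G.hom] [QuasiCompact G.hom] [ConnectedSpace G.left]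
    (Q : Over (Spec (CommRingCat.of k))) [GrpObj Q] [LocallyOfFiniteType Q.hom] (q : G ⟶ Q) [IsMonHom q]
    [Surjective q.left]
    (hq : ∀ (T : Over (Spec (CommRingCat.of k))) (g : T ⟶ G), Central g → g ≫ q = 1) : IsAffine Q.left := by
  obtain ⟨hA, N, hN, i, ht, htf, hts, htl, hi, -, hNl, hNq, hker, hO⟩ := KerAntiAffine.exists_antiAffineKernel G
  letI := hA
  letI := hN
  haveI := ht; haveI := htf; haveI := hts; haveI := htl; haveI := hi; haveI := hNl; haveI := hNq
  let t := Affinization.toAff G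
  have hiq : i ≫ q = 1 := hq N i fun T' x h =>
    Rigidity.comm_of_connected ((KerAntiAffine.bijective_iff N).mpr hO) i x h
  haveI : LocallyOfFinitePresentation t.left := KernelFibre.locallyOfFinitePresentation_left t
  haveI : SchDesc.IsFpqc t.left := SchDesc.IsFpqc.of_locallyOfFinitePresentation _
  obtain ⟨g, hg⟩ := GrpQuotLib.exists_desc t q fun T a b hab => by
    have h1 : (a⁻¹ * b) ≫ t = 1 := by rw [MonObj.mul_comp, GrpObj.inv_comp, hab, inv_mul_cancel]
    obtain ⟨n, hn⟩ : ∃ n : T ⟶ N, n ≫ i = a⁻¹ * b :=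
      ⟨hker.lift _ (toUnit T) (by rw [h1, Hom.one_def]), hker.lift_fst _ _ _⟩
    have h2 : (a⁻¹ * b) ≫ q = 1 := by rw [← hn, Category.assoc, hiq, MonObj.comp_one]
    rw [MonObj.mul_comp, GrpObj.inv_comp, inv_mul_eq_one] at h2
    exact h2
  haveI : Epi t := GrpQuotLib.epi_of_isFpqc t
  haveI : Epi (t ⊗ₘ t) := by
    haveI := GrpQuotLib.isFpqc_whiskerRight t G
    haveI := GrpQuotLib.isFpqc_whiskerLeft t (Affinization.aff G)
    haveI := GrpQuotLib.epi_of_isFpqc (t ▷ G)
    haveI := GrpQuotLib.epi_of_isFpqc (Affinization.aff G ◁ t)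
    rw [MonoidalCategory.tensorHom_def]
    exact epi_comp _ _
  haveI : IsMonHom g := by
    refine ⟨?_, ?_⟩
    · rw [← IsMonHom.one_hom t, Category.assoc, hg, IsMonHom.one_hom]
    · rw [← cancel_epi (t ⊗ₘ t), ← Category.assoc, ← IsMonHom.mul_hom, Category.assoc, hg, IsMonHom.mul_hom,
        ← Category.assoc, tensorHom_comp_tensorHom, hg]
  haveI : Surjective g.left := by
    haveI : Surjective (t.left ≫ g.left) := by rw [← Over.comp_left, hg]; infer_instance
    exact Surjective.of_comp t.left g.left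
  haveI : IsAffine (Affinization.aff G).left := inferInstanceAs (IsAffine (Spec Γ(G.left, ⊤)))
  exact ProjActLib.isAffine_of_hom (Affinization.aff G) Q g

/-- The quotient group by the centre. -/
theorem exists_centre_quotient [LocallyOfFiniteType G.hom] [QuasiCompact G.hom] [ConnectedSpace G.left] :
    ∃ (Z : Over (Spec (CommRingCat.of k))) (_ : GrpObj Z) (j : Z ⟶ G) (Q : Over (Spec (CommRingCat.of k)))
      (_ : GrpObj Q) (q : G ⟶ Q), IsMonHom j ∧ IsClosedImmersion j.left ∧
      (∀ (T : Over (Spec (CommRingCat.of k))) (g : T ⟶ G), (∃ z : T ⟶ Z, z ≫ j = g) ↔ Central g) ∧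
      IsMonHom q ∧ IsAffine Q.left ∧ LocallyOfFiniteType Q.hom ∧ Flat q.left ∧ Surjective q.left ∧
      LocallyOfFinitePresentation q.left ∧ AlgGrp.IsKernel j q := by
  obtain ⟨Z, hZg, j, hjm, hjc, hZ⟩ := exists_centre (G := G)
  letI := hZg
  haveI := hjm; haveI := hjc
  have hn : AlgGrp.IsNormalHom j := fun T g n => ⟨n, by
    have h := (hZ _ _).mp ⟨n, rfl⟩ T (𝟙 T) g
    rw [Category.id_comp] at h
    rw [← h, mul_inv_cancel_right]⟩
  obtain ⟨Q, hQ, q, hqm, -, hQl, -, hqs, hqf, hqp, hker⟩ := GrpQuotLib.exists_quotientGrp_field Z G j hn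
  letI := hQ
  haveI := hqm; haveI := hQl; haveI := hqs
  refine ⟨Z, hZg, j, Q, hQ, q, hjm, hjc, hZ, hqm, ?_, hQl, hqf, hqs, hqp, hker⟩
  refine isAffine_of_kills_central Q q fun T g hg => ?_
  obtain ⟨z, rfl⟩ := (hZ T g).mpr hg
  rw [Category.assoc, hker.w, Hom.one_def, ← Category.assoc, toUnit_unique (z ≫ toUnit Z) (toUnit T)]

theorem central_iff {Z : Over (Spec (CommRingCat.of k))} [GrpObj Z] {j : Z ⟶ G} (hZ : Red.IsCentre j)
    {T : Over (Spec (CommRingCat.of k))} (g : T ⟶ G) : (∃ z : T ⟶ Z, z ≫ j = g) ↔ Central g := by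
  rw [hZ.2.2 T g]
  simp only [Central, Category.comp_id]

/-- The quotient of a connected algebraic group by its centre is affine. -/
theorem isAffine_of_isKernel_centre [LocallyOfFiniteType G.hom] [QuasiCompact G.hom] [ConnectedSpace G.left]
    (Z : Over (Spec (CommRingCat.of k))) [GrpObj Z] (j : Z ⟶ G) (hZ : Red.IsCentre j)
    (Q : Over (Spec (CommRingCat.of k))) [GrpObj Q] [LocallyOfFiniteType Q.hom]
    (q : G ⟶ Q) [IsMonHom q] [Surjective q.left] (hker : AlgGrp.IsKernel j q) : IsAffine Q.left := by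
  refine isAffine_of_kills_central Q q fun T g hg => ?_
  obtain ⟨z, rfl⟩ := (central_iff hZ g).mpr hg
  rw [Category.assoc, hker.w, Hom.one_def, ← Category.assoc, toUnit_unique (z ≫ toUnit Z) (toUnit T)]

/-- The same for a quotient given only as a scheme. -/
theorem isAffine_of_isQuotient_centre [LocallyOfFiniteType G.hom] [QuasiCompact G.hom] [ConnectedSpace G.left]
    (Z : Over (Spec (CommRingCat.of k))) [GrpObj Z] (j : Z ⟶ G) (hZ : Red.IsCentre j)
    (Q : Over (Spec (CommRingCat.of k))) (q : G ⟶ Q) [Surjective q.left] [Flat q.left]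
    [LocallyOfFinitePresentation q.left] (hq : IsPullback (fst G Z) ((G ◁ j) ≫ μ[G]) q q) : IsAffine Q.left := by
  obtain ⟨Z₀, _, j₀, Q₀, hQ₀, q₀, _, _, hZ₀, hqm, hQa, -, hqf, hqs, hqp, hker⟩ := exists_centre_quotient (G := G)
  letI := hQ₀
  haveI := hqm; haveI := hqf; haveI := hqs; haveI := hqp; haveI := hQa
  haveI : SchDesc.IsFpqc q.left := SchDesc.IsFpqc.of_locallyOfFinitePresentation _
  haveI : SchDesc.IsFpqc q₀.left := SchDesc.IsFpqc.of_locallyOfFinitePresentation _
  have hmk : ∀ {T : Over (Spec (CommRingCat.of k))} (a : T ⟶ G) (z : T ⟶ Z),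
      lift a z ≫ (G ◁ j) ≫ μ[G] = a * (z ≫ j) := fun a z => by rw [lift_whiskerLeft_assoc, Hom.mul_def]
  have h₁ : ∀ (T : Over (Spec (CommRingCat.of k))) (a b : T ⟶ G), a ≫ q = b ≫ q → a ≫ q₀ = b ≫ q₀ := by
    intro T a b hab
    obtain ⟨l, hl₁, hl₂⟩ := hq.exists_lift a b hab
    have hl : l = lift a (l ≫ snd G Z) :=
      CartesianMonoidalCategory.hom_ext _ _ (by rw [lift_fst, hl₁]) (by rw [lift_snd])
    rw [hl, hmk] at hl₂
    obtain ⟨z₀, hz₀⟩ := (hZ₀ _ _).mpr ((central_iff hZ _).mp ⟨l ≫ snd G Z, rfl⟩)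
    rw [← hl₂, MonObj.mul_comp, ← hz₀, Category.assoc z₀, hker.w, ← Category.assoc,
      toUnit_unique (z₀ ≫ toUnit Z₀) (toUnit T), ← Hom.one_def, _root_.mul_one]
  have h₂ : ∀ (T : Over (Spec (CommRingCat.of k))) (a b : T ⟶ G), a ≫ q₀ = b ≫ q₀ → a ≫ q = b ≫ q := by
    intro T a b hab
    have h1 : (a⁻¹ * b) ≫ q₀ = 1 := by rw [MonObj.mul_comp, GrpObj.inv_comp, hab, inv_mul_cancel]
    have hc : Central (a⁻¹ * b) :=
      (hZ₀ _ _).mp ⟨hker.lift _ (toUnit T) (by rw [h1, Hom.one_def]), hker.lift_fst _ _ _⟩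
    obtain ⟨z, hz⟩ := (central_iff hZ _).mpr hc
    have h := congrArg (lift a z ≫ ·) hq.w
    simp only [lift_fst_assoc] at h
    rw [h, ← Category.assoc, hmk, hz, mul_inv_cancel_left]
  obtain ⟨g, hg⟩ := GrpQuotLib.exists_desc q₀ q h₂
  obtain ⟨f, hf⟩ := GrpQuotLib.exists_desc q q₀ h₁
  haveI : Epi q := GrpQuotLib.epi_of_isFpqc q
  haveI : Epi q₀ := GrpQuotLib.epi_of_isFpqc q₀
  let e : Q ≅ Q₀ :=
    { hom := f
      inv := g
      hom_inv_id := by rw [← cancel_epi q, reassoc_of% hf, hg, Category.comp_id]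
      inv_hom_id := by rw [← cancel_epi q₀, reassoc_of% hg, hf, Category.comp_id] }
  haveI : IsIso e.hom.left := ((Over.forget _).mapIso e).isIso_hom
  exact .of_isIso e.hom.left

end Groth.Agent.MonoFibre.CentreQuot
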