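import Mathlib
import Groth.Agent.MonoFibre.CentreQuot
import Groth.Agent.MonoFibre.SchemeImage
import Groth.Agent.MonoFibre.AffineKernel
import Groth.Agent.GrpSchLib.Component
import Groth.Agent.FpqcDesc.Basic

/-! The anti-affine part of an algebraic group. -/

set_option autoImplicit false
universe u

open CategoryTheory CategoryTheory.Limits MonoidalCategory CartesianMonoidalCategory MonObj GrpObj AlgebraicGeometry

namespace Groth.Agent.MonoFibre.AntiAffinePart

variable {k : Type u} [Field k]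

/-- A homomorphism from an anti-affine group to an affine group is trivial. -/
theorem eq_one_of_antiAffine {M T : Over (Spec (CommRingCat.of k))} [GrpObj M] [GrpObj T] [IsAffine T.left]
    (hO : IsIso M.hom.appTop) (f : M ⟶ T) [IsMonHom f] : f = 1 := by
  obtain ⟨g, hg⟩ := (AntiAffine.isAffz_toUnit ((KerAntiAffine.bijective_iff M).mpr hO)).exists_lift f
  have h := IsMonHom.one_hom f
  rw [← hg, ← Category.assoc, toUnit_unique (η[M] ≫ toUnit M) (𝟙 _), Category.id_comp] at h
  rw [← hg, h]
  exact Hom.one_def.symm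

variable {G : Over (Spec (CommRingCat.of k))} [GrpObj G] [LocallyOfFiniteType G.hom] [QuasiCompact G.hom]

/-- A surjective homomorphism killing the kernel of the affinization map has affine target. -/
theorem isAffine_of_kills {N : Over (Spec (CommRingCat.of k))} (i : N ⟶ G) [GrpObj (Affinization.aff G)]
    [IsMonHom (Affinization.toAff G)] (hker : AlgGrp.IsKernel i (Affinization.toAff G))
    (Q : Over (Spec (CommRingCat.of k))) [GrpObj Q] [LocallyOfFiniteType Q.hom]
    (q : G ⟶ Q) [IsMonHom q] [Surjective q.left] (hiq : i ≫ q = 1) : IsAffine Q.left := by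
  obtain ⟨hs, hf, hl⟩ := Affinization.toSpecΓ_props G
  let t := Affinization.toAff G
  haveI : Flat t.left := hf
  haveI : Surjective t.left := hs
  haveI : LocallyOfFiniteType (Affinization.aff G).hom := hl
  haveI : LocallyOfFinitePresentation t.left := KernelFibre.locallyOfFinitePresentation_left t
  haveI : SchDesc.IsFpqc t.left := SchDesc.IsFpqc.of_locallyOfFinitePresentation _
  obtain ⟨g, hg⟩ := GrpQuotLib.exists_desc t q fun T a b hab => by
    have h1 : (a⁻¹ * b) ≫ t = 1 := by rw [MonObj.mul_comp, GrpObj.inv_comp, hab, inv_mul_cancel]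
    obtain ⟨n, hn⟩ : ∃ n : T ⟶ N, n ≫ i = a⁻¹ * b :=
      ⟨hker.lift _ (toUnit T) (by rw [h1, Hom.one_def]), hker.lift_fst _ _ _⟩
    have h2 : (a⁻¹ * b) ≫ q = 1 := by rw [← hn, Category.assoc, hiq, MonObj.comp_one]
    rw [MonObj.mul_comp, GrpObj.inv_comp, inv_mul_eq_one] at h2
    exact h2
  haveI : Epi t := GrpQuotLib.epi_of_isFpqc t
  haveI : Epi (t ⊗ₘ t) := by
    haveI := GrpQuotLib.isFpqc_whiskerRight t G
    haveI := GrpQuotLib.isFpqc_whiskerLeft t (Affinization.aff G)
    haveI := GrpQuotLib.epi_of_isFpqc (t ▷ G)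
    haveI := GrpQuotLib.epi_of_isFpqc (Affinization.aff G ◁ t)
    rw [MonoidalCategory.tensorHom_def]
    exact epi_comp _ _
  haveI : IsMonHom g := by
    refine ⟨?_, ?_⟩
    · rw [← IsMonHom.one_hom t, Category.assoc, hg, IsMonHom.one_hom]
    · rw [← cancel_epi (t ⊗ₘ t), ← Category.assoc, ← IsMonHom.mul_hom, Category.assoc, hg, IsMonHom.mul_hom,
        ← Category.assoc, tensorHom_comp_tensorHom, hg]
  haveI : Surjective g.left := by
    haveI : Surjective (t.left ≫ g.left) := by rw [← Over.comp_left, hg]; infer_instance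
    exact Surjective.of_comp t.left g.left
  haveI : IsAffine (Affinization.aff G).left := inferInstanceAs (IsAffine (Spec Γ(G.left, ⊤)))
  exact ProjActLib.isAffine_of_hom (Affinization.aff G) Q g

/-- A group all of whose anti-affine part is trivial is affine. -/
theorem isAffine_of_isAffine_part {N : Over (Spec (CommRingCat.of k))} (i : N ⟶ G) [GrpObj (Affinization.aff G)]
    [IsMonHom (Affinization.toAff G)] (hker : AlgGrp.IsKernel i (Affinization.toAff G)) [IsAffine N.left] :
    IsAffine G.left := by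
  let t := Affinization.toAff G
  haveI : IsAffine (Affinization.aff G).left := inferInstanceAs (IsAffine (Spec Γ(G.left, ⊤)))
  haveI : QuasiCompact t.left := by
    haveI : QuasiCompact (t.left ≫ (Affinization.aff G).hom) := by rw [Over.w]; infer_instance
    exact QuasiCompact.of_comp t.left (Affinization.aff G).hom
  haveI : IsAffine (pullback t η[Affinization.aff G]).left := by
    let e := hker.isoPullback
    haveI : IsIso e.inv.left := ((Over.forget _).mapIso e).isIso_inv
    exact .of_isIso e.inv.left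
  haveI := isAffineHom_of_affine_kernel t
  exact isAffine_of_isAffineHom t.left

omit [LocallyOfFiniteType G.hom] [QuasiCompact G.hom] in
/-- The kernel of a homomorphism, topologically. -/
theorem range_kernel {Q N : Over (Spec (CommRingCat.of k))} [GrpObj Q] (q : G ⟶ Q) (i : N ⟶ G)
    (hker : AlgGrp.IsKernel i q) : Set.range i.left = q.left ⁻¹' Set.range η[Q].left := by
  have P : IsPullback i.left (toUnit N).left q.left η[Q].left := IsPullback.map (Over.forget _) hker
  ext x
  constructor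
  · rintro ⟨n, rfl⟩
    refine ⟨(toUnit N).left n, ?_⟩
    rw [← Scheme.Hom.comp_apply, ← Scheme.Hom.comp_apply]
    exact congrArg (fun f => f n) P.w.symm
  · rintro ⟨y, hy⟩
    obtain ⟨z, hz, -⟩ := Scheme.Pullback.exists_preimage_pullback (f := q.left) (g := η[Q].left) x y hy.symm
    refine ⟨P.isoPullback.inv z, ?_⟩
    rw [← Scheme.Hom.comp_apply, IsPullback.isoPullback_inv_fst]
    exact hz

omit [LocallyOfFiniteType G.hom] [QuasiCompact G.hom] in
/-- A connected group mapping to `G` lands in any open subgroup. -/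
theorem range_subset_of_connected {N G₀ : Over (Spec (CommRingCat.of k))} [GrpObj N] [GrpObj G₀]
    [LocallyOfFiniteType N.hom] [QuasiCompact N.hom] [ConnectedSpace N.left] (φ : N ⟶ G) [IsMonHom φ]
    (i₀ : G₀ ⟶ G) [IsMonHom i₀] [IsOpenImmersion i₀.left] : Set.range φ.left ⊆ Set.range i₀.left := by
  rintro _ ⟨x, rfl⟩
  let T := GrpSchLib.ptObj x
  let g : T ⟶ N := GrpSchLib.ptHom x
  obtain ⟨pt⟩ : Nonempty T.left := inferInstance
  haveI : IrreducibleSpace (N ⊗ T).left := AntiAffine.irreducibleSpace_tensor T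
  have hone : GrpSchLib.unitPt G ∈ Set.range i₀.left := ⟨GrpSchLib.unitPt G₀, by
    obtain ⟨y⟩ : Nonempty ((𝟙_ (Over (Spec (CommRingCat.of k)))).left : Scheme.{u}) := ⟨IsLocalRing.closedPoint k⟩
    have h1 : η[G₀].left y = GrpSchLib.unitPt G₀ := GrpSchLib.range_unit.le ⟨y, rfl⟩
    have h2 : η[G].left y = GrpSchLib.unitPt G := GrpSchLib.range_unit.le ⟨y, rfl⟩
    rw [← h1, ← h2, ← Scheme.Hom.comp_apply, ← Over.comp_left, IsMonHom.one_hom i₀]⟩
  let E₁ : N ⊗ T ⟶ N := fst N T
  let E₂ : N ⊗ T ⟶ N := (snd N T ≫ g) * (fst N T)⁻¹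
  have hO : IsOpen (Set.range i₀.left) := i₀.left.opensRange.2
  have ho : ∀ (E : N ⊗ T ⟶ N) (a : T ⟶ N ⊗ T), a ≫ E = 1 →
      IsOpen ((E ≫ φ).left ⁻¹' Set.range i₀.left) ∧ ((E ≫ φ).left ⁻¹' Set.range i₀.left).Nonempty := by
    refine fun E a ha => ⟨hO.preimage (E ≫ φ).left.continuous, ⟨a.left pt, ?_⟩⟩
    rw [Set.mem_preimage, ← Scheme.Hom.comp_apply, ← Over.comp_left, ← Category.assoc, ha, MonObj.one_comp,
      GrpSchLib.one_apply]
    exact hone
  obtain ⟨o₁, n₁⟩ := ho E₁ (lift 1 (𝟙 T)) (lift_fst _ _)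
  obtain ⟨o₂, n₂⟩ := ho E₂ (lift g (𝟙 T)) (by
    rw [MonObj.comp_mul, GrpObj.comp_inv, lift_fst, lift_snd_assoc, Category.id_comp, mul_inv_cancel])
  obtain ⟨r, hr₁, hr₂⟩ := nonempty_preirreducible_inter o₁ o₂ n₁ n₂
  let w : GrpSchLib.ptObj r ⟶ N ⊗ T := GrpSchLib.ptHom r
  have hfac : ∀ E : N ⊗ T ⟶ N, r ∈ (E ≫ φ).left ⁻¹' Set.range i₀.left →
      ∃ z : GrpSchLib.ptObj r ⟶ G₀, z ≫ i₀ = w ≫ E ≫ φ := by
    intro E hE
    have hsub : Set.range (w ≫ E ≫ φ).left ⊆ Set.range i₀.left := by
      rintro _ ⟨y, rfl⟩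
      rw [Over.comp_left, Scheme.Hom.comp_apply, GrpSchLib.ptHom_apply]
      exact hE
    exact ⟨Over.homMk (IsOpenImmersion.lift i₀.left (w ≫ E ≫ φ).left hsub)
      (by rw [← Over.w i₀, IsOpenImmersion.lift_fac_assoc, Over.w]),
      Over.OverMorphism.ext (IsOpenImmersion.lift_fac _ _ _)⟩
  obtain ⟨z₁, hz₁⟩ := hfac E₁ hr₁
  obtain ⟨z₂, hz₂⟩ := hfac E₂ hr₂
  obtain ⟨y⟩ : Nonempty (GrpSchLib.ptObj r).left := inferInstance
  have e : (z₂ * z₁) ≫ i₀ = (w ≫ snd N T) ≫ g ≫ φ := by
    rw [MonObj.mul_comp, hz₁, hz₂, ← MonObj.comp_mul, ← MonObj.mul_comp]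
    simp only [E₁, E₂, inv_mul_cancel_right, Category.assoc]
  refine ⟨(z₂ * z₁).left y, ?_⟩
  rw [← Scheme.Hom.comp_apply, ← Over.comp_left, e]
  simp only [Over.comp_left, Scheme.Hom.comp_apply]
  exact congrArg φ.left (GrpSchLib.ptHom_apply x _)

omit [LocallyOfFiniteType G.hom] [QuasiCompact G.hom] in
/-- The scheme-theoretic image of a homomorphism is a closed subgroup. -/
theorem exists_schemeImage [LocallyOfFiniteType G.hom] {H : Over (Spec (CommRingCat.of k))} [GrpObj H]
    [LocallyOfFiniteType H.hom] (f : H ⟶ G) [IsMonHom f] [QuasiCompact f.left] :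
    ∃ (K : Over (Spec (CommRingCat.of k))) (_ : GrpObj K) (ι' : K ⟶ G) (g : H ⟶ K), IsMonHom ι' ∧
      IsClosedImmersion ι'.left ∧ IsMonHom g ∧ g ≫ ι' = f ∧ IsSchemeTheoreticallyDominant g.left ∧
      QuasiCompact g.left ∧ Surjective g.left := by
  let ι' : Over.mk (f.left.imageι ≫ G.hom) ⟶ G := Over.homMk f.left.imageι rfl
  let g : H ⟶ Over.mk (f.left.imageι ≫ G.hom) := Over.homMk f.left.toImage (by
    rw [← Over.w f]
    exact (Category.assoc _ _ _).symm.trans (congrArg (· ≫ G.hom) f.left.toImage_imageι))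
  have hg : g ≫ ι' = f := Over.OverMorphism.ext f.left.toImage_imageι
  haveI : IsClosedImmersion ι'.left := inferInstanceAs (IsClosedImmersion f.left.imageι)
  haveI : IsSchemeTheoreticallyDominant g.left := SchemeImage.toImage_dominant f.left
  obtain ⟨he, hd⟩ := SchemeImage.exists_div f ι' g hg
  obtain ⟨hK, hι⟩ := SchemeImage.exists_grpObj ι' he hd
  letI := hK
  haveI : Mono ι' := Over.mono_of_mono_left ι'
  haveI : IsMonHom g := ⟨by rw [← cancel_mono ι', Category.assoc, hg, IsMonHom.one_hom f, IsMonHom.one_hom ι'],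
    by rw [← cancel_mono ι', Category.assoc, hg, IsMonHom.mul_hom f, Category.assoc, IsMonHom.mul_hom ι',
      ← Category.assoc, tensorHom_comp_tensorHom, hg]⟩
  haveI : QuasiCompact (g.left ≫ ι'.left) := by rw [← Over.comp_left, hg]; infer_instance
  exact ⟨_, hK, ι', g, hι, inferInstance, inferInstance, hg, inferInstance, QuasiCompact.of_comp g.left ι'.left,
    SchemeImage.surjective f ι' g hg⟩

omit [LocallyOfFiniteType G.hom] [QuasiCompact G.hom] in
/-- A scheme theoretically dominant image of an anti-affine group is anti-affine. -/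
theorem isIso_appTop_image {H K : Over (Spec (CommRingCat.of k))} (g : H ⟶ K)
    [IsSchemeTheoreticallyDominant g.left] [QuasiCompact g.left] (hH : IsIso H.hom.appTop) :
    IsIso K.hom.appTop := by
  have hi := g.left.app_injective ⊤
  have hb := (ConcreteCategory.isIso_iff_bijective H.hom.appTop).mp hH
  rw [show H.hom.appTop = K.hom.appTop ≫ g.left.appTop by rw [← Scheme.Hom.comp_appTop, Over.w g]] at hb
  refine (ConcreteCategory.isIso_iff_bijective _).mpr ⟨fun a b hab => hb.1 (congrArg g.left.appTop.hom hab),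
    fun y => ?_⟩
  obtain ⟨c, hc⟩ := hb.2 (g.left.appTop.hom y)
  exact ⟨c, hi hc⟩

/-- The anti-affine part of a group surjects onto every connected proper quotient. -/
theorem surjective_of_isProper [GrpObj (Affinization.aff G)] [IsMonHom (Affinization.toAff G)]
    {N A : Over (Spec (CommRingCat.of k))} [GrpObj N] [LocallyOfFiniteType N.hom] [QuasiCompact N.hom]
    (i : N ⟶ G) [IsMonHom i] (hker : AlgGrp.IsKernel i (Affinization.toAff G)) (hO : IsIso N.hom.appTop)
    [GrpObj A] [IsProper A.hom] [ConnectedSpace A.left] (π : G ⟶ A) [IsMonHom π] [Surjective π.left] :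
    Surjective (i ≫ π).left := by
  haveI : QuasiCompact (i ≫ π).left := by
    haveI : QuasiCompact ((i ≫ π).left ≫ A.hom) := by rw [Over.w]; infer_instance
    exact QuasiCompact.of_comp (i ≫ π).left A.hom
  obtain ⟨K, hK, ι', g, hι, hιc, hg, hgι, hgd, hgq, hgs⟩ := exists_schemeImage (i ≫ π)
  letI := hK
  haveI := hι; haveI := hιc; haveI := hgd; haveI := hgq; haveI := hgs
  obtain ⟨Z, hZg, j, hj, hjc, hZ⟩ := CentreQuot.exists_centre (G := A)
  haveI := hjc
  obtain ⟨z, hz⟩ := (hZ N (i ≫ π)).mpr fun T' x h =>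
    Rigidity.comm_of_connected ((KerAntiAffine.bijective_iff N).mpr hO) (i ≫ π) x h
  obtain ⟨d, hd⟩ := SchemeImage.exists_lift_of_dominant g.left ι'.left j.left z.left
    (by rw [← Over.comp_left, ← Over.comp_left, hz, hgι])
  let D : K ⟶ Z := Over.homMk d (by rw [← Over.w j, ← Category.assoc, hd, Over.w])
  have hD : D ≫ j = ι' := Over.OverMorphism.ext hd
  have hn : AlgGrp.IsNormalHom ι' := fun T a n => ⟨n, by
    have h := (hZ T (n ≫ ι')).mp ⟨n ≫ D, by rw [Category.assoc, hD]⟩ T (𝟙 T) a
    rw [Category.id_comp] at h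
    rw [← h, mul_inv_cancel_right]⟩
  obtain ⟨B, hB, p, hp, hBs, hBl, hBq, hps, hpf, hpp, hpk⟩ := GrpQuotLib.exists_quotientGrp_field K A ι' hn
  letI := hB
  haveI := hp; haveI := hBs; haveI := hBl; haveI := hps
  haveI : Surjective (π ≫ p).left := by rw [Over.comp_left]; infer_instance
  haveI : IsAffine B.left := by
    refine isAffine_of_kills i hker B (π ≫ p) ?_
    rw [← Category.assoc, ← hgι, Category.assoc, hpk.w, Hom.one_def, ← Category.assoc,
      toUnit_unique (g ≫ toUnit K) (toUnit N)]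
  haveI : UniversallyClosed (p.left ≫ B.hom) := by rw [Over.w]; infer_instance
  haveI : UniversallyClosed B.hom := UniversallyClosed.of_comp_surjective p.left B.hom
  haveI : IsProper B.hom := {}
  haveI : ConnectedSpace B.left := p.left.surjective.connectedSpace p.left.continuous
  haveI : IsFinite B.hom := (IsFinite.iff_isProper_and_isAffineHom).mpr ⟨inferInstance, inferInstance⟩
  haveI : DiscreteTopology B.left := by
    have h := B.hom.isDiscrete_preimage_singleton (IsLocalRing.closedPoint k)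
    haveI : Subsingleton ↥(Spec (CommRingCat.of k)) := inferInstanceAs (Subsingleton (PrimeSpectrum k))
    refine isDiscrete_univ_iff.mp ?_
    convert! h using 1
    exact (Set.eq_univ_of_forall fun x => Subsingleton.elim _ _).symm
  haveI : Subsingleton B.left := PreconnectedSpace.trivial_of_discrete
  have hr := range_kernel p ι' hpk
  refine ⟨fun a => ?_⟩
  obtain ⟨c, rfl⟩ : a ∈ Set.range ι'.left := by
    rw [hr]
    exact ⟨IsLocalRing.closedPoint k, Subsingleton.elim _ _⟩
  obtain ⟨n, rfl⟩ := g.left.surjective c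
  exact ⟨n, by rw [← Scheme.Hom.comp_apply, ← Over.comp_left, hgι]⟩

end Groth.Agent.MonoFibre.AntiAffinePart
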