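import Mathlib
import Groth.Agent.MonoFibre.AntiAffinePart

/-! Consequences of the existence of the anti-affine part. -/

set_option autoImplicit false
universe u

open CategoryTheory CategoryTheory.Limits MonoidalCategory CartesianMonoidalCategory MonObj GrpObj AlgebraicGeometry

namespace Groth.Agent.MonoFibre.AntiAffineApps

open AntiAffinePart

variable {k : Type u} [Field k]

theorem comp_isKernel {N G Q T : Over (Spec (CommRingCat.of k))} [GrpObj Q] {i : N ⟶ G} {q : G ⟶ Q}
    (hker : AlgGrp.IsKernel i q) (z : T ⟶ N) : (z ≫ i) ≫ q = 1 := by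
  rw [Category.assoc, hker.w, Hom.one_def, ← Category.assoc, toUnit_unique (z ≫ toUnit N) (toUnit T)]

theorem exists_of_isKernel {N G Q T : Over (Spec (CommRingCat.of k))} [GrpObj Q] {i : N ⟶ G} {q : G ⟶ Q}
    (hker : AlgGrp.IsKernel i q) (g : T ⟶ G) (h : g ≫ q = 1) : ∃ z : T ⟶ N, z ≫ i = g :=
  ⟨hker.lift _ (toUnit T) (by rw [h, Hom.one_def]), hker.lift_fst _ _ _⟩

variable {G : Over (Spec (CommRingCat.of k))} [GrpObj G] [LocallyOfFiniteType G.hom] [QuasiCompact G.hom]

/-- Every anti-affine subgroup lies in the kernel of the affinization map. -/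
theorem exists_lift_part {M N : Over (Spec (CommRingCat.of k))} [GrpObj M] (j : M ⟶ G) [IsMonHom j]
    [GrpObj (Affinization.aff G)] [IsMonHom (Affinization.toAff G)] {i : N ⟶ G}
    (hker : AlgGrp.IsKernel i (Affinization.toAff G)) (hM : IsIso M.hom.appTop) : ∃ z : M ⟶ N, z ≫ i = j := by
  haveI : IsAffine (Affinization.aff G).left := inferInstanceAs (IsAffine (Spec Γ(G.left, ⊤)))
  exact exists_of_isKernel hker j (eq_one_of_antiAffine hM _)

/-- If the quotient of `G` by an affine normal subgroup is proper, the anti-affine part surjects onto it,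
so that it generates `G` together with the affine subgroup, and is the smallest subgroup to do so. -/
theorem mul_part_surjective_and_smallest [ConnectedSpace G.left]
    (N : Over (Spec (CommRingCat.of k))) [GrpObj N] (i : N ⟶ G) [IsMonHom i] [IsClosedImmersion i.left]
    [IsAffine N.left]
    (A : Over (Spec (CommRingCat.of k))) [GrpObj A] [IsProper A.hom]
    (q : G ⟶ A) [IsMonHom q] [Surjective q.left] (hq : AlgGrp.IsKernel i q)
    (M : Over (Spec (CommRingCat.of k))) [GrpObj M] [LocallyOfFiniteType M.hom] [QuasiCompact M.hom] (j : M ⟶ G)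
    [IsMonHom j] [IsClosedImmersion j.left]
    (hM : Function.Bijective ((Scheme.ΓSpecIso (CommRingCat.of k)).inv ≫ M.hom.appTop).hom)
    (hMmax : ∀ (M₁ : Over (Spec (CommRingCat.of k))) [GrpObj M₁] [LocallyOfFiniteType M₁.hom] [QuasiCompact M₁.hom]
      (j₁ : M₁ ⟶ G) [IsMonHom j₁] [IsClosedImmersion j₁.left],
      Function.Bijective ((Scheme.ΓSpecIso (CommRingCat.of k)).inv ≫ M₁.hom.appTop).hom → ∃ g : M₁ ⟶ M, g ≫ j = j₁) :
    Surjective ((i ⊗ₘ j) ≫ μ[G]).left ∧
      ∀ (H : Over (Spec (CommRingCat.of k))) [GrpObj H] (h : H ⟶ G) [IsMonHom h] [IsClosedImmersion h.left],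
        Surjective ((h ⊗ₘ i) ≫ μ[G]).left → ∃ g : M ⟶ H, g ≫ h = j := by
  haveI : ConnectedSpace A.left := q.left.surjective.connectedSpace q.left.continuous
  -- a map hitting all of `A` generates `G` with `N`
  have gen : ∀ {W : Over (Spec (CommRingCat.of k))} (φ : W ⟶ G), Surjective (φ ≫ q).left →
      Surjective ((i ⊗ₘ φ) ≫ μ[G]).left := by
    intro W φ hφ
    refine ⟨fun x => ?_⟩
    obtain ⟨T, a, m, t, ht, he⟩ := GrpSchLib.exists_lift q (φ ≫ q) x (hφ.surj _)
    obtain ⟨n, hn⟩ := exists_of_isKernel hq (a * (m ≫ φ)⁻¹) (by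
      rw [MonObj.mul_comp, GrpObj.inv_comp, Category.assoc, he, mul_inv_cancel])
    refine ⟨(lift n m).left t, ?_⟩
    rw [← Scheme.Hom.comp_apply, ← Over.comp_left, ← Category.assoc, lift_map, ← Hom.mul_def, hn,
      inv_mul_cancel_right, ht]
  refine ⟨?_, ?_⟩
  · obtain ⟨hA, P, hP, iP, ht, -, -, -, hiP, hcP, hlP, hqP, hker, hO⟩ := KerAntiAffine.exists_antiAffineKernel G
    letI := hA; letI := hP
    haveI := ht; haveI := hiP; haveI := hlP; haveI := hqP; haveI := hcP
    obtain ⟨g, hg⟩ := hMmax P iP ((KerAntiAffine.bijective_iff P).mpr hO)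
    refine gen j ?_
    haveI := surjective_of_isProper iP hker hO q
    rw [← hg, Category.assoc, Over.comp_left] at this
    haveI := this
    exact Surjective.of_comp g.left (j ≫ q).left
  · intro H _ h _ _ hsur
    haveI : LocallyOfFiniteType H.hom := by rw [← Over.w h]; infer_instance
    haveI : QuasiCompact H.hom := by rw [← Over.w h]; infer_instance
    haveI : LocallyOfFiniteType N.hom := by rw [← Over.w i]; infer_instance
    have hiq : i ≫ q = 1 := by simpa using comp_isKernel hq (𝟙 N)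
    haveI : Surjective (h ≫ q).left := by
      haveI : Surjective (((h ⊗ₘ i) ≫ μ[G]) ≫ q).left := by rw [Over.comp_left]; infer_instance
      have e : ((h ⊗ₘ i) ≫ μ[G]) ≫ q = fst H N ≫ h ≫ q := by
        rw [show (h ⊗ₘ i) ≫ μ[G] = (fst H N ≫ h) * (snd H N ≫ i) by rw [Hom.mul_def]; congr 1, MonObj.mul_comp,
          Category.assoc (snd H N), hiq, MonObj.comp_one, _root_.mul_one, Category.assoc]
      rw [e, Over.comp_left] at this
      exact Surjective.of_comp (fst H N).left (h ≫ q).left
    obtain ⟨hA, P, hP, iP, ht, -, -, -, hiP, hcP, hlP, hqP, hker, hO⟩ := KerAntiAffine.exists_antiAffineKernel H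
    letI := hA; letI := hP
    haveI := ht; haveI := hiP; haveI := hlP; haveI := hqP; haveI := hcP
    haveI : Surjective ((iP ≫ h) ≫ q).left := by
      have := surjective_of_isProper iP hker hO (h ≫ q)
      rwa [Category.assoc]
    haveI hgen : Surjective ((i ⊗ₘ (iP ≫ h)) ≫ μ[G]).left := gen _ ‹_›
    haveI : IsClosedImmersion (iP ≫ h).left := by rw [Over.comp_left]; infer_instance
    have hn : AlgGrp.IsNormalHom (iP ≫ h) := fun T a n => ⟨n, by
      have hc := Rigidity.comm_of_connected ((KerAntiAffine.bijective_iff P).mpr hO) (iP ≫ h) n a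
      rw [← hc, mul_inv_cancel_right]⟩
    obtain ⟨R, hR, r, hr, -, hRl, -, hrs, hrf, hrp, hrk⟩ := GrpQuotLib.exists_quotientGrp_field P G (iP ≫ h) hn
    letI := hR
    haveI := hr; haveI := hRl; haveI := hrs
    have hPr : (iP ≫ h) ≫ r = 1 := by simpa using comp_isKernel hrk (𝟙 P)
    haveI : Surjective (i ≫ r).left := by
      haveI : Surjective (((i ⊗ₘ (iP ≫ h)) ≫ μ[G]) ≫ r).left := by rw [Over.comp_left]; infer_instance
      have e : ((i ⊗ₘ (iP ≫ h)) ≫ μ[G]) ≫ r = fst N P ≫ i ≫ r := by
        rw [show (i ⊗ₘ (iP ≫ h)) ≫ μ[G] = (fst N P ≫ i) * (snd N P ≫ iP ≫ h) by rw [Hom.mul_def]; congr 1,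
          MonObj.mul_comp, Category.assoc (snd N P), hPr, MonObj.comp_one, _root_.mul_one, Category.assoc]
      rw [e, Over.comp_left] at this
      exact Surjective.of_comp (fst N P).left (i ≫ r).left
    haveI : IsAffine R.left := ProjActLib.isAffine_of_hom N R (i ≫ r)
    obtain ⟨z, hz⟩ := exists_of_isKernel hrk j (eq_one_of_antiAffine ((KerAntiAffine.bijective_iff M).mp hM) _)
    exact ⟨z ≫ iP, by rw [Category.assoc, hz]⟩

/-- The anti-affine part of a quotient is the image of the anti-affine part. -/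
theorem range_part_quotient
    (N : Over (Spec (CommRingCat.of k))) [GrpObj N] (i : N ⟶ G) [IsMonHom i] [IsClosedImmersion i.left]
    (hN : AlgGrp.IsNormalHom i)
    (Q : Over (Spec (CommRingCat.of k))) [GrpObj Q] [LocallyOfFiniteType Q.hom] [QuasiCompact Q.hom]
    (q : G ⟶ Q) [IsMonHom q] [Surjective q.left] [Flat q.left] (hq : AlgGrp.IsKernel i q)
    (M : Over (Spec (CommRingCat.of k))) [GrpObj M] [LocallyOfFiniteType M.hom] [QuasiCompact M.hom] (j : M ⟶ G)
    [IsMonHom j] [IsClosedImmersion j.left]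
    (hM : Function.Bijective ((Scheme.ΓSpecIso (CommRingCat.of k)).inv ≫ M.hom.appTop).hom)
    (hMmax : ∀ (M₁ : Over (Spec (CommRingCat.of k))) [GrpObj M₁] [LocallyOfFiniteType M₁.hom] [QuasiCompact M₁.hom]
      (j₁ : M₁ ⟶ G) [IsMonHom j₁] [IsClosedImmersion j₁.left],
      Function.Bijective ((Scheme.ΓSpecIso (CommRingCat.of k)).inv ≫ M₁.hom.appTop).hom → ∃ g : M₁ ⟶ M, g ≫ j = j₁)
    (M' : Over (Spec (CommRingCat.of k))) [GrpObj M'] [LocallyOfFiniteType M'.hom] [QuasiCompact M'.hom]
    (j' : M' ⟶ Q) [IsMonHom j'] [IsClosedImmersion j'.left]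
    (hM' : Function.Bijective ((Scheme.ΓSpecIso (CommRingCat.of k)).inv ≫ M'.hom.appTop).hom)
    (hM'max : ∀ (M₁ : Over (Spec (CommRingCat.of k))) [GrpObj M₁] [LocallyOfFiniteType M₁.hom] [QuasiCompact M₁.hom]
      (j₁ : M₁ ⟶ Q) [IsMonHom j₁] [IsClosedImmersion j₁.left],
      Function.Bijective ((Scheme.ΓSpecIso (CommRingCat.of k)).inv ≫ M₁.hom.appTop).hom → ∃ g : M₁ ⟶ M', g ≫ j' = j₁) :
    Set.range ⇑(j ≫ q).left.base = Set.range ⇑j'.left.base := by
  apply Set.Subset.antisymm
  · haveI : IsSeparated Q.hom := GrpSchLib.isSeparated_hom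
    haveI : QuasiCompact (j ≫ q).left := by
      haveI : QuasiCompact ((j ≫ q).left ≫ Q.hom) := by rw [Over.w]; infer_instance
      exact QuasiCompact.of_comp (j ≫ q).left Q.hom
    obtain ⟨K, hK, κ, g, hκ, hκc, -, hgκ, hgd, hgq, -⟩ := exists_schemeImage (j ≫ q)
    letI := hK
    haveI := hκ; haveI := hκc; haveI := hgd; haveI := hgq
    haveI : LocallyOfFiniteType K.hom := by rw [← Over.w κ]; infer_instance
    haveI : QuasiCompact K.hom := by rw [← Over.w κ]; infer_instance
    obtain ⟨z, hz⟩ := hM'max K κ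
      ((KerAntiAffine.bijective_iff K).mpr (isIso_appTop_image g ((KerAntiAffine.bijective_iff M).mp hM)))
    rintro _ ⟨x, rfl⟩
    refine ⟨(g ≫ z).left x, ?_⟩
    rw [← Scheme.Hom.comp_apply, ← Over.comp_left, Category.assoc, hz, hgκ]
  · haveI : LocallyOfFiniteType N.hom := by rw [← Over.w i]; infer_instance
    haveI : QuasiCompact N.hom := by rw [← Over.w i]; infer_instance
    obtain ⟨hA, P, hP, iP, ht, htf, hts, htl, hiP, hcP, hlP, hqP, hker, hO⟩ :=
      KerAntiAffine.exists_antiAffineKernel G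
    letI := hA; letI := hP
    haveI := ht; haveI := hiP; haveI := hlP; haveI := hqP; haveI := hcP; haveI := htl; haveI := hts; haveI := htf
    let t := Affinization.toAff G
    haveI hAa : IsAffine (Affinization.aff G).left := inferInstanceAs (IsAffine (Spec Γ(G.left, ⊤)))
    haveI : CompactSpace G.left := QuasiCompact.compactSpace_of_compactSpace G.hom
    haveI : IsSchemeTheoreticallyDominant t.left := ⟨Scheme.ker_toSpecΓ G.left⟩
    haveI : QuasiCompact t.left := by
      haveI : QuasiCompact (t.left ≫ (Affinization.aff G).hom) := by rw [Over.w]; infer_instance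
      exact QuasiCompact.of_comp t.left (Affinization.aff G).hom
    haveI : QuasiCompact (Affinization.aff G).hom :=
      (quasiCompact_iff_compactSpace (Affinization.aff G).hom).mpr inferInstance
    haveI : QuasiCompact (i ≫ t).left := by rw [Over.comp_left]; infer_instance
    obtain ⟨C, hC, c, gC, hc, hcc, -, hgc, hgd, hgq, hgs⟩ := exists_schemeImage (i ≫ t)
    letI := hC
    haveI := hc; haveI := hcc; haveI := hgd; haveI := hgq; haveI := hgs
    have hCn : AlgGrp.IsNormalHom c := by
      let d : Affinization.aff G ⊗ C ⟶ Affinization.aff G :=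
        fst _ C * (snd _ C ≫ c) * (fst _ C)⁻¹
      obtain ⟨n', hn'⟩ := hN (G ⊗ N) (fst G N) (snd G N)
      haveI := (SchemeImage.whiskerLeft_dominant (Affinization.aff G) gC).1
      haveI : IsSchemeTheoreticallyDominant (t ▷ N).left ∧ QuasiCompact (t ▷ N).left := by
        obtain ⟨h1, h2⟩ := SchemeImage.whiskerLeft_dominant N t
        haveI := h1; haveI := h2
        haveI : IsIso (β_ G N).hom.left := ((Over.forget _).mapIso (β_ G N)).isIso_hom
        haveI : IsIso (β_ N (Affinization.aff G)).hom.left :=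
          ((Over.forget _).mapIso (β_ N (Affinization.aff G))).isIso_hom
        rw [show t ▷ N = (β_ G N).hom ≫ (N ◁ t) ≫ (β_ N (Affinization.aff G)).hom by
          apply CartesianMonoidalCategory.hom_ext <;> simp]
        simp only [Over.comp_left]
        exact ⟨inferInstance, inferInstance⟩
      haveI := this.1
      haveI : IsSchemeTheoreticallyDominant ((t ▷ N) ≫ (Affinization.aff G ◁ gC)).left := by
        rw [Over.comp_left]; infer_instance
      have hd : (n' ≫ gC) ≫ c = ((t ▷ N) ≫ (Affinization.aff G ◁ gC)) ≫ d := by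
        rw [Category.assoc, hgc, ← Category.assoc, ← hn', Category.assoc]
        simp only [d, MonObj.comp_mul, MonObj.mul_comp, GrpObj.comp_inv, GrpObj.inv_comp, whiskerLeft_fst,
          whiskerLeft_snd_assoc, whiskerRight_fst, whiskerRight_snd_assoc, hgc, Category.assoc]
      obtain ⟨d', hd'⟩ := SchemeImage.exists_lift_of_dominant ((t ▷ N) ≫ (Affinization.aff G ◁ gC)).left d.left
        c.left (n' ≫ gC).left (congrArg CommaMorphism.left hd)
      let D : Affinization.aff G ⊗ C ⟶ C := Over.homMk d' (by rw [← Over.w c, ← Category.assoc, hd', Over.w])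
      have hD : D ≫ c = d := Over.OverMorphism.ext hd'
      intro T a n
      refine ⟨lift a n ≫ D, ?_⟩
      rw [Category.assoc, hD]
      simp [d, MonObj.comp_mul, GrpObj.comp_inv]
    obtain ⟨B, hB, p, hp, -, hBl, -, hps, hpf, hpp, hpk⟩ :=
      GrpQuotLib.exists_quotientGrp_field C (Affinization.aff G) c hCn
    letI := hB
    haveI := hp; haveI := hBl; haveI := hps
    haveI : IsAffine B.left := ProjActLib.isAffine_of_hom (Affinization.aff G) B p
    haveI : LocallyOfFinitePresentation q.left := KernelFibre.locallyOfFinitePresentation_left q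
    haveI : SchDesc.IsFpqc q.left := SchDesc.IsFpqc.of_locallyOfFinitePresentation _
    have hit : i ≫ t ≫ p = 1 := by
      rw [← Category.assoc, ← hgc]
      exact comp_isKernel hpk gC
    obtain ⟨g, hg⟩ := GrpQuotLib.exists_desc q (t ≫ p) fun T a b hab => by
      obtain ⟨n, hn⟩ := exists_of_isKernel hq (a⁻¹ * b)
        (by rw [MonObj.mul_comp, GrpObj.inv_comp, hab, inv_mul_cancel])
      have h2 : (a⁻¹ * b) ≫ t ≫ p = 1 := by rw [← hn, Category.assoc, hit, MonObj.comp_one]
      rw [MonObj.mul_comp, GrpObj.inv_comp, inv_mul_eq_one] at h2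
      exact h2
    haveI : Epi q := GrpQuotLib.epi_of_isFpqc q
    haveI : IsMonHom g := by
      haveI : Epi (q ⊗ₘ q) := by
        haveI := GrpQuotLib.isFpqc_whiskerRight q G
        haveI := GrpQuotLib.isFpqc_whiskerLeft q Q
        haveI := GrpQuotLib.epi_of_isFpqc (q ▷ G)
        haveI := GrpQuotLib.epi_of_isFpqc (Q ◁ q)
        rw [MonoidalCategory.tensorHom_def]
        exact epi_comp _ _
      refine ⟨?_, ?_⟩
      · rw [← IsMonHom.one_hom q, Category.assoc, hg, IsMonHom.one_hom]
      · rw [← cancel_epi (q ⊗ₘ q), ← Category.assoc, ← IsMonHom.mul_hom, Category.assoc, hg, IsMonHom.mul_hom,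
          ← Category.assoc, tensorHom_comp_tensorHom, hg]
    have hjg : j' ≫ g = 1 := eq_one_of_antiAffine ((KerAntiAffine.bijective_iff M').mp hM') _
    obtain ⟨gP, hgP⟩ := hMmax P iP ((KerAntiAffine.bijective_iff P).mpr hO)
    rintro _ ⟨y, rfl⟩
    obtain ⟨T, a, v, s, hs, he⟩ := GrpSchLib.exists_lift j' q y (q.left.surjective _)
    obtain ⟨z, hz⟩ := exists_of_isKernel hpk (v ≫ t) (by
      rw [Category.assoc, ← hg, ← Category.assoc, ← he, Category.assoc, hjg, MonObj.comp_one])
    obtain ⟨T', b, n, s', hs', he'⟩ := GrpSchLib.exists_lift z gC s (gC.left.surjective _)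
    obtain ⟨m, hm⟩ := exists_of_isKernel hker ((b ≫ v) * (n ≫ i)⁻¹) (by
      have e : (b ≫ v) ≫ t = (n ≫ i) ≫ t := by
        rw [Category.assoc, ← hz, ← Category.assoc, he', Category.assoc, hgc, ← Category.assoc]
      rw [MonObj.mul_comp, GrpObj.inv_comp, e, mul_inv_cancel])
    refine ⟨(m ≫ gP).left s', ?_⟩
    have e2 : (m ≫ gP) ≫ j ≫ q = b ≫ a ≫ j' := by
      rw [Category.assoc, ← Category.assoc gP, hgP, ← Category.assoc, hm, MonObj.mul_comp, GrpObj.inv_comp,
        comp_isKernel hq n, inv_one, _root_.mul_one, Category.assoc, he]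
    rw [← Scheme.Hom.comp_apply, ← Over.comp_left, e2]
    simp only [Over.comp_left, Scheme.Hom.comp_apply]
    rw [hs', hs]

/-- An algebraic group is affine if the centre of an open connected subgroup is. -/
theorem isAffine_of_centre {G₀ Z : Over (Spec (CommRingCat.of k))} [GrpObj G₀] [GrpObj Z]
    [LocallyOfFiniteType G₀.hom] [QuasiCompact G₀.hom] [LocallyOfFiniteType Z.hom]
    (i₀ : G₀ ⟶ G) [IsMonHom i₀] [IsOpenImmersion i₀.left] [ConnectedSpace G₀.left]
    (z : Z ⟶ G₀) (hZ : Red.IsCentre z) [IsAffine Z.left] : IsAffine G.left := by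
  obtain ⟨Z₁, hZ₁g, j, Q, hQ, p, hj, hjc, hZ₁, hp, hQa, hQl, hpf, hps, hpp, hpk⟩ :=
    CentreQuot.exists_centre_quotient (G := G₀)
  letI := hZ₁g; letI := hQ
  haveI := hp; haveI := hQl; haveI := hpf; haveI := hps; haveI := hjc; haveI := hQa
  haveI : IsAffine G₀.left := by
    haveI : IsAffine Z₁.left := by
      obtain ⟨a, ha⟩ := (CentreQuot.central_iff hZ j).mpr ((hZ₁ _ _).mp ⟨𝟙 Z₁, Category.id_comp _⟩)
      obtain ⟨b, hb⟩ := (hZ₁ _ _).mpr ((CentreQuot.central_iff hZ z).mp ⟨𝟙 Z, Category.id_comp _⟩)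
      haveI : Mono z := hZ.2.1
      haveI : Mono j := Over.mono_of_mono_left j
      let e : Z₁ ≅ Z :=
        { hom := a
          inv := b
          hom_inv_id := by rw [← cancel_mono j, Category.assoc, hb, ha, Category.id_comp]
          inv_hom_id := by rw [← cancel_mono z, Category.assoc, ha, hb, Category.id_comp] }
      haveI : IsIso e.hom.left := ((Over.forget _).mapIso e).isIso_hom
      exact .of_isIso e.hom.left
    haveI : IsAffineHom Z₁.hom := inferInstance
    haveI := FpqcDesc.isAffineHom_descends.{u}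
    haveI : IsAffineHom p.left := KernelFibre.of_kernel p j @IsAffineHom hpk ‹_›
    exact isAffine_of_isAffineHom p.left
  obtain ⟨hA, P, hP, iP, ht, -, -, -, hiP, hcP, hlP, hqP, hker, hO⟩ := KerAntiAffine.exists_antiAffineKernel G
  letI := hA; letI := hP
  haveI := ht; haveI := hiP; haveI := hlP; haveI := hqP; haveI := hcP
  haveI : ConnectedSpace P.left := AntiAffine.connectedSpace ((KerAntiAffine.bijective_iff P).mpr hO)
  have hsub := range_subset_of_connected iP i₀
  let l : P.left ⟶ G₀.left := IsOpenImmersion.lift i₀.left iP.left hsub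
  haveI : IsClosedImmersion l := by
    haveI : IsClosedImmersion (l ≫ i₀.left) := by rw [IsOpenImmersion.lift_fac]; infer_instance
    exact IsClosedImmersion.of_comp l i₀.left
  haveI : IsAffine P.left := isAffine_of_isAffineHom l
  exact isAffine_of_isAffine_part iP hker

end Groth.Agent.MonoFibre.AntiAffineApps
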