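import Mathlib
import Groth.Agent.MonoFibre.AffinizationFlat
import Groth.Agent.GrpSchLib.FinitePoints
import Groth.Agent.S0252

/-! For a proper group over a field, the kernel of the affinization is set-theoretically the neutral component. -/

set_option autoImplicit false
universe u

open CategoryTheory CategoryTheory.Limits MonoidalCategory CartesianMonoidalCategory MonObj AlgebraicGeometry

namespace Groth.Agent.MonoFibre.Affinization

variable {k : Type u} [Field k] (G : Over (Spec (CommRingCat.of k))) [GrpObj G] [IsProper G.hom]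

/-- The affinization of a proper group over a field is discrete. -/
theorem discreteTopology_aff : DiscreteTopology (PrimeSpectrum Γ(G.left, ⊤)) := by
  have hlft := (toSpecΓ_props G).2.2
  haveI := (toSpecΓ_props G).1
  haveI : UniversallyClosed (G.left.toSpecΓ ≫ (aff G).hom) := by
    rw [show G.left.toSpecΓ ≫ (aff G).hom = G.hom from Over.w (toAff G)]; infer_instance
  haveI : UniversallyClosed (aff G).hom := UniversallyClosed.of_comp_surjective G.left.toSpecΓ (aff G).hom
  haveI : LocallyOfFiniteType (aff G).hom := hlft
  haveI : IsAffineHom (aff G).hom := by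
    show IsAffineHom (Spec.map G.hom.appTop ≫ (Spec (CommRingCat.of k)).isoSpec.inv); infer_instance
  haveI : IsIntegralHom (aff G).hom :=
    IsIntegralHom.iff_universallyClosed_and_isAffineHom.mpr ⟨inferInstance, inferInstance⟩
  haveI hfin : IsFinite (aff G).hom := (IsFinite.iff_isIntegralHom_and_locallyOfFiniteType _).mpr ⟨inferInstance, inferInstance⟩
  have h : IsFinite (Spec.map G.hom.appTop) := by
    have : IsFinite ((aff G).hom ≫ (Spec (CommRingCat.of k)).isoSpec.hom) := inferInstance
    rwa [show (aff G).hom ≫ (Spec (CommRingCat.of k)).isoSpec.hom = Spec.map G.hom.appTop by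
      show (Spec.map G.hom.appTop ≫ (Spec (CommRingCat.of k)).isoSpec.inv) ≫ _ = _
      exact (Category.assoc _ _ _).trans ((congrArg (Spec.map G.hom.appTop ≫ ·)
        (Spec (CommRingCat.of k)).isoSpec.inv_hom_id).trans (Category.comp_id _))] at this
  rw [IsFinite.SpecMap_iff] at h
  have hf : IsField Γ(Spec (CommRingCat.of k), ⊤) :=
    MulEquiv.isField (Field.toIsField k) (Scheme.ΓSpecIso (CommRingCat.of k)).commRingCatIsoToRingEquiv.toMulEquiv
  let := hf.toField
  algebraize [G.hom.appTop.hom]
  haveI : Module.Finite Γ(Spec (CommRingCat.of k), ⊤) Γ(G.left, ⊤) := h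
  haveI : IsArtinianRing Γ(G.left, ⊤) := IsArtinianRing.of_finite Γ(Spec (CommRingCat.of k), ⊤) _
  infer_instance

theorem range_fst_eq_connectedComponent (t : ↥((𝟙_ (Over (Spec (CommRingCat.of k)))).left)) :
    Set.range ⇑(pullback.fst G.left.toSpecΓ (η[G].left ≫ G.left.toSpecΓ)).base =
      connectedComponent ((η[G]).left.base t) := by
  haveI := discreteTopology_aff G
  haveI : Subsingleton ↥(𝟙_ (Over (Spec (CommRingCat.of k)))).left :=
    inferInstanceAs (Subsingleton (Spec (CommRingCat.of k)))
  let e := η[G].left t
  have hr : Set.range ⇑(pullback.fst G.left.toSpecΓ (η[G].left ≫ G.left.toSpecΓ)).base =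
      G.left.toSpecΓ ⁻¹' {G.left.toSpecΓ e} := by
    rw [Scheme.Pullback.range_fst]
    congr 1
    ext y
    constructor
    · rintro ⟨s, rfl⟩
      rw [Subsingleton.elim s t]
      rfl
    · rintro rfl
      exact ⟨t, rfl⟩
  rw [hr]
  refine Set.Subset.antisymm ?_ ?_
  · intro x hx
    have hC : IsClopen (connectedComponent e) :=
      ⟨isClosed_connectedComponent, by
        rw [GrpSchLib.connectedComponent_eq]; exact GrpSchLib.isOpen_irreducibleComponent _⟩
    obtain ⟨ε, -, hε⟩ := S0252.exists_idem hC
    have he : e ∈ G.left.basicOpen ε := by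
      show e ∈ (G.left.basicOpen ε : Set G.left); rw [hε]; exact mem_connectedComponent
    rw [← Scheme.toSpecΓ_preimage_basicOpen] at he
    have : x ∈ G.left.basicOpen ε := by
      rw [← Scheme.toSpecΓ_preimage_basicOpen]
      show G.left.toSpecΓ x ∈ PrimeSpectrum.basicOpen ε
      rw [show G.left.toSpecΓ x = G.left.toSpecΓ e from hx]
      exact he
    have hx' : x ∈ (G.left.basicOpen ε : Set G.left) := this
    rwa [hε] at hx'
  · have hcl : IsClopen (G.left.toSpecΓ ⁻¹' {G.left.toSpecΓ e}) :=
      (isClopen_discrete (X := PrimeSpectrum Γ(G.left, ⊤)) {G.left.toSpecΓ e}).preimage G.left.toSpecΓ.continuous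
    exact hcl.connectedComponent_subset rfl

end Groth.Agent.MonoFibre.Affinization
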