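import Mathlib
import Groth.Agent.MonoFibre.AntiAffineApps
import Groth.Prelude.Def_Red

/-! Permanence properties of anti-affine groups. -/

set_option autoImplicit false
universe u

open CategoryTheory CategoryTheory.Limits MonoidalCategory CartesianMonoidalCategory MonObj GrpObj AlgebraicGeometry

namespace Groth.Agent.MonoFibre.AntiAffineBasic

open AntiAffinePart AntiAffineApps

variable {k : Type u} [Field k]

/-- The kernel of the affinization map as a fibre product of schemes. -/
theorem exists_kernel_iso (G : Over (Spec (CommRingCat.of k))) [GrpObj G] [LocallyOfFiniteType G.hom]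
    [QuasiCompact G.hom] :
    ∃ (_ : GrpObj (Affinization.aff G)) (N : Over (Spec (CommRingCat.of k))) (_ : GrpObj N) (i : N ⟶ G),
      IsMonHom (Affinization.toAff G) ∧ IsMonHom i ∧ IsClosedImmersion i.left ∧ LocallyOfFiniteType N.hom ∧
      QuasiCompact N.hom ∧ AlgGrp.IsKernel i (Affinization.toAff G) ∧ IsIso N.hom.appTop ∧
      ∃ e : N.left ≅ pullback G.left.toSpecΓ (η[G].left ≫ G.left.toSpecΓ),
        e.hom ≫ pullback.fst G.left.toSpecΓ (η[G].left ≫ G.left.toSpecΓ) = i.left := by
  obtain ⟨hA, N, hN, i, ht, -, -, -, hi, hc, hNl, hNq, hker, hO⟩ := KerAntiAffine.exists_antiAffineKernel G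
  letI := hA
  letI := hN
  haveI := ht
  refine ⟨hA, N, hN, i, ht, hi, hc, hNl, hNq, hker, hO, ?_⟩
  have hη : (η[Affinization.aff G]).left = η[G].left ≫ G.left.toSpecΓ := by
    rw [← IsMonHom.one_hom (Affinization.toAff G), Over.comp_left]
    rfl
  have P : IsPullback i.left (toUnit N).left G.left.toSpecΓ (η[G].left ≫ G.left.toSpecΓ) := by
    rw [← hη]
    exact IsPullback.map (Over.forget _) hker
  exact ⟨P.isoPullback, P.isoPullback_hom_fst⟩

/-- Anti-affineness passes to flat surjective images. -/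
theorem isIso_appTop_of_surjective {G X : Over (Spec (CommRingCat.of k))} (p : G ⟶ X) [Surjective p.left]
    [Flat p.left] (h : IsIso G.hom.appTop) : IsIso X.hom.appTop := by
  have hi := GrpQuotLib.appTop_injective p.left
  have hb := (ConcreteCategory.isIso_iff_bijective G.hom.appTop).mp h
  rw [show G.hom.appTop = X.hom.appTop ≫ p.left.appTop by rw [← Scheme.Hom.comp_appTop, Over.w p]] at hb
  refine (ConcreteCategory.isIso_iff_bijective _).mpr ⟨fun a b hab => hb.1 (congrArg p.left.appTop.hom hab),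
    fun y => ?_⟩
  obtain ⟨c, hc⟩ := hb.2 (p.left.appTop.hom y)
  exact ⟨c, hi hc⟩

theorem isIso_hom_of_affine {X : Over (Spec (CommRingCat.of k))} [IsAffine X.left] (h : IsIso X.hom.appTop) :
    IsIso X.hom := by
  haveI := h
  exact (MorphismProperty.arrow_mk_iso_iff (MorphismProperty.isomorphisms Scheme.{u})
    (arrowIsoSpecΓOfIsAffine X.hom)).mpr (inferInstanceAs (IsIso (Spec.map X.hom.appTop)))

/-- An extension of anti-affine groups is anti-affine. -/
theorem isIso_appTop_of_extension (G₁ G G₂ : Over (Spec (CommRingCat.of k))) [GrpObj G₁] [GrpObj G] [GrpObj G₂]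
    [LocallyOfFiniteType G.hom] [QuasiCompact G.hom] [LocallyOfFiniteType G₂.hom]
    (i : G₁ ⟶ G) [IsMonHom i] (q : G ⟶ G₂) [IsMonHom q] [Surjective q.left] [Flat q.left]
    (hex : AlgGrp.IsKernel i q) (h1 : IsIso G₁.hom.appTop) (h2 : IsIso G₂.hom.appTop) : IsIso G.hom.appTop := by
  haveI : IsAffine (Affinization.aff G).left := inferInstanceAs (IsAffine (Spec Γ(G.left, ⊤)))
  obtain ⟨hA, hmon⟩ := Affinization.exists_grpObj (Affinization.toAff G) (Affinization.isAffz_toAff G)
  letI := hA
  haveI := hmon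
  let t := Affinization.toAff G
  haveI : LocallyOfFinitePresentation q.left := KernelFibre.locallyOfFinitePresentation_left q
  haveI : SchDesc.IsFpqc q.left := SchDesc.IsFpqc.of_locallyOfFinitePresentation _
  have hit : i ≫ t = 1 := eq_one_of_antiAffine h1 _
  obtain ⟨g, hg⟩ := GrpQuotLib.exists_desc q t fun T a b hab => by
    obtain ⟨n, hn⟩ := exists_of_isKernel hex (a⁻¹ * b)
      (by rw [MonObj.mul_comp, GrpObj.inv_comp, hab, inv_mul_cancel])
    have h2 : (a⁻¹ * b) ≫ t = 1 := by rw [← hn, Category.assoc, hit, MonObj.comp_one]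
    rw [MonObj.mul_comp, GrpObj.inv_comp, inv_mul_eq_one] at h2
    exact h2
  obtain ⟨g', hg'⟩ := (AntiAffine.isAffz_toUnit ((KerAntiAffine.bijective_iff G₂).mpr h2)).exists_lift g
  have hg1 : g' = η[Affinization.aff G] := by
    have e : η[G] ≫ t = η[Affinization.aff G] := IsMonHom.one_hom t
    rw [← hg, ← hg', ← Category.assoc q, ← Category.assoc, toUnit_unique (η[G] ≫ q ≫ toUnit G₂) (𝟙 _),
      Category.id_comp] at e
    exact e
  have hid : 𝟙 (Affinization.aff G) = toUnit _ ≫ η[Affinization.aff G] := by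
    refine (Affinization.isAffz_toAff G).hom_ext ?_
    show t ≫ 𝟙 _ = t ≫ toUnit _ ≫ η[Affinization.aff G]
    rw [Category.comp_id, ← Category.assoc, toUnit_unique (t ≫ toUnit _) (q ≫ toUnit G₂), ← hg1, Category.assoc,
      hg', hg]
  haveI : IsIso (toUnit (Affinization.aff G)) := ⟨η[Affinization.aff G], hid.symm, toUnit_unique _ _⟩
  haveI : IsIso (Affinization.aff G).hom := by
    have := ((Over.forget _).mapIso (asIso (toUnit (Affinization.aff G)))).isIso_hom
    exact this
  haveI : IsIso (Affinization.aff G).hom.appTop := inferInstanceAs (IsIso (Scheme.Γ.map (Affinization.aff G).hom.op))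
  haveI := (Affinization.isAffz_toAff G).iso
  rw [show G.hom.appTop = (Affinization.aff G).hom.appTop ≫ t.left.appTop by rw [← Scheme.Hom.comp_appTop, Over.w t]]
  infer_instance

theorem bijective_prod_iff (G₁ G₂ : Over (Spec (CommRingCat.of k))) [GrpObj G₁] [GrpObj G₂]
    [LocallyOfFiniteType G₁.hom] [QuasiCompact G₁.hom] [LocallyOfFiniteType G₂.hom] [QuasiCompact G₂.hom] :
    IsIso (G₁ ⊗ G₂).hom.appTop ↔ IsIso G₁.hom.appTop ∧ IsIso G₂.hom.appTop := by
  constructor
  · intro h
    have key : ∀ {X P : Over (Spec (CommRingCat.of k))} (p : P ⟶ X) (s : X ⟶ P), s ≫ p = 𝟙 X →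
        IsIso P.hom.appTop → IsIso X.hom.appTop := by
      intro X P p s hs hP
      haveI := hP
      have e1 : X.hom.appTop ≫ p.left.appTop = P.hom.appTop := by rw [← Scheme.Hom.comp_appTop, Over.w p]
      have e2 : p.left.appTop ≫ s.left.appTop = 𝟙 _ := by
        rw [← Scheme.Hom.comp_appTop, ← Over.comp_left, hs, Over.id_left, Scheme.Hom.id_appTop]
      refine ⟨p.left.appTop ≫ inv P.hom.appTop, by rw [← Category.assoc, e1, IsIso.hom_inv_id], ?_⟩
      have e3 : p.left.appTop = p.left.appTop ≫ inv P.hom.appTop ≫ X.hom.appTop ≫ p.left.appTop := by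
        rw [e1, IsIso.inv_hom_id, Category.comp_id]
      have e4 := congrArg (· ≫ s.left.appTop) e3
      simp only [Category.assoc, e2, Category.comp_id] at e4
      rw [Category.assoc, ← e4]
    exact ⟨key (fst G₁ G₂) (lift (𝟙 G₁) 1) (lift_fst _ _) h, key (snd G₁ G₂) (lift 1 (𝟙 G₂)) (lift_snd _ _) h⟩
  · rintro ⟨h1, h2⟩
    haveI := h1
    haveI := h2
    haveI : IsSeparated G₁.hom := GrpSchLib.isSeparated_hom
    haveI : IsSeparated G₂.hom := GrpSchLib.isSeparated_hom
    haveI : CompactSpace G₁.left := QuasiCompact.compactSpace_of_compactSpace G₁.hom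
    haveI : CompactSpace G₂.left := QuasiCompact.compactSpace_of_compactSpace G₂.hom
    haveI : QuasiSeparatedSpace G₁.left := quasiSeparatedSpace_of_quasiSeparated G₁.hom
    haveI : QuasiSeparatedSpace G₂.left := quasiSeparatedSpace_of_quasiSeparated G₂.hom
    haveI : Flat G₂.hom := Rigidity.flat_hom G₂
    haveI : IsIso (snd G₁ G₂).left.appTop :=
      KerAntiAffine.isIso_appTop_of_isPullback (IsPullback.of_hasPullback G₁.hom G₂.hom)
    rw [show (G₁ ⊗ G₂).hom.appTop = G₂.hom.appTop ≫ (snd G₁ G₂).left.appTop by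
      rw [← Scheme.Hom.comp_appTop, Over.w (snd G₁ G₂)]]
    infer_instance

/-- Anti-affineness is invariant under field extensions. -/
theorem isIso_appTop_iff_baseChange {K : Type u} [Field K] (f : Spec (CommRingCat.of K) ⟶ Spec (CommRingCat.of k))
    (X : Over (Spec (CommRingCat.of k))) [Nonempty X.left] [QuasiCompact X.hom] [QuasiSeparated X.hom] :
    IsIso X.hom.appTop ↔ IsIso (pullback.snd X.hom f).appTop := by
  haveI : CompactSpace X.left := QuasiCompact.compactSpace_of_compactSpace X.hom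
  haveI : QuasiSeparatedSpace X.left := quasiSeparatedSpace_of_quasiSeparated X.hom
  haveI : Flat f := flat_to_field (Field.toIsField k) f
  refine ⟨fun h => by haveI := h; exact KerAntiAffine.isIso_appTop_of_isPullback (IsPullback.of_hasPullback X.hom f),
    fun h => ?_⟩
  haveI := h
  have H : IsPullback (pullback.fst X.hom f) (pullback.snd X.hom f) X.hom f := IsPullback.of_hasPullback X.hom f
  have hflat : ∀ (Z : Scheme.{u}) (g : Z ⟶ Spec (CommRingCat.of k)), g.appTop.hom.Flat := fun Z g => by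
    have hf : IsField Γ(Spec (CommRingCat.of k), ⊤) :=
      MulEquiv.isField (Field.toIsField k) (Scheme.ΓSpecIso (CommRingCat.of k)).commRingCatIsoToRingEquiv.toMulEquiv
    let := hf.toField
    algebraize [g.appTop.hom]
    exact RingHom.flat_algebraMap_iff.mpr inferInstance
  have hpo := (isIso_pushoutSection_iff (US := ⊤) (UT := ⊤) (UX := ⊤) (UY := ⊤) H (by simp) (by simp)
      (by simp)).mp
    (isIso_pushoutSection_of_isCompact_of_flat_right_of_ringHomFlat H _ _ _ (isAffineOpen_top _)
      isCompact_univ isQuasiSeparated_univ isCompact_univ isQuasiSeparated_univ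
      (by simpa [Scheme.Hom.appLE, Scheme.Hom.appTop] using hflat _ X.hom))
  have hpo' : IsPushout X.hom.appTop f.appTop (pullback.fst X.hom f).appTop (pullback.snd X.hom f).appTop := by
    simpa [Scheme.Hom.appLE, Scheme.Hom.appTop] using hpo
  have hF : IsField Γ(Spec (CommRingCat.of k), ⊤) :=
    MulEquiv.isField (Field.toIsField k) (Scheme.ΓSpecIso (CommRingCat.of k)).commRingCatIsoToRingEquiv.toMulEquiv
  have hFK : IsField Γ(Spec (CommRingCat.of K), ⊤) :=
    MulEquiv.isField (Field.toIsField K) (Scheme.ΓSpecIso (CommRingCat.of K)).commRingCatIsoToRingEquiv.toMulEquiv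
  let := hF.toField
  haveI : Nontrivial Γ(Spec (CommRingCat.of K), ⊤) := hFK.nontrivial
  haveI : Nontrivial Γ(X.left, ⊤) := @Scheme.component_nontrivial X.left ⊤ ⟨⟨Classical.arbitrary X.left, trivial⟩⟩
  algebraize [X.hom.appTop.hom, f.appTop.hom]
  have hT := (CommRingCat.isPushout_tensorProduct Γ(Spec (CommRingCat.of k), ⊤) Γ(X.left, ⊤)
    Γ(Spec (CommRingCat.of K), ⊤))
  have hinr : IsIso (CommRingCat.ofHom (Algebra.TensorProduct.includeRight
      (R := Γ(Spec (CommRingCat.of k), ⊤)) (A := Γ(X.left, ⊤)) (B := Γ(Spec (CommRingCat.of K), ⊤))).toRingHom) := by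
    have e := hpo'.inr_isoIsPushout_hom _ _ hT
    rw [← e]
    infer_instance
  have hbij : Function.Bijective (Algebra.TensorProduct.includeRight
      (R := Γ(Spec (CommRingCat.of k), ⊤)) (A := Γ(X.left, ⊤)) (B := Γ(Spec (CommRingCat.of K), ⊤))) :=
    (ConcreteCategory.isIso_iff_bijective _).mp hinr
  refine (ConcreteCategory.isIso_iff_bijective _).mpr ?_
  show Function.Bijective (algebraMap Γ(Spec (CommRingCat.of k), ⊤) Γ(X.left, ⊤))
  refine ⟨RingHom.injective _, ?_⟩
  haveI : Module.FaithfullyFlat Γ(Spec (CommRingCat.of k), ⊤) Γ(Spec (CommRingCat.of K), ⊤) := inferInstance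
  have h1 : Function.Surjective
      ((Algebra.linearMap Γ(Spec (CommRingCat.of k), ⊤) Γ(X.left, ⊤)).lTensor Γ(Spec (CommRingCat.of K), ⊤)) := by
    intro y
    obtain ⟨b, hb⟩ := hbij.2 (TensorProduct.comm _ _ _ y)
    refine ⟨b ⊗ₜ 1, (TensorProduct.comm _ _ _).injective ?_⟩
    rw [← hb]
    simp
  exact (Module.FaithfullyFlat.lTensor_surjective_iff_surjective _ _ _).mp h1

/-- Minimal non-affine groups are the minimal anti-affine ones. -/
theorem nonaffine_minimal_iff {G : Over (Spec (CommRingCat.of k))} [GrpObj G] [LocallyOfFiniteType G.hom]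
    [QuasiCompact G.hom] (hG : ¬ IsIso G.hom) :
    (¬ IsAffine G.left ∧ ∀ (H : Over (Spec (CommRingCat.of k))) [GrpObj H] (h : H ⟶ G) [IsMonHom h]
      [IsClosedImmersion h.left], ¬ IsIso h → IsAffine H.left) ↔
    (IsIso G.hom.appTop ∧ ∀ (H : Over (Spec (CommRingCat.of k))) [GrpObj H] (h : H ⟶ G) [IsMonHom h]
      [IsClosedImmersion h.left], ¬ IsIso h → IsIso H.hom.appTop → IsIso H.hom) := by
  constructor
  · rintro ⟨hna, hmin⟩
    refine ⟨?_, fun H _ h _ _ hh hH => by haveI := hmin H h hh; exact isIso_hom_of_affine hH⟩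
    obtain ⟨hA, N, hN, i, ht, -, -, -, hi, hc, hNl, hNq, hker, hO⟩ := KerAntiAffine.exists_antiAffineKernel G
    letI := hA
    letI := hN
    haveI := ht; haveI := hi; haveI := hc
    by_cases hiso : IsIso i
    · haveI := hiso
      haveI : IsIso i.left := ((Over.forget _).mapIso (asIso i)).isIso_hom
      haveI := hO
      rw [show G.hom = inv i.left ≫ N.hom by rw [IsIso.eq_inv_comp, Over.w], Scheme.Hom.comp_appTop]
      haveI : IsIso (inv i.left).appTop := inferInstanceAs (IsIso (Scheme.Γ.map (inv i.left).op))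
      infer_instance
    · haveI := hmin N i hiso
      exact absurd (isAffine_of_isAffine_part i hker) hna
  · rintro ⟨hO, hmin⟩
    refine ⟨fun ha => hG (isIso_hom_of_affine hO), fun H _ h _ _ hh => ?_⟩
    haveI : LocallyOfFiniteType H.hom := by rw [← Over.w h]; infer_instance
    haveI : QuasiCompact H.hom := by rw [← Over.w h]; infer_instance
    obtain ⟨hA, P, hP, iP, ht, -, -, -, hiP, hcP, hlP, hqP, hker, hOP⟩ := KerAntiAffine.exists_antiAffineKernel H
    letI := hA; letI := hP
    haveI := ht; haveI := hiP; haveI := hcP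
    haveI : IsClosedImmersion (iP ≫ h).left := by rw [Over.comp_left]; infer_instance
    haveI : IsIso P.hom := hmin P (iP ≫ h) (fun hi => hh (by
      haveI := hi
      haveI : Mono h := Over.mono_of_mono_left h
      haveI : IsSplitEpi h := IsSplitEpi.mk' ⟨inv (iP ≫ h) ≫ iP, by rw [Category.assoc, IsIso.inv_hom_id]⟩
      exact isIso_of_mono_of_isSplitEpi h)) hOP
    haveI : IsAffine P.left := .of_isIso P.hom
    exact isAffine_of_isAffine_part iP hker

end Groth.Agent.MonoFibre.AntiAffineBasic
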