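import Mathlib
import Groth.Agent.MonoFibre.GLPoints
import Groth.Agent.MonoFibre.AffinizationFlat
import Groth.Agent.MonoFibre.AntiAffine

/-! A group of finite type over a field is anti-affine iff its representations are trivial. -/

set_option autoImplicit false
universe u

open CategoryTheory CategoryTheory.Limits MonoidalCategory CartesianMonoidalCategory MonObj AlgebraicGeometry

namespace Groth.Agent.MonoFibre.AntiAffineGL

attribute [-instance] CategoryTheory.Hom.commGroup

variable {k : Type u} [Field k] (G : Over (Spec (CommRingCat.of k))) [GrpObj G]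

instance isAffine_GLn (n : ℕ) : IsAffine (FrB.GLn n (Spec (CommRingCat.of k))).left := by
  haveI : IsAffine (FrB.GLZ.{u} n).left := inferInstanceAs (IsAffine (Spec _))
  exact inferInstanceAs (IsAffine (pullback _ _))

theorem forall_eq_one [QuasiCompact G.hom]
    (hO : Function.Bijective ((Scheme.ΓSpecIso (CommRingCat.of k)).inv ≫ G.hom.appTop).hom) (n : ℕ)
    (ρ : G ⟶ FrB.GLn n (Spec (CommRingCat.of k))) (hρ : IsMonHom ρ) : ρ = 1 := by
  obtain ⟨g, hg⟩ := (AntiAffine.isAffz_toUnit hO).exists_lift ρ
  have h := IsMonHom.one_hom ρ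
  rw [← hg, ← Category.assoc, toUnit_unique (η[G] ≫ toUnit G) (𝟙 _), Category.id_comp] at h
  rw [← hg, h]
  exact Hom.one_def.symm

variable [LocallyOfFiniteType G.hom] [QuasiCompact G.hom]

theorem bijective_of_forall (h : ∀ (n : ℕ) (ρ : G ⟶ FrB.GLn n (Spec (CommRingCat.of k))), IsMonHom ρ → ρ = 1) :
    Function.Bijective ((Scheme.ΓSpecIso (CommRingCat.of k)).inv ≫ G.hom.appTop).hom := by
  haveI : Nonempty G.left := ⟨η[G].left (IsLocalRing.closedPoint k)⟩
  haveI : Nontrivial Γ(G.left, ⊤) := @Scheme.component_nontrivial G.left ⊤ ⟨⟨Classical.arbitrary G.left, trivial⟩⟩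
  refine ⟨RingHom.injective _, ?_⟩
  obtain ⟨hG, hmon⟩ := Affinization.exists_grpObj (Affinization.toAff G) (Affinization.isAffz_toAff G)
  letI := hG
  haveI := hmon
  haveI hA : IsAffine (Affinization.aff G).left := inferInstanceAs (IsAffine (Spec Γ(G.left, ⊤)))
  obtain ⟨A, ⟨eA⟩⟩ := essImage_hopfSpec.mpr (show IsAffine (Grp.mk (Affinization.aff G)).X.left by exact hA)
  let X : Over (Spec (CommRingCat.of k)) :=
    (Spec (CommRingCat.of A.unop)).asOver (Spec (CommRingCat.of k))
  let e : X ⟶ Affinization.aff G := eA.hom.hom.hom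
  let e' : Affinization.aff G ⟶ X := eA.inv.hom.hom
  haveI : IsMonHom e' := inferInstanceAs (IsMonHom eA.inv.hom.hom)
  have he : e ≫ e' = 𝟙 X := congrArg (fun f => f.hom.hom) eA.hom_inv_id
  haveI : IsIso e.left :=
    ((Over.forget _).mapIso ((Grp.forget _).mapIso eA)).isIso_hom
  haveI : LocallyOfFiniteType (Spec.map (CommRingCat.ofHom (algebraMap k A.unop))) := by
    have hl : LocallyOfFiniteType (Affinization.aff G).hom := (Affinization.toSpecΓ_props G).2.2
    show LocallyOfFiniteType X.hom
    rw [← Over.w e]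
    infer_instance
  haveI : Algebra.FiniteType k A.unop :=
    RingHom.finiteType_algebraMap.mp ((HasRingHomProperty.Spec_iff (P := @LocallyOfFiniteType)).mp ‹_›)
  have hsurj : Function.Surjective (algebraMap k A.unop) := by
    refine GLPoints.surjective_algebraMap fun n f hf => ?_
    haveI := hf
    have h1 : Affinization.toAff G ≫ e' ≫ f = 1 :=
      h n (Affinization.toAff G ≫ e' ≫ f) inferInstance
    have h2 : e' ≫ f = 1 := (Affinization.isAffz_toAff G).hom_ext (h1.trans (MonObj.comp_one _).symm)
    rw [← Category.id_comp f, ← he, Category.assoc, h2, MonObj.comp_one]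
  -- transport along `e`
  haveI : IsClosedImmersion X.hom := IsClosedImmersion.spec_of_surjective _ hsurj
  haveI : IsClosedImmersion (Affinization.aff G).hom := by
    rw [← Iso.inv_hom_id_assoc (asIso e.left) (Affinization.aff G).hom]
    haveI : IsClosedImmersion ((asIso e.left).hom ≫ (Affinization.aff G).hom) := by
      rw [show (asIso e.left).hom ≫ (Affinization.aff G).hom = X.hom from Over.w e]; infer_instance
    infer_instance
  haveI : IsClosedImmersion (Spec.map ((Scheme.ΓSpecIso (CommRingCat.of k)).inv ≫ G.hom.appTop)) := by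
    rw [Spec.map_comp]
    haveI : IsClosedImmersion (Spec.map G.hom.appTop ≫ (Spec (CommRingCat.of k)).isoSpec.inv) :=
      ‹IsClosedImmersion (Affinization.aff G).hom›
    rw [Scheme.isoSpec_Spec_inv] at this
    exact this
  obtain ⟨-, hs⟩ := IsClosedImmersion.isAffine_surjective_of_isAffine
    (Spec.map ((Scheme.ΓSpecIso (CommRingCat.of k)).inv ≫ G.hom.appTop))
  have hnat := Scheme.ΓSpecIso_naturality ((Scheme.ΓSpecIso (CommRingCat.of k)).inv ≫ G.hom.appTop)
  intro y
  obtain ⟨z, hz⟩ := hs ((Scheme.ΓSpecIso _).inv y)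
  refine ⟨(Scheme.ΓSpecIso (CommRingCat.of k)).hom z, ?_⟩
  have h3 := congrArg (fun f => f.hom z) hnat
  refine h3.symm.trans ((congrArg (Scheme.ΓSpecIso _).hom.hom hz).trans ?_)
  exact congrArg (fun f => f.hom y) (Scheme.ΓSpecIso _).inv_hom_id

end Groth.Agent.MonoFibre.AntiAffineGL
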