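import Groth.Agent.MonoFibre.Orbit

/-!
# Irreducible components of homogeneous schemes over a field
-/

set_option autoImplicit false

universe u

open CategoryTheory MonoidalCategory CartesianMonoidalCategory MonObj GrpObj AlgebraicGeometry Limits

noncomputable section

namespace Groth.Agent.MonoFibre

theorem isMaxPt_flat {A B : Scheme.{u}} (f : A ⟶ B) [Flat f] {a : A} (ha : IsMaxPt a) : IsMaxPt (f a) := by
  intro b hb
  obtain ⟨a', ha', rfl⟩ := Flat.generalizingMap f hb
  rw [ha a' ha']

theorem setFinite_isMaxPt (T : Type*) [TopologicalSpace T] [TopologicalSpace.NoetherianSpace T] [QuasiSober T]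
    [T0Space T] : {v : T | IsMaxPt v}.Finite := by
  have hgen : ∀ Z : irreducibleComponents T, ∃ g : T, IsGenericPoint g (Z : Set T) := fun Z =>
    QuasiSober.sober Z.2.1 (isClosed_of_mem_irreducibleComponents _ Z.2)
  choose g hg using hgen
  haveI := (TopologicalSpace.NoetherianSpace.finite_irreducibleComponents (α := T)).to_subtype
  refine (Set.finite_range g).subset fun v hv => ⟨⟨_, irreducibleComponent_mem_irreducibleComponents v⟩, ?_⟩
  exact hv _ ((hg _).specializes (mem_irreducibleComponent (x := v)))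

section Grp

variable {K : Type u} [Field K] {G : Over (Spec (CommRingCat.of K))} [GrpObj G]

/-- In a group scheme a point has only one maximal generalisation. -/
theorem maxPt_unique_grp {b b' x : G.left} (hb : IsMaxPt b) (hb' : IsMaxPt b') (h : b ⤳ x) (h' : b' ⤳ x) : b = b' := by
  obtain ⟨θ, hθ⟩ := QuasiSober.sober (isIrreducible_irreducibleComponent (x := x)) isClosed_irreducibleComponent
  have key : ∀ c : G.left, IsMaxPt c → c ⤳ x → θ = c := fun c hc hcx =>
    hc θ (hθ.specializes (GrpSchLib.subset_irreducibleComponent isIrreducible_singleton.closure hcx.mem_closure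
      (subset_closure rfl)))
  exact (key b hb h).symm.trans (key b' hb' h')

theorem mem_idComp_of_mem {x y : G.left} (hy : y ∈ GrpSchLib.idComp G) (h : y ⤳ x ∨ x ⤳ y) :
    x ∈ GrpSchLib.idComp G := by
  rcases h with h | h
  · exact h.mem_closed isClosed_irreducibleComponent hy
  · have := GrpSchLib.subset_irreducibleComponent (isIrreducible_singleton (x := x)).closure h.mem_closure
      (subset_closure rfl)
    rwa [← GrpSchLib.irreducibleComponent_eq_of_mem hy] at this

theorem isOpen_idComp [LocallyOfFiniteType G.hom] : IsOpen (GrpSchLib.idComp G) := by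
  refine isOpen_iff_forall_mem_open.mpr fun y hy => ?_
  haveI : IsLocallyNoetherian G.left := LocallyOfFiniteType.isLocallyNoetherian G.hom
  obtain ⟨A, hA, hyA, -⟩ := exists_isAffineOpen_mem_and_subset (X := G.left) (x := y) (U := ⊤) trivial
  haveI : IsAffine (A : Scheme.{u}) := hA
  haveI : IsNoetherian (A : Scheme.{u}) := {}
  haveI : TopologicalSpace.NoetherianSpace A := inferInstanceAs (TopologicalSpace.NoetherianSpace ↥(A : Scheme.{u}))
  haveI : QuasiSober A := inferInstanceAs (QuasiSober ↥(A : Scheme.{u}))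
  haveI : T0Space A := inferInstanceAs (T0Space ↥(A : Scheme.{u}))
  let C : Set A := ⋃ v ∈ {v : A | IsMaxPt v ∧ (v : G.left) ∉ GrpSchLib.idComp G}, closure {v}
  have hC : IsClosed C := ((setFinite_isMaxPt A).subset fun v hv => hv.1).isClosed_biUnion fun _ _ => isClosed_closure
  have hsp : ∀ v z : A, v ⤳ z → (v : G.left) ⤳ (z : G.left) := fun v z h => h.map continuous_subtype_val
  refine ⟨Subtype.val '' Cᶜ, ?_, A.2.isOpenMap_subtype_val _ hC.isOpen_compl, ⟨y, hyA⟩, ?_, rfl⟩
  · rintro _ ⟨z, hz, rfl⟩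
    by_contra hzI
    obtain ⟨v, hvz, hv⟩ := exists_isMaxPt (T := ↥(A : Scheme.{u})) z
    exact hz (Set.mem_iUnion₂.2 ⟨v, ⟨hv, fun hvI => hzI (mem_idComp_of_mem hvI (.inl (hsp v z hvz)))⟩, hvz.mem_closure⟩)
  · intro hyC
    obtain ⟨v, ⟨-, hvI⟩, hv⟩ := Set.mem_iUnion₂.1 hyC
    exact hvI (mem_idComp_of_mem hy (.inr (hsp v _ (specializes_iff_mem_closure.2 hv))))

/-- The translation as a homeomorphism. -/
def translGHomeo (g : 𝟙_ (Over (Spec (CommRingCat.of K))) ⟶ G) : G.left ≃ₜ G.left where
  toFun := (translG g).left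
  invFun := (translG g⁻¹).left
  left_inv z := by
    rw [← Scheme.Hom.comp_apply, ← Over.comp_left, translG_comp, inv_mul_cancel, translG_one]
    rfl
  right_inv z := by
    rw [← Scheme.Hom.comp_apply, ← Over.comp_left, translG_comp, mul_inv_cancel, translG_one]
    rfl
  continuous_toFun := Scheme.Hom.continuous _
  continuous_invFun := Scheme.Hom.continuous _

theorem comp_translG {V : Over (Spec (CommRingCat.of K))} (g : 𝟙_ (Over (Spec (CommRingCat.of K))) ⟶ G) (h : V ⟶ G) :
    h ≫ translG g = (toUnit V ≫ g) * h := by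
  rw [translG, MonObj.comp_mul, Category.comp_id, comp_toUnit_assoc]

variable [IsAlgClosed K] [LocallyOfFiniteType G.hom]

/-- Left translation by a point of the identity component fixes the maximal points. -/
theorem translG_fix (g : 𝟙_ (Over (Spec (CommRingCat.of K))) ⟶ G)
    (hg : g.left (IsLocalRing.closedPoint K) ∈ GrpSchLib.idComp G) {θ : G.left} (hθ : IsMaxPt θ) :
    (translG g).left θ = θ := by
  let pt : ↥(Spec (CommRingCat.of K)) := IsLocalRing.closedPoint K
  obtain ⟨h, hh⟩ := exists_ratPt_mem (G := G) isClosed_closure ⟨θ, subset_closure (Set.mem_singleton θ)⟩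
  have hθh : θ ⤳ h.left pt := specializes_iff_mem_closure.2 hh
  let c : 𝟙_ (Over (Spec (CommRingCat.of K))) ⟶ G := h⁻¹ * g * h
  let cj : G ⟶ G := (toUnit G ≫ h⁻¹) * 𝟙 G * (toUnit G ≫ h)
  have hcj : ∀ v : 𝟙_ (Over (Spec (CommRingCat.of K))) ⟶ G, v ≫ cj = h⁻¹ * v * h := fun v => by
    simp only [cj, MonObj.comp_mul, Category.comp_id, comp_toUnit_assoc]
    rw [toUnit_unique (toUnit _) (𝟙 _)]
    simp
  have hc : c.left pt ∈ GrpSchLib.idComp G := by
    have h1 : GrpSchLib.unitPt G ∈ cj.left '' GrpSchLib.idComp G := by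
      refine ⟨_, mem_irreducibleComponent, ?_⟩
      have h2 := congrArg (fun t : 𝟙_ (Over (Spec (CommRingCat.of K))) ⟶ G => t.left pt) (hcj 1)
      simp only [_root_.mul_one, inv_mul_cancel, Over.comp_left, Scheme.Hom.comp_apply] at h2
      erw [GrpSchLib.one_apply] at h2
      exact h2
    refine GrpSchLib.subset_irreducibleComponent
      (isIrreducible_irreducibleComponent.image _ cj.left.continuous.continuousOn) h1 ⟨g.left pt, hg, ?_⟩
    rw [← Scheme.Hom.comp_apply, ← Over.comp_left, hcj]
  have hhc : (translG h).left (c.left pt) = (translG g).left (h.left pt) := by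
    rw [← Scheme.Hom.comp_apply, ← Over.comp_left, ← Scheme.Hom.comp_apply, ← Over.comp_left, comp_translG,
      comp_translG, toUnit_unique (toUnit _) (𝟙 _), Category.id_comp, Category.id_comp]
    simp [c, ← _root_.mul_assoc]
  obtain ⟨θ₀, hθ₀, hθ₀max⟩ := exists_isMaxPt (GrpSchLib.unitPt G)
  have hu : (translG h).left (GrpSchLib.unitPt G) = h.left pt := by
    rw [← GrpSchLib.one_apply (𝟙_ (Over (Spec (CommRingCat.of K)))) pt, ← Scheme.Hom.comp_apply, ← Over.comp_left,
      comp_translG, toUnit_unique (toUnit _) (𝟙 _), Category.id_comp, _root_.mul_one]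
  -- the maximal point above the unit goes to `θ`
  have h0 : (translG h).left θ₀ = θ :=
    maxPt_unique_grp (isMaxPt_map (translGHomeo h) hθ₀max) hθ (hu ▸ hθ₀.map (translG h).left.continuous) hθh
  have h0c : θ₀ ⤳ c.left pt := by
    obtain ⟨θ₁, hθ₁⟩ := QuasiSober.sober (isIrreducible_irreducibleComponent (x := GrpSchLib.unitPt G))
      isClosed_irreducibleComponent
    have := maxPt_unique_grp hθ₀max (isMaxPt_generic (irreducibleComponent_mem_irreducibleComponents _) hθ₁) hθ₀
      (hθ₁.specializes mem_irreducibleComponent)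
    rw [this]
    exact hθ₁.specializes hc
  refine maxPt_unique_grp (isMaxPt_map (translGHomeo g) hθ) hθ (hθh.map (translG g).left.continuous) ?_
  rw [← hhc, ← h0]
  exact h0c.map (translG h).left.continuous

end Grp

section Field

variable {K : Type u} [Field K] [IsAlgClosed K] {G X : Over (Spec (CommRingCat.of K))} [GrpObj G]
  [LocallyOfFiniteType G.hom] (a : AlgGrp.Action G X)

theorem comp_translX_eq_orbit (x : 𝟙_ (Over (Spec (CommRingCat.of K))) ⟶ X)
    (g : 𝟙_ (Over (Spec (CommRingCat.of K))) ⟶ G) : x ≫ translX a g = g ≫ a.orbitMap x := by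
  simp only [translX, AlgGrp.Action.orbitMap, comp_lift_assoc, Category.comp_id, comp_toUnit_assoc]
  rw [toUnit_unique (toUnit _) (𝟙 _), Category.id_comp, Category.id_comp]

theorem orbit_one (x : 𝟙_ (Over (Spec (CommRingCat.of K))) ⟶ X) :
    (a.orbitMap x).left (GrpSchLib.unitPt G) = x.left (IsLocalRing.closedPoint K) := by
  let pt : ↥(𝟙_ (Over (Spec (CommRingCat.of K)))).left := IsLocalRing.closedPoint K
  show (a.orbitMap x).left (GrpSchLib.unitPt G) = x.left pt
  rw [← GrpSchLib.one_apply (𝟙_ (Over (Spec (CommRingCat.of K)))) pt,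
    ← Scheme.Hom.comp_apply, ← Over.comp_left, ← comp_translX_eq_orbit, translX_one, Category.comp_id]

/-- The orbit map sends the maximal point above the unit to the only maximal point above `x`. -/
theorem maxPt_above_eq (hΦ : Surjective (lift a.act (snd G X)).left)
    (x : 𝟙_ (Over (Spec (CommRingCat.of K))) ⟶ X) {θ₀ : G.left} (hθ₀ : θ₀ ⤳ GrpSchLib.unitPt G) (hθ₀max : IsMaxPt θ₀)
    {ξ : X.left} (hξ : IsMaxPt ξ) (hx : ξ ⤳ x.left (IsLocalRing.closedPoint K)) :
    ξ = (a.orbitMap x).left θ₀ := by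
  let pt : ↥(Spec (CommRingCat.of K)) := IsLocalRing.closedPoint K
  obtain ⟨g, hg⟩ := exists_orbitMap_eq a hΦ x ξ
  obtain ⟨θ, hθ, hθmax⟩ := exists_isMaxPt g
  have hθξ : (a.orbitMap x).left θ = ξ := hξ _ (hg ▸ hθ.map (a.orbitMap x).left.continuous)
  haveI : JacobsonSpace G.left := LocallyOfFiniteType.jacobsonSpace G.hom
  have hsub : GrpSchLib.idComp G ⊆ (a.orbitMap x).left ⁻¹' closure {ξ} := by
    refine subset_trans subset_closure ?_
    rw [← JacobsonSpace.closure_inter_closedPoints_eq_closure isClosed_irreducibleComponent.isLocallyClosed]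
    refine closure_minimal ?_ (isClosed_closure.preimage (Scheme.Hom.continuous _))
    rintro w ⟨hw, hwc⟩
    obtain ⟨c, hc⟩ := exists_ratPt_mem (G := G) (mem_closedPoints_iff.1 hwc) ⟨w, rfl⟩
    rw [Set.mem_singleton_iff] at hc
    have hfix : (translX a c).left ξ = ξ := by
      rw [← hθξ, ← Scheme.Hom.comp_apply, ← Over.comp_left, orbitMap_translX, Over.comp_left, Scheme.Hom.comp_apply,
        translG_fix c (hc ▸ hw) hθmax]
    have hsp : ξ ⤳ (translX a c).left (x.left pt) := hfix ▸ hx.map (translX a c).left.continuous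
    rw [← Scheme.Hom.comp_apply, ← Over.comp_left, comp_translX_eq_orbit, Over.comp_left, Scheme.Hom.comp_apply,
      hc] at hsp
    exact hsp.mem_closure
  obtain ⟨w, hw, hwmax⟩ := exists_idComp_orbit_isMaxPt a hΦ x
  have hθw : θ₀ ⤳ w := by
    obtain ⟨θ₁, hθ₁⟩ := QuasiSober.sober (isIrreducible_irreducibleComponent (x := GrpSchLib.unitPt G))
      isClosed_irreducibleComponent
    rw [maxPt_unique_grp hθ₀max (isMaxPt_generic (irreducibleComponent_mem_irreducibleComponents _) hθ₁) hθ₀
      (hθ₁.specializes mem_irreducibleComponent)]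
    exact hθ₁.specializes hw
  have h1 : (a.orbitMap x).left θ₀ = (a.orbitMap x).left w := hwmax _ (hθw.map (a.orbitMap x).left.continuous)
  rw [h1]
  exact hwmax _ (specializes_iff_mem_closure.2 (hsub hw))

theorem orbit_theta_specializes (x : 𝟙_ (Over (Spec (CommRingCat.of K))) ⟶ X) {θ₀ : G.left}
    (hθ₀ : θ₀ ⤳ GrpSchLib.unitPt G) : (a.orbitMap x).left θ₀ ⤳ x.left (IsLocalRing.closedPoint K) :=
  orbit_one a x ▸ hθ₀.map (a.orbitMap x).left.continuous

theorem orbit_theta_isMaxPt (hΦ : Surjective (lift a.act (snd G X)).left)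
    (x : 𝟙_ (Over (Spec (CommRingCat.of K))) ⟶ X) {θ₀ : G.left}
    (hθ₀ : θ₀ ⤳ GrpSchLib.unitPt G) (hθ₀max : IsMaxPt θ₀) : IsMaxPt ((a.orbitMap x).left θ₀) := by
  obtain ⟨ξ, hξx, hξ⟩ := exists_isMaxPt (x.left (IsLocalRing.closedPoint K))
  exact maxPt_above_eq a hΦ x hθ₀ hθ₀max hξ hξx ▸ hξ

/-- A point of the identity component fixes the maximal point above a rational point. -/
theorem translX_theta (x : 𝟙_ (Over (Spec (CommRingCat.of K))) ⟶ X)
    (g : 𝟙_ (Over (Spec (CommRingCat.of K))) ⟶ G)
    (hg : g.left (IsLocalRing.closedPoint K) ∈ GrpSchLib.idComp G) {θ₀ : G.left} (hθ₀max : IsMaxPt θ₀) :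
    (translX a g).left ((a.orbitMap x).left θ₀) = (a.orbitMap x).left θ₀ := by
  rw [← Scheme.Hom.comp_apply, ← Over.comp_left, orbitMap_translX, Over.comp_left, Scheme.Hom.comp_apply,
    translG_fix g hg hθ₀max]

end Field

end Groth.Agent.MonoFibre
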