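import Groth.Agent.MonoFibre.Irreducible

/-!
# Homogeneous schemes with connected fibres: separatedness and quasi-compactness
-/

set_option autoImplicit false

universe u

open CategoryTheory MonoidalCategory CartesianMonoidalCategory MonObj GrpObj AlgebraicGeometry Limits

noncomputable section

namespace Groth.Agent.MonoFibre

variable {S : Scheme.{u}} {G X : Over S} [GrpObj G] [LocallyOfFiniteType G.hom] (a : AlgGrp.Action G X)

theorem quasiSeparatedSpace_homeo {α β : Type*} [TopologicalSpace α] [TopologicalSpace β] [QuasiSeparatedSpace β]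
    (e : α ≃ₜ β) : QuasiSeparatedSpace α :=
  ⟨fun U V hU hU' hV hV' => by
    have h := QuasiSeparatedSpace.inter_isCompact (e '' U) (e '' V) (e.isOpenMap _ hU) (hU'.image e.continuous)
      (e.isOpenMap _ hV) (hV'.image e.continuous)
    rw [← Set.image_inter e.injective] at h
    simpa [Set.image_image] using h.image e.symm.continuous⟩

include a in
/-- In such a scheme every open set meeting a fibre contains the maximal points of the fibre. -/
theorem mem_of_isMaxPt_fiber (hΦ : Surjective (lift a.act (snd G X)).left) (s : S)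
    (hqs : QuasiSeparatedSpace ↥(X.hom.base ⁻¹' {s})) (hconn : _root_.IsPreconnected (X.hom.base ⁻¹' {s}))
    {U : X.left.Opens} (hU : ((U : Set X.left) ∩ X.hom.base ⁻¹' {s}).Nonempty) :
    ∀ ξ : (X.hom.fiber s), IsMaxPt ξ → X.hom.fiberι s ξ ∈ U := by
  intro ξ hξ
  let j : Spec (CommRingCat.of (S.residueField s)) ⟶ S := S.fromSpecResidueField s
  haveI : LocallyOfFiniteType (Red.bc j G).hom := inferInstanceAs (LocallyOfFiniteType (pullback.snd G.hom j))
  haveI : QuasiSeparatedSpace ↥(Red.bc j X).left := quasiSeparatedSpace_homeo (X.hom.fiberHomeo s)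
  haveI : PreconnectedSpace ↥(X.hom.base ⁻¹' {s}) := isPreconnected_iff_preconnectedSpace.1 hconn
  haveI : PreconnectedSpace ↥(Red.bc j X).left :=
    (X.hom.fiberHomeo s).symm.surjective.denseRange.preconnectedSpace (X.hom.fiberHomeo s).symm.continuous
  haveI : Nonempty ↥(Red.bc j X).left := ⟨ξ⟩
  haveI := irreducibleSpace_of_homogeneous (bcAction j a) (bcAction_surjective j a hΦ)
  obtain ⟨y, hyU, hy⟩ := hU
  obtain ⟨y', rfl⟩ := (X.hom.range_fiberι s).ge hy
  obtain ⟨θ, hθ⟩ := QuasiSober.sober (IrreducibleSpace.isIrreducible_univ ↥(Red.bc j X).left) isClosed_univ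
  have hθξ : θ = ξ := hξ θ (hθ.specializes (Set.mem_univ ξ))
  exact ((hθξ ▸ hθ.specializes (Set.mem_univ y') : ξ ⤳ y').map (X.hom.fiberι s).continuous).mem_open U.2 hyU

include a in
theorem isSeparated_of_connected (W : G.left.Opens) (hW : ∀ s : S, η[G].left s ∈ W) [UniversallyOpen (W.ι ≫ G.hom)]
    (hΦ : Surjective (lift a.act (snd G X)).left) (hqs : ∀ s : S, QuasiSeparatedSpace ↥(X.hom.base ⁻¹' {s}))
    (hconn : ∀ s : S, _root_.IsPreconnected (X.hom.base ⁻¹' {s})) : IsSeparated X.hom := by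
  refine isSeparated_of_maxPts a W hW hΦ fun s => ?_
  by_cases hne : (X.hom.base ⁻¹' {s}).Nonempty
  · obtain ⟨x, hx⟩ := hne
    have hx' : X.hom x = s := hx
    obtain ⟨_, ⟨(Vb : S.Opens), hVb, rfl⟩, hsV, -⟩ :=
      S.isBasis_affineOpens.exists_subset_of_mem_open (Set.mem_univ s) isOpen_univ
    obtain ⟨U, hUa, hxU, hUV⟩ := exists_isAffineOpen_mem_and_subset (X := X.left) (x := x) (U := X.hom ⁻¹ᵁ Vb)
      (show X.hom x ∈ Vb by rw [hx']; exact hsV)
    refine ⟨U, ?_, mem_of_isMaxPt_fiber a hΦ s (hqs s) (hconn s) ⟨x, hxU, hx⟩⟩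
    haveI : IsAffine (U : Scheme.{u}) := hUa
    haveI : IsAffine (Vb : Scheme.{u}) := hVb
    rw [show U.ι ≫ X.hom = IsOpenImmersion.lift Vb.ι (U.ι ≫ X.hom) (by
      rw [Scheme.Opens.range_ι]
      rintro _ ⟨y, rfl⟩
      exact hUV y.2) ≫ Vb.ι from (IsOpenImmersion.lift_fac _ _ _).symm]
    infer_instance
  · haveI : IsEmpty ↥((⊥ : X.left.Opens) : Scheme.{u}) := ⟨fun x => x.2⟩
    exact ⟨⊥, inferInstance, fun ξ _ => (hne ⟨_, (X.hom.range_fiberι s).le ⟨ξ, rfl⟩⟩).elim⟩

include a in
theorem quasiCompact_of_connected (hΦ : Surjective (lift a.act (snd G X)).left)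
    (hqs : ∀ s : S, QuasiSeparatedSpace ↥(X.hom.base ⁻¹' {s}))
    (hconn : ∀ s : S, _root_.IsPreconnected (X.hom.base ⁻¹' {s})) (V : X.left.Opens) [QuasiCompact (V.ι ≫ X.hom)]
    (hV : ∀ s : S, (X.hom.base ⁻¹' {s}).Nonempty → ((V : Set X.left) ∩ X.hom.base ⁻¹' {s}).Nonempty) :
    QuasiCompact X.hom := by
  rw [quasiCompact_iff_forall_isAffineOpen]
  intro B hB
  have he : ∀ s : S, G.hom (η[G].left s) = s := fun s => by
    rw [← Scheme.Hom.comp_apply, Over.w η[G]]
    rfl
  obtain ⟨U, hUc, hUB, heU⟩ : ∃ U : G.left.Opens, IsCompact (U : Set G.left) ∧ U ≤ G.hom ⁻¹ᵁ B ∧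
      ∀ s : S, s ∈ B → η[G].left s ∈ U := by
    have hch : ∀ s : (B : Set S), ∃ A : G.left.Opens, IsAffineOpen A ∧ η[G].left s.1 ∈ A ∧ A ≤ G.hom ⁻¹ᵁ B :=
      fun s => exists_isAffineOpen_mem_and_subset (X := G.left) (x := η[G].left s.1)
        (show η[G].left s.1 ∈ G.hom ⁻¹ᵁ B by
          show G.hom (η[G].left s.1) ∈ B
          rw [he]; exact s.2)
    choose A hA hsA hAV using hch
    obtain ⟨t, ht⟩ := hB.isCompact.elim_finite_subcover (fun s => η[G].left ⁻¹' (A s : Set G.left))
      (fun s => (A s).2.preimage η[G].left.continuous) fun s hs => Set.mem_iUnion.mpr ⟨⟨s, hs⟩, hsA _⟩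
    refine ⟨⨆ s ∈ t, A s, ?_, iSup₂_le fun s _ => hAV s, fun s hs => ?_⟩
    · simp only [TopologicalSpace.Opens.coe_iSup]
      exact t.isCompact_biUnion fun s _ => (hA s).isCompact
    · obtain ⟨i, hi, hsi⟩ := Set.mem_iUnion₂.mp (ht hs)
      exact TopologicalSpace.Opens.mem_iSup.mpr ⟨i, TopologicalSpace.Opens.mem_iSup.mpr ⟨hi, hsi⟩⟩
  let VB : X.left.Opens := V ⊓ X.hom ⁻¹ᵁ B
  have hVc : IsCompact (VB : Set X.left) := by
    have h := ((V.ι ≫ X.hom).isCompact_preimage (U := B) hB.isCompact).image V.ι.continuous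
    convert h using 1
    ext y
    constructor
    · rintro ⟨hyV, hyB⟩
      exact ⟨⟨y, hyV⟩, hyB, rfl⟩
    · rintro ⟨w, hw, rfl⟩
      exact ⟨w.2, hw⟩
  haveI : IsAffine (B : Scheme.{u}) := hB
  haveI : CompactSpace U := isCompact_iff_compactSpace.mp hUc
  haveI : CompactSpace VB := isCompact_iff_compactSpace.mp hVc
  let uB : (U : Scheme.{u}) ⟶ (B : Scheme.{u}) := IsOpenImmersion.lift B.ι (U.ι ≫ G.hom) (by
    rw [Scheme.Opens.range_ι]
    rintro _ ⟨x, rfl⟩
    exact hUB x.2)
  let vB : (VB : Scheme.{u}) ⟶ (B : Scheme.{u}) := IsOpenImmersion.lift B.ι (VB.ι ≫ X.hom) (by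
    rw [Scheme.Opens.range_ι]
    rintro _ ⟨x, rfl⟩
    exact x.2.2)
  haveI : QuasiCompact vB := inferInstance
  haveI : CompactSpace ↥(pullback uB vB) := QuasiCompact.compactSpace_of_compactSpace (pullback.fst uB vB)
  let q : pullback uB vB ⟶ (G ⊗ X).left := pullback.map uB vB G.hom X.hom U.ι VB.ι B.ι
    (IsOpenImmersion.lift_fac _ _ _) (IsOpenImmersion.lift_fac _ _ _)
  have hrq : Set.range q = (fst G X).left ⁻¹' U ∩ (snd G X).left ⁻¹' VB := by
    rw [Scheme.Pullback.range_map, Scheme.Opens.range_ι, Scheme.Opens.range_ι]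
    rfl
  suffices h : (X.hom ⁻¹ᵁ B : Set X.left) = a.act.left '' Set.range q by
    show IsCompact (X.hom ⁻¹ᵁ B : Set X.left)
    rw [h]
    exact (isCompact_range q.continuous).image a.act.left.continuous
  rw [hrq]
  refine Set.Subset.antisymm (fun z hz => ?_) ?_
  · let K : Type u := AlgebraicClosure (X.left.residueField z)
    let ι₀ : Spec (CommRingCat.of K) ⟶ X.left :=
      Spec.map (CommRingCat.ofHom (algebraMap (X.left.residueField z) K)) ≫ X.left.fromSpecResidueField z
    have hι₀ : ∀ w, ι₀ w = z := fun w => by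
      rw [Scheme.Hom.comp_apply]
      exact Scheme.fromSpecResidueField_apply z _
    let j : Spec (CommRingCat.of K) ⟶ S := ι₀ ≫ X.hom
    let s : S := X.hom z
    haveI : LocallyOfFiniteType (Red.bc j G).hom := inferInstanceAs (LocallyOfFiniteType (pullback.snd G.hom j))
    let gK : (Over.map j).obj (Red.bc j G) ⟶ G := (Over.mapPullbackAdj j).counit.app G
    let str : (Over.map j).obj (Red.bc j G) ⟶ Over.mk j := Over.homMk (Red.bc j G).hom rfl
    let zX : Over.mk j ⟶ X := Over.homMk ι₀ rfl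
    let pr : (Over.map j).obj (Red.bc j G) ⟶ G ⊗ X := lift gK (str ≫ zX)
    let xK : 𝟙_ (Over (Spec (CommRingCat.of K))) ⟶ Red.bc j X :=
      Over.homMk (pullback.lift ι₀ (𝟙 _) (Category.id_comp j).symm) (pullback.lift_snd _ _ _)
    have hxK : (Over.map j).map (toUnit (Red.bc j G) ≫ xK) ≫ (Over.mapPullbackAdj j).counit.app X = str ≫ zX :=
      Over.OverMorphism.ext (by
        show ((Red.bc j G).hom ≫ pullback.lift ι₀ (𝟙 _) (Category.id_comp j).symm) ≫ pullback.fst X.hom j =
          (Red.bc j G).hom ≫ ι₀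
        rw [Category.assoc, pullback.lift_fst])
    have hmax : ∀ θ : (Red.bc j X).left, IsMaxPt θ → pullback.fst X.hom j θ ∈ VB := fun θ hθ => by
      let r : Spec (CommRingCat.of K) ⟶ Spec (S.residueField s) :=
        Spec.map (CommRingCat.ofHom (algebraMap (X.left.residueField z) K)) ≫ Spec.map (X.hom.residueFieldMap z)
      have hr : r ≫ S.fromSpecResidueField s = j := by
        show (_ ≫ _) ≫ _ = (_ ≫ _) ≫ _
        rw [Category.assoc, Category.assoc, Scheme.Hom.SpecMap_residueFieldMap_fromSpecResidueField]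
      haveI : Flat r := by
        show Flat (Spec.map (CommRingCat.ofHom (algebraMap (X.left.residueField z) K)) ≫ Spec.map (X.hom.residueFieldMap z))
        rw [← Spec.map_comp, HasRingHomProperty.Spec_iff (P := @Flat)]
        exact flat_of_field _
      let qs : pullback X.hom j ⟶ X.hom.fiber s :=
        pullback.map X.hom j X.hom (S.fromSpecResidueField s) (𝟙 _) r (𝟙 _) (by simp) (by simp [hr])
      have h1 : qs ≫ pullback.fst X.hom (S.fromSpecResidueField s) = pullback.fst X.hom j := by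
        simp only [qs, pullback.map]
        erw [pullback.lift_fst, Category.comp_id]
      haveI : Flat qs := by
        refine MorphismProperty.of_isPullback (P := @Flat)
          ((?_ : IsPullback qs (pullback.snd X.hom j) (pullback.snd X.hom (S.fromSpecResidueField s)) r).flip) inferInstance
        refine IsPullback.of_right (h₁₂ := pullback.fst X.hom (S.fromSpecResidueField s)) ?_
          (pullback.lift_snd _ _ _) (IsPullback.of_hasPullback X.hom (S.fromSpecResidueField s))
        refine IsPullback.of_iso (IsPullback.of_hasPullback X.hom j) (Iso.refl _) (Iso.refl _) (Iso.refl _) (Iso.refl _)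
          ?_ ?_ ?_ ?_
        · exact (Category.comp_id _).trans (h1.symm.trans (Category.id_comp _).symm)
        · exact (Category.comp_id _).trans (Category.id_comp _).symm
        · exact (Category.comp_id _).trans (Category.id_comp _).symm
        · exact (Category.comp_id _).trans (hr.symm.trans (Category.id_comp _).symm)
      have hm := mem_of_isMaxPt_fiber a hΦ s (hqs s) (hconn s) (hV s ⟨z, rfl⟩) _ (isMaxPt_of_flat qs hθ)
      have h2 : pullback.fst X.hom j θ = X.hom.fiberι s (qs θ) := by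
        exact (congrArg (fun t => t θ) h1).symm.trans rfl
      rw [h2]
      refine ⟨hm, ?_⟩
      have h3 : X.hom (X.hom.fiberι s (qs θ)) = s := (X.hom.range_fiberι s).le ⟨_, rfl⟩
      show X.hom (X.hom.fiberι s (qs θ)) ∈ B
      rw [h3]
      exact hz
    obtain ⟨w, hwW, hwA, -⟩ := exists_mem_orbit_inter (bcAction j a) (bcAction_surjective j a hΦ) xK xK
      (U := pullback.fst X.hom j ⁻¹' VB) (VB.2.preimage (Scheme.Hom.continuous _)) hmax
      (W := gK.left ⁻¹' ((𝟙 G : G ⟶ G)⁻¹.left ⁻¹' U))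
      ((U.2.preimage (Scheme.Hom.continuous _)).preimage (Scheme.Hom.continuous _)) (by
        let pt : ↥((Over.map j).obj (𝟙_ (Over (Spec (CommRingCat.of K))))).left := IsLocalRing.closedPoint K
        show (𝟙 G : G ⟶ G)⁻¹.left (gK.left (η[Red.bc j G].left pt)) ∈ U
        have h1 : ((Over.map j).map η[Red.bc j G] ≫ gK) ≫ (𝟙 G : G ⟶ G)⁻¹ = 1 := by
          rw [one_counit, GrpObj.comp_inv, Category.comp_id, inv_one]
        have h2 := congrArg (fun t : (Over.map j).obj (𝟙_ (Over (Spec (CommRingCat.of K)))) ⟶ G => t.left pt) h1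
        refine Eq.subst (motive := fun t => t ∈ (U : Set G.left)) h2.symm ?_
        show ((toUnit _ ≫ η[G]).left) pt ∈ U
        refine heU _ ?_
        show j pt ∈ B
        rw [Scheme.Hom.comp_apply, hι₀]
        exact hz)
    let Ψ : G ⊗ X ⟶ G ⊗ X := lift (fst G X)⁻¹ a.act
    refine ⟨Ψ.left (pr.left w), ⟨?_, ?_⟩, ?_⟩
    · show (fst G X).left (Ψ.left (pr.left w)) ∈ U
      rw [← Scheme.Hom.comp_apply, ← Over.comp_left, ← Scheme.Hom.comp_apply, ← Over.comp_left]
      have h3 : pr ≫ Ψ ≫ fst G X = gK ≫ (𝟙 G : G ⟶ G)⁻¹ := by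
        simp only [Ψ, pr, lift_fst, GrpObj.comp_inv, Category.comp_id]
      rw [h3]
      exact hwW
    · show (snd G X).left (Ψ.left (pr.left w)) ∈ VB
      rw [← Scheme.Hom.comp_apply, ← Over.comp_left, ← Scheme.Hom.comp_apply, ← Over.comp_left]
      have h3 : pr ≫ Ψ ≫ snd G X = lift gK (str ≫ zX) ≫ a.act := by
        simp only [Ψ, lift_snd, pr]
      rw [h3, ← map_orbitMap_counit a j _ _ hxK]
      exact hwA
    · rw [← Scheme.Hom.comp_apply, ← Over.comp_left, ← Scheme.Hom.comp_apply, ← Over.comp_left]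
      have hid : a.act = lift (fst G X) (snd G X) ≫ a.act := by rw [lift_fst_snd, Category.id_comp]
      have h3 : pr ≫ Ψ ≫ a.act = str ≫ zX := by
        have key : Ψ ≫ a.act = snd G X := by
          show lift (fst G X)⁻¹ a.act ≫ a.act = snd G X
          conv_lhs => arg 1; arg 2; rw [hid]
          rw [← act_mul, inv_mul_cancel, act_one]
        rw [key, lift_snd]
      rw [h3, Over.comp_left, Scheme.Hom.comp_apply]
      exact hι₀ _
  · rintro _ ⟨p, ⟨hp, -⟩, rfl⟩
    show X.hom (a.act.left p) ∈ B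
    rw [← Scheme.Hom.comp_apply, Over.w a.act, ← Over.w (fst G X), Scheme.Hom.comp_apply]
    exact hUB hp

end Groth.Agent.MonoFibre
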