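import Groth.Agent.MonoFibre.LftAway
import Groth.Agent.MonoFibre.FlatOrbit
import Groth.Agent.ASp.ThickFinType

/-!
Group schemes with a nonempty open locally of finite type are locally of finite type.
-/

set_option autoImplicit false
set_option maxHeartbeats 1000000
set_option backward.isDefEq.respectTransparency.types false
set_option linter.style.haveILetI false

universe u

open CategoryTheory CategoryTheory.Limits MonoidalCategory CartesianMonoidalCategory MonObj AlgebraicGeometry
open scoped TensorProduct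

namespace Groth.Agent.MonoFibre.LftOpen

/-- Local finite type descends along a field extension from one point. -/
theorem exists_nhd_of_extension {k K : Type u} [Field k] [Field K] [Algebra k K] {X : Scheme.{u}}
    (h : X ⟶ Spec (CommRingCat.of k))
    (O : (pullback h (Spec.map (CommRingCat.ofHom (algebraMap k K)))).Opens)
    (hO : LocallyOfFiniteType (O.ι ≫ pullback.snd h (Spec.map (CommRingCat.ofHom (algebraMap k K)))))
    (x' : ↥(pullback h (Spec.map (CommRingCat.ofHom (algebraMap k K))))) (hx' : x' ∈ O) :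
    ∃ W : X.Opens, pullback.fst h (Spec.map (CommRingCat.ofHom (algebraMap k K))) x' ∈ W ∧
      LocallyOfFiniteType (W.ι ≫ h) := by
  haveI : UniversallyOpen (Spec.map (CommRingCat.ofHom (algebraMap k K))) := inferInstance
  let g := Spec.map (CommRingCat.ofHom (algebraMap k K))
  obtain ⟨U, hU, hxU⟩ : ∃ U : X.Opens, IsAffineOpen U ∧ pullback.fst h g x' ∈ U := by
    obtain ⟨_, ⟨U, hU, rfl⟩, hxU, -⟩ :=
      X.isBasis_affineOpens.exists_subset_of_mem_open (Set.mem_univ (pullback.fst h g x')) isOpen_univ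
    exact ⟨U, hU, hxU⟩
  obtain ⟨B, _, j, hjo, hj⟩ : ∃ (B : Type u) (_ : CommRing B) (j : Spec (CommRingCat.of B) ⟶ X),
      IsOpenImmersion j ∧ Set.range j = (U : Set X) :=
    ⟨Γ(X, U), inferInstance, hU.fromSpec, inferInstance, hU.range_fromSpec⟩
  haveI := hjo
  obtain ⟨φ, hφ⟩ : ∃ φ : CommRingCat.of k ⟶ CommRingCat.of B, Spec.map φ = j ≫ h :=
    ⟨Spec.preimage _, Spec.map_preimage _⟩
  letI := φ.hom.toAlgebra
  have hB : Spec.map (CommRingCat.ofHom (algebraMap k B)) = j ≫ h := hφ
  let e := pullbackSpecIso k K B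
  let r1 : Spec (CommRingCat.of (K ⊗[k] B)) ⟶ Spec (CommRingCat.of K) :=
    Spec.map (CommRingCat.ofHom Algebra.TensorProduct.includeLeftRingHom)
  let r2 : Spec (CommRingCat.of (K ⊗[k] B)) ⟶ Spec (CommRingCat.of B) :=
    Spec.map (CommRingCat.ofHom (Algebra.TensorProduct.includeRight (R := k) (A := K) (B := B)).toRingHom)
  have hr : IsPullback r2 r1 (j ≫ h) g := by
    rw [← hB]
    refine IsPullback.of_iso (IsPullback.of_hasPullback _ _).flip e (Iso.refl _) (Iso.refl _) (Iso.refl _)
      ?_ ?_ (by simp) (by simp [g])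
    · simp only [Iso.refl_hom, Category.comp_id]; exact (pullbackSpecIso_hom_snd k K B).symm
    · simp only [Iso.refl_hom, Category.comp_id]; exact (pullbackSpecIso_hom_fst k K B).symm
  let m : Spec (CommRingCat.of (K ⊗[k] B)) ⟶ pullback h g :=
    pullback.lift (r2 ≫ j) r1 (by rw [Category.assoc, hr.w])
  have hm : IsPullback r2 m j (pullback.fst h g) :=
    IsPullback.of_bot (v₂₁ := pullback.snd h g) (v₂₂ := h) (h₃₁ := g)
      (by rw [pullback.lift_snd]; exact hr) (pullback.lift_fst _ _ _).symm (IsPullback.of_hasPullback h g)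
  haveI : IsOpenImmersion m := MorphismProperty.of_isPullback (P := @IsOpenImmersion) hm inferInstance
  obtain ⟨P, hP⟩ : pullback.fst h g x' ∈ Set.range j := hj ▸ hxU
  obtain ⟨Q, hQP, hQx⟩ := Scheme.exists_preimage_of_isPullback hm P x' hP
  obtain ⟨f, hQf, hfO⟩ : ∃ f : K ⊗[k] B, Q ∈ PrimeSpectrum.basicOpen f ∧
      (PrimeSpectrum.basicOpen f : Set (PrimeSpectrum (K ⊗[k] B))) ⊆ m ⁻¹' (O : Set _) := by
    obtain ⟨_, ⟨_, ⟨f, rfl⟩, rfl⟩, h1, h2⟩ :=
      (PrimeSpectrum.isBasis_basic_opens (R := K ⊗[k] B)).exists_subset_of_mem_open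
        (show Q ∈ m ⁻¹' (O : Set _) from (show m Q ∈ O from hQx ▸ hx')) (m ⁻¹ᵁ O).2
    exact ⟨f, h1, h2⟩
  have hft : Algebra.FiniteType K (Localization.Away f) := by
    let a : Spec (CommRingCat.of (Localization.Away f)) ⟶ Spec (CommRingCat.of (K ⊗[k] B)) :=
      Spec.map (CommRingCat.ofHom (algebraMap _ (Localization.Away f)))
    haveI : IsOpenImmersion a := IsOpenImmersion.of_isLocalization f
    have ha : Set.range (a ≫ m) ⊆ Set.range O.ι := by
      rintro _ ⟨q, rfl⟩
      rw [Scheme.Opens.range_ι]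
      refine hfO (show a q ∈ (PrimeSpectrum.basicOpen f : Set (PrimeSpectrum (K ⊗[k] B))) from ?_)
      rw [← PrimeSpectrum.localization_away_comap_range (Localization.Away f) f]
      exact ⟨q, rfl⟩
    let l := IsOpenImmersion.lift O.ι (a ≫ m) ha
    haveI : IsOpenImmersion l := IsOpenImmersion.of_comp l O.ι |> fun h => by
      haveI : IsOpenImmersion (l ≫ O.ι) := by rw [IsOpenImmersion.lift_fac]; infer_instance
      exact IsOpenImmersion.of_comp l O.ι
    haveI := hO
    have h1 : LocallyOfFiniteType (a ≫ r1) := by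
      have : a ≫ r1 = l ≫ O.ι ≫ pullback.snd h g := by
        rw [IsOpenImmersion.lift_fac_assoc, Category.assoc, pullback.lift_snd]
      rw [this]; infer_instance
    rw [← Spec.map_comp] at h1
    have h2 := (HasRingHomProperty.Spec_iff (P := @LocallyOfFiniteType)).mp h1
    rw [← RingHom.finiteType_algebraMap]
    exact h2
  have hVo : IsOpen (r2 '' (PrimeSpectrum.basicOpen f : Set (PrimeSpectrum (K ⊗[k] B)))) := by
    haveI : UniversallyOpen r2 := MorphismProperty.of_isPullback (P := @UniversallyOpen) hr.flip ‹_›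
    exact r2.isOpenMap _ (PrimeSpectrum.basicOpen f).2
  obtain ⟨b, hPb, hbV⟩ : ∃ b : B, P ∈ PrimeSpectrum.basicOpen b ∧
      (PrimeSpectrum.basicOpen b : Set (PrimeSpectrum B)) ⊆
        r2 '' (PrimeSpectrum.basicOpen f : Set (PrimeSpectrum (K ⊗[k] B))) := by
    obtain ⟨_, ⟨_, ⟨b, rfl⟩, rfl⟩, h1, h2⟩ :=
      (PrimeSpectrum.isBasis_basic_opens (R := B)).exists_subset_of_mem_open
        (show P ∈ r2 '' (PrimeSpectrum.basicOpen f : Set (PrimeSpectrum (K ⊗[k] B))) from ⟨Q, hQf, hQP⟩) hVo
    exact ⟨b, h1, h2⟩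
  have hBb : Algebra.FiniteType k (Localization.Away b) := LftAway.finiteType_away f b hft fun P' hP' => by
    obtain ⟨Q', hQ', hQP'⟩ := hbV hP'
    exact ⟨Q', hQ', hQP'⟩
  let c : Spec (CommRingCat.of (Localization.Away b)) ⟶ Spec (CommRingCat.of B) :=
    Spec.map (CommRingCat.ofHom (algebraMap B (Localization.Away b)))
  haveI : IsOpenImmersion c := IsOpenImmersion.of_isLocalization b
  refine ⟨(c ≫ j).opensRange, ?_, ?_⟩
  · show pullback.fst h g x' ∈ Set.range (c ≫ j)
    obtain ⟨q, hq⟩ : P ∈ Set.range c := by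
      show P ∈ Set.range (PrimeSpectrum.comap (algebraMap B (Localization.Away b)))
      rw [PrimeSpectrum.localization_away_comap_range (Localization.Away b) b]
      exact hPb
    exact ⟨q, by rw [Scheme.Hom.comp_apply, hq, hP]⟩
  · have h3 : LocallyOfFiniteType ((c ≫ j) ≫ h) := by
      rw [Category.assoc, ← hB, ← Spec.map_comp, HasRingHomProperty.Spec_iff (P := @LocallyOfFiniteType)]
      show ((algebraMap B (Localization.Away b)).comp (algebraMap k B)).FiniteType
      rw [← IsScalarTower.algebraMap_eq, RingHom.finiteType_algebraMap]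
      exact hBb
    rw [← (c ≫ j).isoOpensRange_inv_comp, Category.assoc]
    exact MorphismProperty.RespectsIso.precomp _ _ _ h3

/-- Over a field. -/
theorem locallyOfFiniteType_field {k : Type u} [Field k] (G : Over (Spec (CommRingCat.of k))) [GrpObj G]
    (W : G.left.Opens) (hW : (W : Set G.left).Nonempty) (hft : LocallyOfFiniteType (W.ι ≫ G.hom)) :
    LocallyOfFiniteType G.hom := by
  suffices hall : ∀ x : G.left, ∃ O : G.left.Opens, x ∈ O ∧ LocallyOfFiniteType (O.ι ≫ G.hom) by
    choose O hxO hO using hall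
    exact IsZariskiLocalAtSource.of_iSup_eq_top (P := @LocallyOfFiniteType) O
      (top_unique fun x _ => TopologicalSpace.Opens.mem_iSup.2 ⟨x, hxO x⟩) hO
  intro x
  obtain ⟨w, hw⟩ := hW
  obtain ⟨z, hz1, hz2⟩ := Scheme.Pullback.exists_preimage_pullback (f := G.hom) (g := G.hom) x w
    (Subsingleton.elim _ _)
  let R := pullback G.hom G.hom
  let K := R.residueField z
  obtain ⟨φ, hφ⟩ : ∃ φ : CommRingCat.of k ⟶ K,
      Spec.map φ = R.fromSpecResidueField z ≫ pullback.fst G.hom G.hom ≫ G.hom :=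
    ⟨Spec.preimage _, Spec.map_preimage _⟩
  letI := φ.hom.toAlgebra
  let T : Over (Spec (CommRingCat.of k)) := Over.mk (Spec.map (CommRingCat.ofHom (algebraMap k K)))
  let a : T ⟶ G := Over.homMk (R.fromSpecResidueField z ≫ pullback.fst G.hom G.hom)
    ((Category.assoc _ _ _).trans hφ.symm)
  let b : T ⟶ G := Over.homMk (R.fromSpecResidueField z ≫ pullback.snd G.hom G.hom)
    ((Category.assoc _ _ _).trans (by rw [← pullback.condition]; exact hφ.symm))
  let τ := lTransl (a * b⁻¹)
  haveI : IsIso τ.inv.left := ((Over.forget _).mapIso τ.symm).isIso_hom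
  let W' : (G ⊗ T).left.Opens := (fst G T).left ⁻¹ᵁ W
  let O : (G ⊗ T).left.Opens := τ.inv.left ⁻¹ᵁ W'
  have hsnd : τ.inv.left ≫ (snd G T).left = (snd G T).left := by
    rw [← Over.comp_left, show τ.inv ≫ snd G T = snd G T by simp [τ, lTransl]]
  have hW' : LocallyOfFiniteType (W'.ι ≫ (snd G T).left) :=
    MorphismProperty.of_isPullback
      ((isPullback_morphismRestrict (fst G T).left W).paste_vert
        (GrpSchLib.isPullback_fst_snd : IsPullback (fst G T).left (snd G T).left G.hom T.hom)) hft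
  have hO : LocallyOfFiniteType (O.ι ≫ (snd G T).left) := by
    rw [← hsnd, ← morphismRestrict_ι_assoc]
    exact MorphismProperty.RespectsIso.precomp _ (τ.inv.left ∣_ W') _ hW'
  let pt : ↥(Spec (CommRingCat.of K)) := IsLocalRing.closedPoint K
  let x' : ↥(G ⊗ T).left := (lift a (𝟙 T)).left pt
  have hba : lift a (𝟙 T) ≫ τ.inv = lift b (𝟙 T) := by
    apply CartesianMonoidalCategory.hom_ext
    · simp only [τ, lTransl, Category.assoc, lift_fst]
      rw [MonObj.comp_mul, lift_fst, ← Category.assoc, lift_snd, Category.id_comp, _root_.mul_inv_rev,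
        _root_.inv_inv, _root_.inv_mul_cancel_right]
    · simp [τ, lTransl]
  have hx' : x' ∈ O := by
    show (fst G T).left (τ.inv.left x') ∈ W
    have : τ.inv.left x' = (lift b (𝟙 T)).left pt := by
      rw [← hba]; rfl
    rw [this, ← Scheme.Hom.comp_apply, ← Over.comp_left, lift_fst]
    show pullback.snd G.hom G.hom (R.fromSpecResidueField z pt) ∈ W
    rw [Scheme.fromSpecResidueField_apply, hz2]
    exact hw
  obtain ⟨V, hxV, hV⟩ := exists_nhd_of_extension G.hom O hO x' hx'
  refine ⟨V, ?_, hV⟩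
  have : (fst G T).left x' = x := by
    show (fst G T).left ((lift a (𝟙 T)).left pt) = x
    rw [← Scheme.Hom.comp_apply, ← Over.comp_left, lift_fst]
    show pullback.fst G.hom G.hom (R.fromSpecResidueField z pt) = x
    rw [Scheme.fromSpecResidueField_apply, hz1]
  exact this ▸ hxV

/-- Over an Artinian local ring. -/
theorem locallyOfFiniteType_artinian {A : Type u} [CommRing A] [IsArtinianRing A] [IsLocalRing A]
    (G : Over (Spec (CommRingCat.of A))) [GrpObj G]
    (W : G.left.Opens) (hW : (W : Set G.left).Nonempty) (hft : LocallyOfFiniteType (W.ι ≫ G.hom)) :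
    LocallyOfFiniteType G.hom := by
  let m := IsLocalRing.maximalIdeal A
  letI : Field (A ⧸ m) := Ideal.Quotient.field m
  let ι₀ : Spec (CommRingCat.of (A ⧸ m)) ⟶ Spec (CommRingCat.of A) :=
    Spec.map (CommRingCat.ofHom (algebraMap A (A ⧸ m)))
  letI : GrpObj ((Over.pullback ι₀).obj G) := Functor.grpObjObj
  let p : pullback G.hom ι₀ ⟶ G.left := pullback.fst G.hom ι₀
  haveI : Subsingleton (Spec (CommRingCat.of A)) := inferInstanceAs (Subsingleton (PrimeSpectrum A))
  haveI : Surjective ι₀ := ⟨fun y => ⟨IsLocalRing.closedPoint (A ⧸ m), Subsingleton.elim _ _⟩⟩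
  have hk : LocallyOfFiniteType (pullback.snd G.hom ι₀) := by
    refine locallyOfFiniteType_field ((Over.pullback ι₀).obj G) (p ⁻¹ᵁ W) ?_ ?_
    · obtain ⟨x, hx⟩ := hW
      haveI : Surjective p := inferInstanceAs (Surjective (pullback.fst G.hom ι₀))
      obtain ⟨z, hz⟩ := p.surjective x
      exact ⟨z, show p z ∈ W from hz ▸ hx⟩
    · exact MorphismProperty.of_isPullback
        ((isPullback_morphismRestrict p W).paste_vert (IsPullback.of_hasPullback G.hom ι₀)) hft
  rw [HasRingHomProperty.iff_of_source_openCover (P := @LocallyOfFiniteType) G.left.affineCover]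
  intro i
  let j := G.left.affineCover.f i
  let U := G.left.affineCover.X i
  haveI : IsAffine U := inferInstanceAs (IsAffine (Spec _))
  let B := Γ(U, ⊤)
  let φ := (j ≫ G.hom).appTop
  let ψ : CommRingCat.of A ⟶ B := (Scheme.ΓSpecIso (CommRingCat.of A)).inv ≫ φ
  letI := ψ.hom.toAlgebra
  have hsp : U.isoSpec.inv ≫ j ≫ G.hom = Spec.map (CommRingCat.ofHom (algebraMap A B)) := by
    rw [Iso.inv_comp_eq]
    show j ≫ G.hom = U.isoSpec.hom ≫ Spec.map ((Scheme.ΓSpecIso (CommRingCat.of A)).inv ≫ φ)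
    rw [Spec.map_comp, Scheme.isoSpec_hom, ← Scheme.toSpecΓ_naturality_assoc]
    simp
  have h1 : LocallyOfFiniteType (pullback.snd (U.isoSpec.inv ≫ j ≫ G.hom) ι₀) := by
    have e : pullback.snd (U.isoSpec.inv ≫ j ≫ G.hom) ι₀ =
        pullback.map _ _ G.hom ι₀ (U.isoSpec.inv ≫ j) (𝟙 _) (𝟙 _) (by simp) (by simp) ≫ pullback.snd G.hom ι₀ :=
      ((pullback.lift_snd _ _ _).trans (Category.comp_id _)).symm
    rw [e]; infer_instance
  rw [hsp] at h1
  have h2 : LocallyOfFiniteType (Spec.map (CommRingCat.ofHom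
      (algebraMap (A ⧸ m) ((A ⧸ m) ⊗[A] B)))) := by
    rw [← pullbackSpecIso_inv_fst' A (A ⧸ m) B, ← pullbackSymmetry_hom_comp_snd]
    exact MorphismProperty.RespectsIso.precomp _ _ _ (MorphismProperty.RespectsIso.precomp _ _ _ h1)
  have h3 := (HasRingHomProperty.Spec_iff (P := @LocallyOfFiniteType)).mp h2
  haveI : Algebra.FiniteType (A ⧸ m) ((A ⧸ m) ⊗[A] B) := RingHom.finiteType_algebraMap.mp h3
  haveI : Algebra.FiniteType A ((A ⧸ m) ⊗[A] B) := Algebra.FiniteType.trans (inferInstance) ‹_›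
  have h4 : Algebra.FiniteType A (B ⧸ m.map (algebraMap A B)) :=
    Algebra.FiniteType.equiv ‹_› ((Algebra.TensorProduct.comm A (A ⧸ m) B).trans
      ((Algebra.TensorProduct.quotIdealMapEquivTensorQuot B m).restrictScalars A).symm)
  have h5 : (algebraMap A B).FiniteType := ASp.finiteType_of_nilpotent (algebraMap A B) (J := m)
    (by
      obtain ⟨n, hn⟩ := IsArtinianRing.isNilpotent_nilradical (R := A)
      refine ⟨n, ?_⟩
      rw [← Ideal.map_pow, show m = nilradical A from ?_, hn]
      · simp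
      · exact (Ring.KrullDimLE.nilradical_eq_maximalIdeal (R := A)).symm)
    (RingHom.finiteType_algebraMap.mpr h4)
  have h6 : ψ.hom.FiniteType := h5
  show φ.hom.FiniteType
  have : φ = (Scheme.ΓSpecIso (CommRingCat.of A)).hom ≫ ψ := by simp [ψ]
  rw [this, CommRingCat.hom_comp]
  exact h6.comp (RingHom.FiniteType.of_surjective _
    (ConcreteCategory.bijective_of_isIso (Scheme.ΓSpecIso (CommRingCat.of A)).hom).surjective)

end Groth.Agent.MonoFibre.LftOpen
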