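import Groth.Agent.MonoFibre.HomLocus
import Groth.Agent.MonoFibre.FlatOrbit
import Groth.Agent.MonoFibre.LftOpen
import Groth.Agent.FppfSrc.Scheme

/-!
Properties of homomorphisms spreading from one open, over one-point bases.
-/

set_option autoImplicit false
set_option maxHeartbeats 1000000
set_option backward.isDefEq.respectTransparency.types false
set_option linter.style.haveILetI false

universe u

open CategoryTheory CategoryTheory.Limits MonoidalCategory CartesianMonoidalCategory MonObj AlgebraicGeometry

namespace Groth.Agent.MonoFibre.HomSpread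

variable {S : Scheme.{u}} {G H : Over S} [GrpObj G] [GrpObj H] (u : G ⟶ H) [IsMonHom u]

/-- Translates of an open form an fppf covering on which the homomorphism is a base change. -/
theorem exists_cover [Flat G.hom] [LocallyOfFinitePresentation G.hom]
    (P : MorphismProperty Scheme.{u}) [P.IsStableUnderBaseChange]
    (W : G.left.Opens) (hWs : Function.Surjective (W.ι ≫ G.hom)) (h : P (W.ι ≫ u.left)) :
    ∃ (V : Scheme.{u}) (p : V ⟶ G.left) (v : V ⟶ (G ⊗ H).left), Flat p ∧ LocallyOfFinitePresentation p ∧
      Surjective p ∧ P v ∧ p ≫ u.left = v ≫ (snd G H).left := by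
  let Θ : G ⊗ G ≅ G ⊗ G :=
    { hom := lift (fst G G * snd G G) (snd G G)
      inv := lift (fst G G * (snd G G)⁻¹) (snd G G)
      hom_inv_id := by
        apply CartesianMonoidalCategory.hom_ext
        · rw [Category.assoc, lift_fst, MonObj.comp_mul, lift_fst, GrpObj.comp_inv, lift_snd,
            _root_.mul_inv_cancel_right, Category.id_comp]
        · simp
      inv_hom_id := by
        apply CartesianMonoidalCategory.hom_ext
        · rw [Category.assoc, lift_fst, MonObj.comp_mul, lift_fst, lift_snd,
            _root_.inv_mul_cancel_right, Category.id_comp]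
        · simp }
  haveI : IsIso Θ.hom.left := ((Over.forget _).mapIso Θ).isIso_hom
  let σ : G ⊗ H ≅ G ⊗ H :=
    { hom := lift (fst G H) ((fst G H ≫ u) * snd G H)
      inv := lift (fst G H) ((fst G H ≫ u)⁻¹ * snd G H)
      hom_inv_id := by
        apply CartesianMonoidalCategory.hom_ext
        · simp
        · rw [Category.assoc, lift_snd, MonObj.comp_mul, GrpObj.comp_inv, lift_fst_assoc, lift_snd,
            _root_.inv_mul_cancel_left, Category.id_comp]
      inv_hom_id := by
        apply CartesianMonoidalCategory.hom_ext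
        · simp
        · rw [Category.assoc, lift_snd, MonObj.comp_mul, lift_fst_assoc, lift_snd,
            _root_.mul_inv_cancel_left, Category.id_comp] }
  haveI : IsIso σ.hom.left := ((Over.forget _).mapIso σ).isIso_hom
  let W' : (G ⊗ G).left.Opens := (snd G G).left ⁻¹ᵁ W
  let p : (W' : Scheme.{u}) ⟶ G.left := W'.ι ≫ (fst G G * snd G G).left
  let v : (W' : Scheme.{u}) ⟶ (G ⊗ H).left := W'.ι ≫ (G ◁ u).left ≫ σ.hom.left
  have hfst : ∀ (Q : MorphismProperty Scheme.{u}) [Q.IsStableUnderBaseChange], Q (W.ι ≫ G.hom) →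
      Q (W'.ι ≫ (fst G G).left) := fun Q _ hQ =>
    MorphismProperty.of_isPullback
      ((isPullback_morphismRestrict (snd G G).left W).paste_vert
        (GrpSchLib.isPullback_fst_snd : IsPullback (fst G G).left (snd G G).left G.hom G.hom).flip) hQ
  have hrange : Set.range (W'.ι ≫ Θ.hom.left) = Set.range W'.ι := by
    rw [Scheme.Hom.comp_base, TopCat.coe_comp, Set.range_comp, Scheme.Opens.range_ι]
    have e : ∀ z, (snd G G).left (Θ.hom.left z) = (snd G G).left z := fun z => by
      rw [← Scheme.Hom.comp_apply, ← Over.comp_left, lift_snd]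
    refine Set.Subset.antisymm ?_ fun z hz => ?_
    · rintro _ ⟨z, hz, rfl⟩
      show (snd G G).left (Θ.hom.left z) ∈ W
      rw [e]; exact hz
    · obtain ⟨y, rfl⟩ := Θ.hom.left.homeomorph.surjective z
      exact ⟨y, show (snd G G).left y ∈ W from e y ▸ hz, rfl⟩
  let l := IsOpenImmersion.isoOfRangeEq (W'.ι ≫ Θ.hom.left) W'.ι hrange
  have hp : p = l.hom ≫ W'.ι ≫ (fst G G).left := by
    rw [IsOpenImmersion.isoOfRangeEq_hom_fac_assoc, Category.assoc, ← Over.comp_left, lift_fst]
  have hW : Surjective (W.ι ≫ G.hom) := ⟨hWs⟩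
  refine ⟨W', p, v, ?_, ?_, ?_, ?_, ?_⟩
  · rw [hp]; exact MorphismProperty.RespectsIso.precomp _ _ _ (hfst @Flat inferInstance)
  · rw [hp]; exact MorphismProperty.RespectsIso.precomp _ _ _ (hfst @LocallyOfFinitePresentation inferInstance)
  · rw [hp]; exact MorphismProperty.RespectsIso.precomp _ _ _ (hfst @Surjective hW)
  · have hb : P (W'.ι ≫ (G ◁ u).left) := by
      refine MorphismProperty.of_isPullback ((isPullback_morphismRestrict (snd G G).left W).paste_vert
        (IsPullback.of_bot (h₂₁ := (snd G H).left) (v₂₁ := (fst G H).left) (v₂₂ := H.hom) (h₃₁ := G.hom) ?_ ?_ ?_)) h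
      · rw [← Over.comp_left, whiskerLeft_fst, Over.w]
        exact (GrpSchLib.isPullback_fst_snd : IsPullback (fst G G).left (snd G G).left G.hom G.hom).flip
      · rw [← Over.comp_left, ← Over.comp_left, whiskerLeft_snd]
      · exact (GrpSchLib.isPullback_fst_snd : IsPullback (fst G H).left (snd G H).left G.hom H.hom).flip
    show P (W'.ι ≫ (G ◁ u).left ≫ σ.hom.left)
    rw [← Category.assoc]
    exact MorphismProperty.RespectsIso.postcomp _ _ _ hb
  · show (W'.ι ≫ (fst G G * snd G G).left) ≫ u.left = (W'.ι ≫ (G ◁ u).left ≫ σ.hom.left) ≫ (snd G H).left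
    simp only [Category.assoc, ← Over.comp_left]
    congr 2
    rw [lift_snd, MonObj.mul_comp, MonObj.comp_mul, whiskerLeft_fst_assoc, whiskerLeft_snd]

/-- Flatness, local finite presentation from one open. -/
theorem lfp_of_open [Flat G.hom] [LocallyOfFinitePresentation G.hom] (W : G.left.Opens)
    (hWs : Function.Surjective (W.ι ≫ G.hom)) (h : LocallyOfFinitePresentation (W.ι ≫ u.left)) :
    LocallyOfFinitePresentation u.left := by
  obtain ⟨V, p, v, _, _, _, hv, hcomp⟩ :=
    exists_cover u @LocallyOfFinitePresentation W hWs h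
  haveI : LocallyOfFinitePresentation (snd G H).left :=
    MorphismProperty.of_isPullback (GrpSchLib.isPullback_fst_snd (T := G) (G := H)) ‹_›
  haveI : LocallyOfFinitePresentation (p ≫ u.left) := by rw [hcomp]; infer_instance
  exact FppfSrc.locallyOfFinitePresentation_of_precomp_fppf p u.left

/-- Flatness from one open. -/
theorem flat_of_open [Flat G.hom] [LocallyOfFinitePresentation G.hom] (W : G.left.Opens)
    (hWs : Function.Surjective (W.ι ≫ G.hom)) (h : Flat (W.ι ≫ u.left)) : Flat u.left := by
  obtain ⟨V, p, v, _, _, _, hv, hcomp⟩ := exists_cover u @Flat W hWs h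
  haveI : Flat (snd G H).left :=
    MorphismProperty.of_isPullback (GrpSchLib.isPullback_fst_snd (T := G) (G := H)) ‹_›
  haveI : Flat (p ≫ u.left) := by rw [hcomp]; infer_instance
  exact FppfSrc.of_precomp_fppf (P := @Flat) FppfSrc.descendsFppfSource_flat p u.left ‹_›

/-- The fibres have a property stable under base change and translation, from one open. -/
theorem fibres_of_open {A : Type u} [CommRing A] [IsLocalRing A] [IsArtinianRing A]
    {G H : Over (Spec (CommRingCat.of A))} [GrpObj G] [GrpObj H] [LocallyOfFiniteType G.hom]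
    (u : G ⟶ H) [IsMonHom u] (P : MorphismProperty Scheme.{u})
    [IsZariskiLocalAtSource P] [P.IsStableUnderBaseChange]
    [P.DescendsAlong (@Surjective ⊓ @Flat ⊓ @QuasiCompact)] (W : G.left.Opens)
    (hW : (W : Set G.left).Nonempty) (h : P (W.ι ≫ u.left)) (y : H.left) :
    P (u.left.fiberToSpecResidueField y) := by
  haveI : Subsingleton (Spec (CommRingCat.of A)) := inferInstanceAs (Subsingleton (PrimeSpectrum A))
  refine FlatLocus.fiberToSpec_of_fibres u.left H.hom P (fun s => ?_) y
  let ι₀ : Spec (CommRingCat.of ((Spec (CommRingCat.of A)).residueField s)) ⟶ Spec (CommRingCat.of A) :=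
    (Spec (CommRingCat.of A)).fromSpecResidueField s
  letI : GrpObj ((Over.pullback ι₀).obj G) := Functor.grpObjObj
  letI : GrpObj ((Over.pullback ι₀).obj H) := Functor.grpObjObj
  haveI : LocallyOfFiniteType ((Over.pullback ι₀).obj G).hom :=
    MorphismProperty.pullback_snd G.hom ι₀ ‹_›
  let p : pullback G.hom ι₀ ⟶ G.left := pullback.fst G.hom ι₀
  let q : pullback H.hom ι₀ ⟶ H.left := pullback.fst H.hom ι₀
  have hsq : IsPullback p ((Over.pullback ι₀).map u).left u.left q := by
    refine IsPullback.of_bot (v₂₁ := pullback.snd H.hom ι₀) (v₂₂ := H.hom) (h₃₁ := ι₀) ?_ ?_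
      (IsPullback.of_hasPullback H.hom ι₀)
    · rw [show ((Over.pullback ι₀).map u).left ≫ pullback.snd H.hom ι₀ = pullback.snd G.hom ι₀ from
        pullback.lift_snd _ _ _, Over.w u]
      exact IsPullback.of_hasPullback G.hom ι₀
    · exact (pullback.lift_fst _ _ _).symm
  haveI : Surjective ι₀ := ⟨fun t => ⟨IsLocalRing.closedPoint _, Subsingleton.elim _ _⟩⟩
  haveI : Surjective p := inferInstanceAs (Surjective (pullback.fst G.hom ι₀))
  have hne : ((p ⁻¹ᵁ W) : Set ↥(pullback G.hom ι₀)).Nonempty := by
    obtain ⟨x, hx⟩ := hW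
    obtain ⟨z, hz⟩ := p.surjective x
    exact ⟨z, show p z ∈ W from hz ▸ hx⟩
  have hWp : P ((p ⁻¹ᵁ W).ι ≫ ((Over.pullback ι₀).map u).left) :=
    MorphismProperty.of_isPullback ((isPullback_morphismRestrict p W).paste_vert hsq) h
  have hk := HomLocus.of_open P ((Over.pullback ι₀).map u) (p ⁻¹ᵁ W) hne hWp
  show P (pullback.snd u.left q)
  rw [← hsq.flip.flip.isoPullback_inv_snd]
  exact MorphismProperty.RespectsIso.precomp P _ _ hk

/-- The four properties of a homomorphism spread from one open over an Artinian local base. -/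
theorem spread {A : Type u} [CommRing A] [IsLocalRing A] [IsArtinianRing A]
    {G H : Over (Spec (CommRingCat.of A))} [GrpObj G] [GrpObj H] [Flat G.hom] [LocallyOfFiniteType G.hom]
    (u : G ⟶ H) [IsMonHom u] (W : G.left.Opens) (hW : (W : Set G.left).Nonempty) :
    (LocallyQuasiFinite (W.ι ≫ u.left) → LocallyQuasiFinite u.left) ∧
    (FormallyUnramified (W.ι ≫ u.left) → LocallyOfFinitePresentation (W.ι ≫ u.left) →
      FormallyUnramified u.left ∧ LocallyOfFinitePresentation u.left) ∧
    (Smooth (W.ι ≫ u.left) → Smooth u.left) ∧ (Etale (W.ι ≫ u.left) → Etale u.left) := by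
  haveI : Subsingleton (Spec (CommRingCat.of A)) := inferInstanceAs (Subsingleton (PrimeSpectrum A))
  haveI : IsLocallyNoetherian (Spec (CommRingCat.of A)) := inferInstance
  haveI : LocallyOfFinitePresentation G.hom :=
    LocallyOfFinitePresentation.iff_locallyOfFiniteType.mpr inferInstance
  haveI : LocallyOfFiniteType (u.left ≫ H.hom) := by rw [Over.w]; infer_instance
  haveI : LocallyOfFiniteType u.left := locallyOfFiniteType_of_comp u.left H.hom
  have hWs : Function.Surjective (W.ι ≫ G.hom) := fun t => by
    obtain ⟨x, hx⟩ := hW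
    exact ⟨⟨x, hx⟩, Subsingleton.elim _ _⟩
  have hfu : FormallyUnramified (W.ι ≫ u.left) → FormallyUnramified u.left := fun h =>
    FlatLocus.formallyUnramified_of_fibres u.left (fibres_of_open u @FormallyUnramified W hW h)
  have hsm : Smooth (W.ι ≫ u.left) → Smooth u.left := fun h => by
    haveI := h
    haveI := flat_of_open u W hWs inferInstance
    haveI := lfp_of_open u W hWs inferInstance
    exact Smooth.of_smooth_fiberToSpecResidueField u.left (fibres_of_open u @Smooth W hW h)
  refine ⟨fun h => ?_, fun h h' => ⟨hfu h, lfp_of_open u W hWs h'⟩, hsm, fun h => ?_⟩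
  · exact LocallyQuasiFinite.of_fiberToSpecResidueField u.left (fibres_of_open u @LocallyQuasiFinite W hW h)
  · haveI := h
    haveI := hsm inferInstance
    haveI := hfu inferInstance
    exact Etale.of_formallyUnramified_of_flat u.left

end Groth.Agent.MonoFibre.HomSpread
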