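import Groth.Agent.MonoFibre.Irreducible
import Groth.Agent.MonoFibre.HomFlat
import Groth.Agent.MonoFibre.FlatOrbit
import Groth.Agent.MonoFibre.RedSubgroup

/-!
# Orbit maps of homogeneous schemes over a field are generalizing

No finiteness is assumed.
-/

set_option autoImplicit false

universe u

open CategoryTheory MonoidalCategory CartesianMonoidalCategory MonObj GrpObj AlgebraicGeometry Limits

noncomputable section

namespace Groth.Agent.MonoFibre

section Perfect

variable {K : Type u} [Field K] [PerfectField K] {G X : Over (Spec (CommRingCat.of K))} [GrpObj G]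
  (a : AlgGrp.Action G X)

/-- Over a perfect field orbit maps of homogeneous schemes lift generalisations. -/
theorem generalizingMap_orbitMap_perfect (hΦ : Surjective (lift a.act (snd G X)).left)
    (x : 𝟙_ (Over (Spec (CommRingCat.of K))) ⟶ X) : GeneralizingMap (a.orbitMap x).left := by
  obtain ⟨N, _, i, _, _, hNr, hN⟩ := exists_redSubgroup (G := G) Set.univ isClosed_univ trivial
    (fun _ _ _ _ _ => trivial) (fun _ _ _ => trivial)
  let C : TopologicalSpace.Closeds X.left := ⟨Set.univ, isClosed_univ⟩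
  let j := (Scheme.IdealSheafData.vanishingIdeal C).subschemeι
  let Y : Over (Spec (CommRingCat.of K)) := Over.mk (j ≫ X.hom)
  let e : Y ⟶ X := Over.homMk j
  haveI hY : IsReduced Y.left := DVRCrit.isReduced_vanishingIdeal C
  haveI : IsClosedImmersion e.left := inferInstanceAs (IsClosedImmersion j)
  haveI : Mono e := (Over.forget _).mono_of_mono_map (show Mono e.left by infer_instance)
  have he : Set.range e.left = Set.univ := by
    show Set.range j = _
    rw [Scheme.IdealSheafData.range_subschemeι, Scheme.IdealSheafData.coe_support_vanishingIdeal]; rfl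
  have hlift : ∀ {T : Over (Spec (CommRingCat.of K))} (v : T ⟶ X), IsReduced T.left → ∃ v' : T ⟶ Y, v' ≫ e = v := by
    intro T v hT
    haveI := hT
    obtain ⟨z, hz⟩ := FinGrpdLib.exists_lift_reduced v.left C (Set.subset_univ _)
    exact ⟨Over.homMk z (by rw [← Over.w v, ← hz, Category.assoc]; rfl), Over.OverMorphism.ext hz⟩
  obtain ⟨m, hm⟩ := hlift ((i ⊗ₘ e) ≫ a.act) (FinGrpdLib.isReduced_pullback (Iso.refl _) _ _)
  obtain ⟨y, hy⟩ := hlift x (inferInstanceAs (IsReduced (Spec (CommRingCat.of K))))
  have hact : ∀ {T : Over (Spec (CommRingCat.of K))} (p : T ⟶ N) (q : T ⟶ Y),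
      (lift p q ≫ m) ≫ e = lift (p ≫ i) (q ≫ e) ≫ a.act := fun p q => by
    rw [Category.assoc, hm, ← Category.assoc, lift_map]
  let b : AlgGrp.Action N Y :=
    { act := m
      one_act := by
        have h1 : η[N] ▷ Y = lift (fst (𝟙_ _) Y ≫ η[N]) (snd (𝟙_ _) Y) := by
          apply CartesianMonoidalCategory.hom_ext <;> simp
        rw [← cancel_mono e, h1, hact, Category.assoc, IsMonHom.one_hom, toUnit_unique (fst _ _) (toUnit _),
          ← Hom.one_def, act_one, leftUnitor_hom]
      mul_act := by
        have h1 : μ[N] ▷ Y = lift (fst (N ⊗ N) Y ≫ μ[N]) (snd (N ⊗ N) Y) := by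
          apply CartesianMonoidalCategory.hom_ext <;> simp
        have h2 : (α_ N N Y).hom ≫ N ◁ m =
            lift (fst (N ⊗ N) Y ≫ fst N N) (lift (fst (N ⊗ N) Y ≫ snd N N) (snd (N ⊗ N) Y) ≫ m) := by
          apply CartesianMonoidalCategory.hom_ext
          · simp
          · rw [Category.assoc, whiskerLeft_snd, lift_snd, ← Category.assoc]
            congr 1
            apply CartesianMonoidalCategory.hom_ext <;> simp
        have h3 : μ[N] ≫ i = (fst N N ≫ i) * (snd N N ≫ i) := by
          rw [IsMonHom.mul_hom, Hom.mul_def]; congr 1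
        rw [← cancel_mono e, h1, hact, Category.assoc, h3, MonObj.comp_mul, act_mul]
        conv_rhs => rw [← Category.assoc, h2, hact, hact]
        simp only [Category.assoc] }
  have hb : b.orbitMap y ≫ e = i ≫ a.orbitMap x := by
    rw [AlgGrp.Action.orbitMap]
    show (lift (𝟙 N) (toUnit N ≫ y) ≫ m) ≫ e = _
    rw [hact, orbitMap_apply, Category.id_comp, Category.assoc, hy]
  haveI : Flat N.hom := flat_to_spec_field
  haveI : Subsingleton ↥(Spec (CommRingCat.of K)) := inferInstanceAs (Subsingleton (PrimeSpectrum K))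
  obtain ⟨ξ, -, hξ⟩ := exists_isMaxPt (y.left (IsLocalRing.closedPoint K))
  obtain ⟨g, hg⟩ := exists_orbitMap_eq a hΦ x (e.left ξ)
  obtain ⟨n, hn⟩ : g ∈ Set.range i.left := hN.ge (Set.mem_univ g)
  have hnξ : (b.orbitMap y).left n = ξ := e.left.injective (by
    rw [← Scheme.Hom.comp_apply, ← Over.comp_left, hb, Over.comp_left, Scheme.Hom.comp_apply, hn, hg])
  haveI : Flat (b.orbitMap y).left := flat_orbitMap_of_flat_at b y ⟨n, by
    letI := (isField_stalk_of_isMaxPt (y := (b.orbitMap y).left n) (hnξ.symm ▸ hξ)).toField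
    exact flat_of_field _⟩
  intro g₁ ξ' hξ'
  obtain ⟨n₁, rfl⟩ : g₁ ∈ Set.range i.left := hN.ge (Set.mem_univ g₁)
  obtain ⟨v, rfl⟩ : ξ' ∈ Set.range e.left := he.ge (Set.mem_univ ξ')
  have h1 : v ⤳ (b.orbitMap y).left n₁ := by
    refine e.left.isEmbedding.isInducing.specializes_iff.mp ?_
    rwa [← Scheme.Hom.comp_apply, ← Over.comp_left, hb, Over.comp_left, Scheme.Hom.comp_apply]
  obtain ⟨n₂, hn₂, rfl⟩ := Flat.generalizingMap (b.orbitMap y).left h1
  refine ⟨i.left n₂, hn₂.map i.left.continuous, ?_⟩
  rw [← Scheme.Hom.comp_apply, ← Over.comp_left, ← hb, Over.comp_left, Scheme.Hom.comp_apply]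

end Perfect

end Groth.Agent.MonoFibre
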