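import Groth.Agent.MonoFibre.FixedPt
import Groth.Prelude.Def_Red

/-!
# Schemes homogeneous under a group with connected fibres are separated
-/

set_option autoImplicit false

universe u

open CategoryTheory MonoidalCategory CartesianMonoidalCategory MonObj GrpObj AlgebraicGeometry Limits

noncomputable section

namespace Groth.Agent.MonoFibre

theorem isIso_residueFieldMap {A B : Scheme.{u}} (f : A ⟶ B) [IsPreimmersion f] (a : A) :
    IsIso (f.residueFieldMap a) := by
  rw [ConcreteCategory.isIso_iff_bijective]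
  refine ⟨RingHom.injective _, fun y => ?_⟩
  obtain ⟨t, rfl⟩ := A.residue_surjective a y
  obtain ⟨s, rfl⟩ := f.stalkMap_surjective a t
  refine ⟨B.residue (f a) s, ?_⟩
  rw [← CommRingCat.comp_apply, Scheme.residue_residueFieldMap]
  rfl

/-- A point of a fibre square lies on the diagonal iff its two projections agree on its residue field. -/
theorem mem_diagonal_range_iff {X S : Scheme.{u}} (f : X ⟶ S) (v : (pullback f f : Scheme.{u})) :
    v ∈ Set.range (pullback.diagonal f) ↔
      (pullback f f).fromSpecResidueField v ≫ pullback.fst f f =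
        (pullback f f).fromSpecResidueField v ≫ pullback.snd f f := by
  constructor
  · rintro ⟨x, rfl⟩
    haveI := isIso_residueFieldMap (pullback.diagonal f) x
    rw [← cancel_epi (Spec.map ((pullback.diagonal f).residueFieldMap x)),
      Scheme.Hom.SpecMap_residueFieldMap_fromSpecResidueField_assoc,
      Scheme.Hom.SpecMap_residueFieldMap_fromSpecResidueField_assoc, pullback.diagonal_fst, pullback.diagonal_snd]
  · intro he
    have hr : ((pullback f f).fromSpecResidueField v ≫ pullback.fst f f) ≫ pullback.diagonal f =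
        (pullback f f).fromSpecResidueField v := by
      apply pullback.hom_ext
      · rw [Category.assoc, pullback.diagonal_fst, Category.comp_id]
      · rw [Category.assoc, pullback.diagonal_snd, Category.comp_id]; exact he
    let pt : ↥(Spec ((pullback f f).residueField v)) := IsLocalRing.closedPoint _
    exact ⟨((pullback f f).fromSpecResidueField v ≫ pullback.fst f f) pt, by
      rw [← Scheme.Hom.comp_apply, hr, Scheme.fromSpecResidueField_apply]⟩

/-- The same criterion for a morphism into the fibre square. -/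
theorem mem_diagonal_range_iff_comp {X S V : Scheme.{u}} (f : X ⟶ S) (q : V ⟶ pullback f f) (v : V) :
    q v ∈ Set.range (pullback.diagonal f) ↔
      V.fromSpecResidueField v ≫ q ≫ pullback.fst f f = V.fromSpecResidueField v ≫ q ≫ pullback.snd f f := by
  rw [mem_diagonal_range_iff, ← cancel_epi (Spec.map (q.residueFieldMap v)),
    Scheme.Hom.SpecMap_residueFieldMap_fromSpecResidueField_assoc,
    Scheme.Hom.SpecMap_residueFieldMap_fromSpecResidueField_assoc]

variable {S : Scheme.{u}} {G X : Over S} [GrpObj G] (a : AlgGrp.Action G X)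

theorem act_left_cancel {V : Over S} (g : V ⟶ G) (x y : V ⟶ X) :
    lift g x ≫ a.act = lift g y ≫ a.act ↔ x = y := by
  refine ⟨fun h => ?_, fun h => h ▸ rfl⟩
  have := congrArg (fun z => lift g⁻¹ z ≫ a.act) h
  simpa only [← act_mul, inv_mul_cancel, act_one] using this

variable [UniversallyOpen G.hom] (hconn : ∀ s : S, ConnectedSpace (G.hom.fiber s))

include hconn in
theorem irreducibleSpace_bc {K : Type u} [Field K] (j : Spec (CommRingCat.of K) ⟶ S) :
    IrreducibleSpace ↥(Red.bc j G).left := by
  haveI : GeometricallyConnected G.hom :=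
    geometricallyConnected_of_connected_fibres G.hom η[G].left (Over.w η[G]) hconn
  haveI : ConnectedSpace ↥(Red.bc j G).left :=
    GeometricallyConnected.connectedSpace_of_subsingleton (pullback.snd G.hom j)
  exact GrpSchLib.irreducibleSpace_of_connectedSpace

include hconn in
theorem isSeparated_of_homogeneous (hΦ : Surjective (lift a.act (snd G X)).left) : IsSeparated X.hom := by
  rw [isSeparated_iff]
  refine IsClosedImmersion.of_isPreimmersion _ (isClosed_of_closure_subset fun (z : (X ⊗ X).left) hz => ?_)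
  let D : Set (X ⊗ X).left := Set.range (pullback.diagonal X.hom)
  -- an affine chart around the first point, separated over the base
  obtain ⟨_, ⟨(Vb : S.Opens), hVb, rfl⟩, hsV, -⟩ := S.isBasis_affineOpens.exists_subset_of_mem_open
    (Set.mem_univ ((X ⊗ X).hom z)) isOpen_univ
  have hxV : (fst X X).left z ∈ X.hom ⁻¹ᵁ Vb := by
    show X.hom ((fst X X).left z) ∈ Vb
    rw [← Scheme.Hom.comp_apply, Over.w]
    exact hsV
  obtain ⟨_, ⟨(U : X.left.Opens), hU, rfl⟩, hxU, hUV⟩ := X.left.isBasis_affineOpens.exists_subset_of_mem_open hxV (X.hom ⁻¹ᵁ Vb).2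
  let pU : (U : Scheme.{u}) ⟶ S := U.ι ≫ X.hom
  haveI : IsSeparated pU := by
    haveI : IsAffine (U : Scheme.{u}) := hU
    haveI : IsAffine (Vb : Scheme.{u}) := hVb
    rw [show pU = IsOpenImmersion.lift Vb.ι pU (by
      rw [Scheme.Opens.range_ι]
      rintro _ ⟨y, rfl⟩
      exact hUV y.2) ≫ Vb.ι from (IsOpenImmersion.lift_fac _ _ _).symm]
    infer_instance
  let P := G ⊗ (X ⊗ X)
  let α : P ⟶ X := lift (fst _ _) (snd _ _ ≫ fst X X) ≫ a.act
  let β : P ⟶ X := lift (fst _ _) (snd _ _ ≫ snd X X) ≫ a.act
  let m : P ⟶ X ⊗ X := lift α β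
  let V : Set P.left := α.left ⁻¹' U ∩ β.left ⁻¹' U
  have hV : IsOpen V := (U.2.preimage α.left.continuous).inter (U.2.preimage β.left.continuous)
  have hiff : ∀ p : P.left, m.left p ∈ D ↔ (snd G (X ⊗ X)).left p ∈ D := fun p => by
    let e : Over.mk (P.left.fromSpecResidueField p ≫ P.hom) ⟶ P := Over.homMk (P.left.fromSpecResidueField p) rfl
    show m.left p ∈ Set.range (pullback.diagonal X.hom) ↔ (snd G (X ⊗ X)).left p ∈ Set.range (pullback.diagonal X.hom)
    rw [mem_diagonal_range_iff_comp X.hom m.left p, mem_diagonal_range_iff_comp X.hom (snd G (X ⊗ X)).left p]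
    show (e ≫ m ≫ fst X X).left = (e ≫ m ≫ snd X X).left ↔
      (e ≫ snd G (X ⊗ X) ≫ fst X X).left = (e ≫ snd G (X ⊗ X) ≫ snd X X).left
    have h := act_left_cancel a (e ≫ fst _ _) (e ≫ snd G (X ⊗ X) ≫ fst X X) (e ≫ snd G (X ⊗ X) ≫ snd X X)
    simp only [m, α, β, lift_fst, lift_snd, comp_lift_assoc]
    exact ⟨fun h' => congrArg (fun q => q.left) (h.1 (Over.OverMorphism.ext h')),
      fun h' => congrArg (fun q => q.left) (h.2 (Over.OverMorphism.ext h'))⟩
  -- a point of `V` over `z`
  obtain ⟨p, hpV, hpz⟩ : ∃ p ∈ V, (snd G (X ⊗ X)).left p = z := by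
    let K : Type u := (X ⊗ X).left.residueField z
    let j : Spec (CommRingCat.of K) ⟶ S := (X ⊗ X).left.fromSpecResidueField z ≫ (X ⊗ X).hom
    haveI := irreducibleSpace_bc (G := G) hconn j
    let GK := Red.bc j G
    let zT : Over.mk j ⟶ X ⊗ X := Over.homMk ((X ⊗ X).left.fromSpecResidueField z) rfl
    let gK : (Over.map j).obj GK ⟶ G := (Over.mapPullbackAdj j).counit.app G
    let str : (Over.map j).obj GK ⟶ Over.mk j := Over.homMk GK.hom rfl
    let pr : (Over.map j).obj GK ⟶ P := lift gK (str ≫ zT)
    have hz' : ∀ w : GK.left, (snd G (X ⊗ X)).left (pr.left w) = z := fun w => by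
      rw [← Scheme.Hom.comp_apply, ← Over.comp_left, lift_snd, Over.comp_left, Scheme.Hom.comp_apply]
      exact Scheme.fromSpecResidueField_apply z _
    have hA : (pr.left ⁻¹' (α.left ⁻¹' U)).Nonempty := by
      let pt : ↥(Spec (CommRingCat.of K)) := IsLocalRing.closedPoint K
      let s : Over.mk j ⟶ (Over.map j).obj GK :=
        (Over.homMk (𝟙 _) (Category.id_comp _) : Over.mk j ⟶ (Over.map j).obj (Over.mk (𝟙 _))) ≫
          (Over.map j).map η[GK]
      refine ⟨s.left pt, ?_⟩
      show α.left (pr.left (s.left pt)) ∈ U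
      rw [← Scheme.Hom.comp_apply, ← Over.comp_left, ← Scheme.Hom.comp_apply, ← Over.comp_left]
      have h0 : (Over.map j).map η[GK] ≫ gK = (1 : (Over.map j).obj (𝟙_ (Over (Spec (CommRingCat.of K)))) ⟶ G) := by
        apply ((Over.mapPullbackAdj j).homEquiv _ _).injective
        rw [Adjunction.homEquiv_unit, Adjunction.homEquiv_unit, Functor.map_one, MonObj.comp_one]
        simp only [gK, Functor.map_comp, Adjunction.unit_naturality_assoc]
        erw [Adjunction.right_triangle_components, Category.comp_id]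
        show η[GK] = _
        rw [Hom.one_def, toUnit_unique (toUnit _) (𝟙 _), Category.id_comp]
      have h1 : s ≫ gK = (1 : Over.mk j ⟶ G) := by
        show (_ ≫ (Over.map j).map η[GK]) ≫ gK = _
        rw [Category.assoc, h0]
        exact MonObj.comp_one _
      have h2 : s ≫ str = 𝟙 _ := Over.OverMorphism.ext (by
        show (𝟙 _ ≫ η[GK].left) ≫ GK.hom = 𝟙 _
        rw [Category.id_comp, Over.w η[GK]]
        rfl)
      have h3 : s ≫ pr ≫ α = zT ≫ fst X X := by
        simp only [α, pr, comp_lift_assoc, lift_fst, lift_snd_assoc, Category.assoc, reassoc_of% h2, h1, act_one]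
      rw [h3, Over.comp_left, Scheme.Hom.comp_apply]
      show (fst X X).left ((X ⊗ X).left.fromSpecResidueField z pt) ∈ U
      rw [Scheme.fromSpecResidueField_apply]
      exact hxU
    have hB : (pr.left ⁻¹' (β.left ⁻¹' U)).Nonempty := by
      obtain ⟨q, hq⟩ := hΦ.surj z
      subst hq
      let Φ := lift a.act (snd G X)
      let e : Over.mk ((G ⊗ X).left.fromSpecResidueField q ≫ (G ⊗ X).hom) ⟶ G ⊗ X :=
        Over.homMk ((G ⊗ X).left.fromSpecResidueField q) rfl
      let ρ := Spec.map (Φ.left.residueFieldMap q)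
      have hρ : ρ ≫ (X ⊗ X).left.fromSpecResidueField (Φ.left q) = (G ⊗ X).left.fromSpecResidueField q ≫ Φ.left :=
        Scheme.Hom.SpecMap_residueFieldMap_fromSpecResidueField _ _
      let pt : ↥(Spec ((G ⊗ X).left.residueField q)) := IsLocalRing.closedPoint _
      let w : Spec ((G ⊗ X).left.residueField q) ⟶ GK.left := pullback.lift (e ≫ fst G X).left ρ (by
        show _ = ρ ≫ (X ⊗ X).left.fromSpecResidueField (Φ.left q) ≫ (X ⊗ X).hom
        rw [Over.w (e ≫ fst G X), reassoc_of% hρ, Over.w Φ]
        rfl)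
      let wO : Over.mk ((G ⊗ X).left.fromSpecResidueField q ≫ (G ⊗ X).hom) ⟶ (Over.map j).obj GK :=
        Over.homMk w (by
          show w ≫ pullback.snd G.hom j ≫ j = _
          rw [pullback.lift_snd_assoc]
          show ρ ≫ (X ⊗ X).left.fromSpecResidueField (Φ.left q) ≫ (X ⊗ X).hom = _
          rw [reassoc_of% hρ, Over.w Φ]
          rfl)
      have h1 : wO ≫ gK = e ≫ fst G X := by
        ext
        exact pullback.lift_fst _ _ _
      have h2 : wO ≫ str ≫ zT = e ≫ Φ := by
        apply Over.OverMorphism.ext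
        show w ≫ pullback.snd G.hom j ≫ (X ⊗ X).left.fromSpecResidueField (Φ.left q) = _
        rw [pullback.lift_snd_assoc]
        exact hρ
      refine ⟨wO.left pt, ?_⟩
      show β.left (pr.left (wO.left pt)) ∈ U
      rw [← Scheme.Hom.comp_apply, ← Over.comp_left, ← Scheme.Hom.comp_apply, ← Over.comp_left]
      have h3 : wO ≫ pr ≫ β = e ≫ Φ ≫ fst X X := by
        simp only [β, pr, comp_lift_assoc, lift_fst, lift_snd_assoc, Category.assoc, reassoc_of% h2, h1, Φ, lift_snd]
        simp
      rw [h3, Over.comp_left, Scheme.Hom.comp_apply, Over.comp_left, Scheme.Hom.comp_apply]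
      show (fst X X).left (Φ.left ((G ⊗ X).left.fromSpecResidueField q pt)) ∈ U
      rw [Scheme.fromSpecResidueField_apply]
      exact hxU
    haveI : PreirreducibleSpace ↥((Over.map j).obj GK).left := inferInstanceAs (PreirreducibleSpace ↥GK.left)
    obtain ⟨w, hwA, hwB⟩ := nonempty_preirreducible_inter ((U.2.preimage α.left.continuous).preimage pr.left.continuous)
      ((U.2.preimage β.left.continuous).preimage pr.left.continuous) hA hB
    exact ⟨pr.left w, ⟨hwA, hwB⟩, hz' w⟩
  haveI : UniversallyOpen (snd G (X ⊗ X)).left :=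
    MorphismProperty.of_isPullback (P := @UniversallyOpen) (IsPullback.of_hasPullback G.hom (X ⊗ X).hom) inferInstance
  have hp : p ∈ closure (V ∩ m.left ⁻¹' D) := by
    have h1 : p ∈ closure ((snd G (X ⊗ X)).left ⁻¹' D) := by
      rw [← (snd G (X ⊗ X)).left.isOpenMap.preimage_closure_eq_closure_preimage (Scheme.Hom.continuous _)]
      show (snd G (X ⊗ X)).left p ∈ closure D
      rwa [hpz]
    rw [show V ∩ m.left ⁻¹' D = V ∩ (snd G (X ⊗ X)).left ⁻¹' D from Set.ext fun q => and_congr_right fun _ => hiff q]
    exact hV.inter_closure ⟨hpV, h1⟩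
  let jU : pullback pU pU ⟶ (X ⊗ X).left :=
    pullback.map pU pU X.hom X.hom U.ι U.ι (𝟙 S) (Category.comp_id _) (Category.comp_id _)
  have hrange : ∀ q ∈ V, m.left q ∈ Set.range jU := fun q hq => by
    rw [Scheme.Pullback.range_map, Scheme.Opens.range_ι]
    constructor
    · show (fst X X).left (m.left q) ∈ U
      rw [← Scheme.Hom.comp_apply, ← Over.comp_left, lift_fst]
      exact hq.1
    · show (snd X X).left (m.left q) ∈ U
      rw [← Scheme.Hom.comp_apply, ← Over.comp_left, lift_snd]
      exact hq.2
  have hdiag : pullback.diagonal pU ≫ jU = U.ι ≫ pullback.diagonal X.hom := by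
    apply pullback.hom_ext
    · simp only [jU, pullback.map, Category.assoc, pullback.diagonal_fst, Category.comp_id]
      erw [pullback.lift_fst, pullback.diagonal_fst_assoc]
    · simp only [jU, pullback.map, Category.assoc, pullback.diagonal_snd, Category.comp_id]
      erw [pullback.lift_snd, pullback.diagonal_snd_assoc]
  obtain ⟨w, hw⟩ := hrange p hpV
  have hw' : w ∈ closure (Set.range (pullback.diagonal pU)) := by
    have hsub : V ∩ m.left ⁻¹' D ⊆ m.left ⁻¹' (jU '' Set.range (pullback.diagonal pU)) := by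
      rintro q ⟨hqV, x, hx⟩
      obtain ⟨v, hv⟩ := hrange q hqV
      have hxU' : x ∈ U := by
        have h := congrArg (fun t => (fst X X).left t) hx
        have h1 : (fst X X).left (pullback.diagonal X.hom x) = x := by
          show (pullback.diagonal X.hom ≫ pullback.fst X.hom X.hom) x = x
          rw [pullback.diagonal_fst]; rfl
        rw [h1] at h
        rw [h, ← Scheme.Hom.comp_apply, ← Over.comp_left, lift_fst]
        exact hqV.1
      refine ⟨pullback.diagonal pU ⟨x, hxU'⟩, ⟨_, rfl⟩, ?_⟩
      erw [← Scheme.Hom.comp_apply, hdiag, Scheme.Hom.comp_apply]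
      exact hx
    have h2 : m.left p ∈ closure (jU '' Set.range (pullback.diagonal pU)) :=
      m.left.continuous.closure_preimage_subset _ (closure_mono hsub hp)
    rw [← hw] at h2
    rwa [jU.isEmbedding.closure_eq_preimage_closure_image]
  rw [(pullback.diagonal pU).isClosedEmbedding.isClosed_range.closure_eq] at hw'
  obtain ⟨x, rfl⟩ := hw'
  have hD : m.left p ∈ D := by
    rw [← hw, ← Scheme.Hom.comp_apply, hdiag, Scheme.Hom.comp_apply]
    exact ⟨_, rfl⟩
  exact hpz ▸ (hiff p).1 hD

end Groth.Agent.MonoFibre
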