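import Groth.Agent.MonoFibre.Components
import Groth.Agent.MonoFibre.Homogeneous2

/-!
# Connected homogeneous schemes over a field are irreducible
-/

set_option autoImplicit false

universe u

open CategoryTheory MonoidalCategory CartesianMonoidalCategory MonObj GrpObj AlgebraicGeometry Limits

noncomputable section

namespace Groth.Agent.MonoFibre

section Adjoint

variable {S S' : Scheme.{u}} (j : S' ⟶ S) {G X : Over S} [GrpObj G] (a : AlgGrp.Action G X)

/-- The base changed action, read over the base. -/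
theorem bcAction_counit {V : Over S'} (g : V ⟶ Red.bc j G) (x : V ⟶ Red.bc j X) :
    (Over.map j).map (lift g x ≫ (bcAction j a).act) ≫ (Over.mapPullbackAdj j).counit.app X =
      lift ((Over.map j).map g ≫ (Over.mapPullbackAdj j).counit.app G)
        ((Over.map j).map x ≫ (Over.mapPullbackAdj j).counit.app X) ≫ a.act := by
  let adj := Over.mapPullbackAdj j
  apply (adj.homEquiv _ _).injective
  have hu : ∀ {A : Over S} (v : V ⟶ Red.bc j A),
      adj.unit.app V ≫ (Over.pullback j).map ((Over.map j).map v ≫ adj.counit.app A) = v := fun {A} v =>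
    (adj.homEquiv_unit (X := V) (Y := A) _).symm.trans
      ((congrArg _ (adj.homEquiv_counit (X := V) (Y := A) _).symm).trans ((adj.homEquiv _ _).apply_symm_apply _))
  refine ((congrArg _ (adj.homEquiv_counit (X := V) (Y := X) _).symm).trans
    ((adj.homEquiv _ _).apply_symm_apply _)).trans ?_
  rw [adj.homEquiv_unit]
  have hl : (Over.pullback j).map (lift ((Over.map j).map g ≫ adj.counit.app G) ((Over.map j).map x ≫ adj.counit.app X)) =
      lift ((Over.pullback j).map ((Over.map j).map g ≫ adj.counit.app G))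
        ((Over.pullback j).map ((Over.map j).map x ≫ adj.counit.app X)) ≫
        Functor.LaxMonoidal.μ (Over.pullback j) G X := by
    rw [← cancel_mono (Functor.OplaxMonoidal.δ (Over.pullback j) G X), Category.assoc, Functor.Monoidal.μ_δ]
    refine Eq.trans ?_ (Category.comp_id _).symm
    apply hom_ext <;> simp [← Functor.map_comp]
  refine Eq.symm ?_
  rw [Functor.map_comp, hl]
  simp only [Category.assoc]
  rw [comp_lift_assoc, bcAction]
  exact congrArg₂ (fun p q => lift p q ≫ Functor.LaxMonoidal.μ (Over.pullback j) G X ≫ (Over.pullback j).map a.act)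
    (hu g) (hu x)

/-- A morphism of the base changed scheme, composed to the original one. -/
theorem left_comp_fst {V : Over S'} {A : Over S} (v : V ⟶ Red.bc j A) :
    v.left ≫ pullback.fst A.hom j = ((Over.map j).map v ≫ (Over.mapPullbackAdj j).counit.app A).left := rfl

theorem one_counit : (Over.map j).map η[Red.bc j G] ≫ (Over.mapPullbackAdj j).counit.app G =
    (1 : (Over.map j).obj (𝟙_ (Over S')) ⟶ G) := by
  apply ((Over.mapPullbackAdj j).homEquiv _ G).injective
  rw [Adjunction.homEquiv_unit, Adjunction.homEquiv_unit, Functor.map_one, MonObj.comp_one]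
  simp only [Functor.map_comp, Adjunction.unit_naturality_assoc]
  erw [Adjunction.right_triangle_components, Category.comp_id]
  show η[Red.bc j G] = _
  rw [Hom.one_def, toUnit_unique (toUnit _) (𝟙 _), Category.id_comp]

end Adjoint

section Field

variable {k : Type u} [Field k] {G X : Over (Spec (CommRingCat.of k))} [GrpObj G]

/-- A point over an extension field as a rational point of the base change. -/
def ratLift {K : Type u} [Field K] {A : Over (Spec (CommRingCat.of k))} (j : Spec (CommRingCat.of K) ⟶ Spec (CommRingCat.of k))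
    (f : Spec (CommRingCat.of K) ⟶ A.left) (hf : f ≫ A.hom = j) :
    𝟙_ (Over (Spec (CommRingCat.of K))) ⟶ Red.bc j A :=
  Over.homMk (pullback.lift f (𝟙 _) (by rw [hf, Category.id_comp])) (pullback.lift_snd _ _ _)

theorem ratLift_fst {K : Type u} [Field K] {A : Over (Spec (CommRingCat.of k))} (j : Spec (CommRingCat.of K) ⟶ Spec (CommRingCat.of k))
    (f : Spec (CommRingCat.of K) ⟶ A.left) (hf : f ≫ A.hom = j) :
    (ratLift j f hf).left ≫ pullback.fst A.hom j = f := pullback.lift_fst _ _ _

theorem mem_idComp_bc {K : Type u} [Field K] (j : Spec (CommRingCat.of K) ⟶ Spec (CommRingCat.of k))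
    {w : (Red.bc j G).left} (hw : pullback.fst G.hom j w ∈ GrpSchLib.idComp G) :
    w ∈ GrpSchLib.idComp (Red.bc j G) := by
  let i := GrpSchLib.idIncl G
  let m : pullback (GrpSchLib.idObj G).hom j ⟶ pullback G.hom j :=
    pullback.map _ _ _ _ i.left (𝟙 _) (𝟙 _) (by rw [Category.comp_id]; exact (Over.w i).symm) (by simp)
  have hrange : Set.range m = (pullback.fst G.hom j) ⁻¹' GrpSchLib.idComp G := by
    rw [Scheme.Pullback.range_map, GrpSchLib.range_idIncl]
    simp
  haveI : IrreducibleSpace ↥(pullback (GrpSchLib.idObj G).hom j) :=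
    GeometricallyIrreducible.irreducibleSpace_of_subsingleton (pullback.snd (GrpSchLib.idObj G).hom j)
  have hirr : IsIrreducible (Set.range m) := by
    rw [← Set.image_univ]
    exact (IrreducibleSpace.isIrreducible_univ _).image _ m.continuous.continuousOn
  refine GrpSchLib.subset_irreducibleComponent hirr ?_ (hrange.symm ▸ hw)
  rw [hrange]
  show pullback.fst G.hom j (GrpSchLib.unitPt (Red.bc j G)) ∈ GrpSchLib.idComp G
  let pt : ↥(𝟙_ (Over (Spec (CommRingCat.of K)))).left := IsLocalRing.closedPoint K
  have h1 : η[Red.bc j G].left ≫ pullback.fst G.hom j = j ≫ η[G].left := by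
    show ((Functor.LaxMonoidal.ε (Over.pullback j)).left ≫ ((Over.pullback j).map η[G]).left) ≫ _ = _
    rw [Category.assoc]
    refine (congrArg (_ ≫ ·) (pullback.lift_fst _ _ _)).trans ?_
    rw [← Category.assoc]
    refine congrArg (· ≫ η[G].left) ?_
    have h := Over.w (Functor.LaxMonoidal.ε (Over.pullback j))
    have h2 : pullback.fst (𝟙_ (Over (Spec (CommRingCat.of k)))).hom j =
        pullback.snd (𝟙_ (Over (Spec (CommRingCat.of k)))).hom j ≫ j :=
      (Category.comp_id _).symm.trans pullback.condition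
    rw [h2, ← Category.assoc]
    exact (congrArg (· ≫ j) h).trans (Category.id_comp j)
  show pullback.fst G.hom j (η[Red.bc j G].left pt) ∈ GrpSchLib.idComp G
  rw [← Scheme.Hom.comp_apply, h1]
  erw [Scheme.Hom.comp_apply]
  exact (congrArg η[G].left (Subsingleton.elim (α := PrimeSpectrum k) _ _)) ▸ mem_irreducibleComponent

variable [LocallyOfFiniteType G.hom] (a : AlgGrp.Action G X)

/-- Over an algebraic closure of the residue field of a point of an auxiliary scheme. -/
theorem exists_common_maxPt (hΦ : Surjective (lift a.act (snd G X)).left) {T : Scheme.{u}}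
    (t : T ⟶ Spec (CommRingCat.of k)) (p : T) (g : T ⟶ G.left) (x : T ⟶ X.left) (hg : g ≫ G.hom = t) (hx : x ≫ X.hom = t)
    (hgp : g p ∈ GrpSchLib.idComp G) :
    ∃ ξ : X.left, IsMaxPt ξ ∧ ξ ⤳ x p ∧
      ξ ⤳ ((lift (Over.homMk g hg : Over.mk t ⟶ G) (Over.homMk x hx)) ≫ a.act).left p ∧
      ∀ ξ' : X.left, IsMaxPt ξ' → ξ' ⤳ x p → ξ' = ξ := by
  let K : Type u := AlgebraicClosure (T.residueField p)
  let ι₀ : Spec (CommRingCat.of K) ⟶ T :=
    Spec.map (CommRingCat.ofHom (algebraMap (T.residueField p) K)) ≫ T.fromSpecResidueField p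
  let pt : ↥(𝟙_ (Over (Spec (CommRingCat.of K)))).left := IsLocalRing.closedPoint K
  have hι₀ : ∀ w, ι₀ w = p := fun w => by
    rw [Scheme.Hom.comp_apply]
    exact Scheme.fromSpecResidueField_apply p _
  let j : Spec (CommRingCat.of K) ⟶ Spec (CommRingCat.of k) := ι₀ ≫ t
  haveI : LocallyOfFiniteType (Red.bc j G).hom := inferInstanceAs (LocallyOfFiniteType (pullback.snd G.hom j))
  haveI : Flat j := by
    rw [← Spec.map_preimage j, HasRingHomProperty.Spec_iff (P := @Flat)]
    exact flat_of_field _
  let gK := ratLift (A := G) j (ι₀ ≫ g) (by rw [Category.assoc, hg])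
  let xK := ratLift (A := X) j (ι₀ ≫ x) (by rw [Category.assoc, hx])
  let A := bcAction j a
  have hA := bcAction_surjective j a hΦ
  obtain ⟨θ₀, hθ₀, hθ₀max⟩ := exists_isMaxPt (GrpSchLib.unitPt (Red.bc j G))
  let b := (A.orbitMap xK).left θ₀
  let q := pullback.fst X.hom j
  have hqx : q (xK.left pt) = x p := by
    rw [← Scheme.Hom.comp_apply, ratLift_fst]
    erw [Scheme.Hom.comp_apply]
    rw [hι₀]
  have hb : b ⤳ xK.left pt := orbit_theta_specializes A xK hθ₀
  have hgK : gK.left pt ∈ GrpSchLib.idComp (Red.bc j G) := mem_idComp_bc j (by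
    rw [← Scheme.Hom.comp_apply, ratLift_fst]
    erw [Scheme.Hom.comp_apply]
    rw [hι₀]
    exact hgp)
  refine ⟨q b, isMaxPt_of_flat q (orbit_theta_isMaxPt A hA xK hθ₀ hθ₀max), hqx ▸ hb.map q.continuous, ?_, ?_⟩
  · have hb' : b ⤳ (translX A gK).left (xK.left pt) := by
      have := hb.map (translX A gK).left.continuous
      rwa [translX_theta A xK gK hgK hθ₀max] at this
    have he : (xK ≫ translX A gK).left ≫ q =
        ι₀ ≫ ((lift (Over.homMk g hg : Over.mk t ⟶ G) (Over.homMk x hx)) ≫ a.act).left := by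
      have h1 : xK ≫ translX A gK = lift gK xK ≫ A.act := by
        simp only [translX, comp_lift_assoc, Category.comp_id, comp_toUnit_assoc]
        rw [toUnit_unique (toUnit _) (𝟙 _), Category.id_comp]
      rw [h1]
      refine (left_comp_fst j (A := X) _).trans ?_
      rw [bcAction_counit]
      let e : (Over.map j).obj (𝟙_ (Over (Spec (CommRingCat.of K)))) ⟶ Over.mk t :=
        Over.homMk ι₀ (Category.id_comp j).symm
      show _ = (e ≫ lift (Over.homMk g hg : Over.mk t ⟶ G) (Over.homMk x hx) ≫ a.act).left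
      rw [comp_lift_assoc]
      congr 3
      · exact Over.OverMorphism.ext ((left_comp_fst j gK).symm.trans (ratLift_fst j _ _))
      · exact Over.OverMorphism.ext ((left_comp_fst j xK).symm.trans (ratLift_fst j _ _))
    have h2 := congrArg (fun m => m pt) he
    simp only [Over.comp_left, Scheme.Hom.comp_apply] at h2
    erw [hι₀] at h2
    exact h2 ▸ hb'.map q.continuous
  · intro ξ' hξ' hξ'x
    obtain ⟨c, hc, hqc⟩ := Flat.generalizingMap q (hqx.symm ▸ hξ'x : ξ' ⤳ q (xK.left pt))
    obtain ⟨c', hc', hc'max⟩ := exists_isMaxPt c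
    rw [← show q c' = ξ' from hξ' _ (hqc ▸ hc'.map q.continuous),
      maxPt_above_eq A hA xK hθ₀ hθ₀max hc'max (hc'.trans hc)]

include a in
theorem maxPt_unique (hΦ : Surjective (lift a.act (snd G X)).left) {ξ ξ' y : X.left} (hξ : IsMaxPt ξ)
    (hξ' : IsMaxPt ξ') (h : ξ ⤳ y) (h' : ξ' ⤳ y) : ξ = ξ' := by
  obtain ⟨m0, -, -, -, hu⟩ := exists_common_maxPt a hΦ X.hom y (X.hom ≫ η[G].left) (𝟙 _)
    (by rw [Category.assoc, Over.w η[G]]; exact Category.comp_id _) (Category.id_comp _)
    (by rw [Scheme.Hom.comp_apply]; exact (congrArg η[G].left (Subsingleton.elim (α := PrimeSpectrum k) _ _)) ▸ mem_irreducibleComponent)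
  exact (hu ξ hξ h).trans (hu ξ' hξ' h').symm

include a in
/-- A connected quasi-separated homogeneous scheme is irreducible. -/
theorem irreducibleSpace_of_homogeneous (hΦ : Surjective (lift a.act (snd G X)).left)
    [QuasiSeparatedSpace X.left] [PreconnectedSpace X.left] [Nonempty X.left] : IrreducibleSpace X.left := by
  let I : G.left.Opens := ⟨GrpSchLib.idComp G, isOpen_idComp⟩
  have hIc : IsCompact (I : Set G.left) := by
    haveI := GrpSchLib.compactSpace_idObj (G := G)
    show IsCompact (GrpSchLib.idComp G)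
    rw [← GrpSchLib.range_idIncl (G := G)]
    exact isCompact_range (GrpSchLib.idIncl G).left.continuous
  -- maximal points lie in every non-empty open set
  have key : ∀ (V : X.left.Opens), IsAffineOpen V → (V : Set X.left).Nonempty → ∀ ξ, IsMaxPt ξ → ξ ∈ V := by
    intro V hV hVne ξ hξ
    let Q : Set (G ⊗ X).left := (fst G X).left ⁻¹' I ∩ (snd G X).left ⁻¹' V
    have hmax : ∀ p ∈ Q, ∀ ν, IsMaxPt ν → ν ⤳ a.act.left p → ν ∈ V := by
      rintro p ⟨hpI, hpV⟩ ν hν hνp
      obtain ⟨m0, hm0, hm0x, hm0act, -⟩ := exists_common_maxPt a hΦ (G ⊗ X).hom p (fst G X).left (snd G X).left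
        (Over.w _) (Over.w _) hpI
      have he : lift (Over.homMk (fst G X).left (Over.w _) : Over.mk (G ⊗ X).hom ⟶ G)
          (Over.homMk (snd G X).left (Over.w _)) ≫ a.act = a.act := by
        conv_rhs => rw [← Category.id_comp a.act, ← lift_fst_snd]
        rfl
      rw [he] at hm0act
      rw [maxPt_unique a hΦ hν hm0 hνp hm0act]
      exact hm0x.mem_open V.2 hpV
    have hsurj : ∀ z ν : X.left, IsMaxPt ν → ν ⤳ z → ν ∈ V → z ∈ a.act.left '' Q := by
      intro z ν hν hνz hνV
      let K : Type u := AlgebraicClosure (X.left.residueField z)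
      let ι₀ : Spec (CommRingCat.of K) ⟶ X.left :=
        Spec.map (CommRingCat.ofHom (algebraMap (X.left.residueField z) K)) ≫ X.left.fromSpecResidueField z
      let pt : ↥(𝟙_ (Over (Spec (CommRingCat.of K)))).left := IsLocalRing.closedPoint K
      have hι₀ : ∀ w, ι₀ w = z := fun w => by
        rw [Scheme.Hom.comp_apply]
        exact Scheme.fromSpecResidueField_apply z _
      let j : Spec (CommRingCat.of K) ⟶ Spec (CommRingCat.of k) := ι₀ ≫ X.hom
      haveI : LocallyOfFiniteType (Red.bc j G).hom := inferInstanceAs (LocallyOfFiniteType (pullback.snd G.hom j))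
      haveI : Flat j := by
        rw [← Spec.map_preimage j, HasRingHomProperty.Spec_iff (P := @Flat)]
        exact flat_of_field _
      let A := bcAction j a
      have hA := bcAction_surjective j a hΦ
      let xK := ratLift (A := X) j ι₀ rfl
      let q := pullback.fst X.hom j
      have hqx : q (xK.left pt) = z := by
        rw [← Scheme.Hom.comp_apply, ratLift_fst]
        exact hι₀ pt
      obtain ⟨θ₀, hθ₀, hθ₀max⟩ := exists_isMaxPt (GrpSchLib.unitPt (Red.bc j G))
      have hb : q ((A.orbitMap xK).left θ₀) ∈ V := by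
        rw [maxPt_unique a hΦ (isMaxPt_of_flat q (orbit_theta_isMaxPt A hA xK hθ₀ hθ₀max)) hν
          (Specializes.trans ((orbit_theta_specializes A xK hθ₀).map q.continuous) (specializes_of_eq hqx)) hνz]
        exact hνV
      have hθI : pullback.fst G.hom j θ₀ ∈ GrpSchLib.idComp G := by
        refine mem_idComp_of_mem (y := GrpSchLib.unitPt G) mem_irreducibleComponent (.inr ?_)
        have h1 := hθ₀.map (pullback.fst G.hom j).continuous
        have h2 : pullback.fst G.hom j (GrpSchLib.unitPt (Red.bc j G)) = GrpSchLib.unitPt G := by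
          have e1 := congrArg (fun t : (Over.map j).obj (𝟙_ (Over (Spec (CommRingCat.of K)))) ⟶ G => t.left pt)
            (one_counit (G := G) j)
          exact e1.trans (GrpSchLib.one_apply _ _)
        rw [h2] at h1
        exact h1
      let N : Set (Red.bc j G).left := (pullback.fst G.hom j) ⁻¹' I ∩ (A.orbitMap xK).left ⁻¹' (q ⁻¹' V)
      have hN : IsOpen N := (I.2.preimage (Scheme.Hom.continuous _)).inter
        ((V.2.preimage q.continuous).preimage (A.orbitMap xK).left.continuous)
      haveI : JacobsonSpace (Red.bc j G).left := LocallyOfFiniteType.jacobsonSpace (Red.bc j G).hom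
      obtain ⟨c, ⟨hcI, hcV⟩, hcc⟩ := nonempty_inter_closedPoints (Z := N) ⟨θ₀, hθI, hb⟩ hN.isLocallyClosed
      obtain ⟨gam, hgam⟩ := exists_ratPt_mem (G := Red.bc j G) (mem_closedPoints_iff.1 hcc) ⟨c, rfl⟩
      rw [Set.mem_singleton_iff] at hgam
      let g₁ : (Over.map j).obj (𝟙_ (Over (Spec (CommRingCat.of K)))) ⟶ G :=
        (Over.map j).map gam ≫ (Over.mapPullbackAdj j).counit.app G
      let x₁ : (Over.map j).obj (𝟙_ (Over (Spec (CommRingCat.of K)))) ⟶ X :=
        (Over.map j).map xK ≫ (Over.mapPullbackAdj j).counit.app X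
      let m : (Over.map j).obj (𝟙_ (Over (Spec (CommRingCat.of K)))) ⟶ G ⊗ X := lift g₁⁻¹ (lift g₁ x₁ ≫ a.act)
      refine ⟨m.left pt, ⟨?_, ?_⟩, ?_⟩
      · show (fst G X).left (m.left pt) ∈ GrpSchLib.idComp G
        rw [← Scheme.Hom.comp_apply, ← Over.comp_left, lift_fst, ← GrpSchLib.comp_invM, Over.comp_left,
          Scheme.Hom.comp_apply]
        have h1 : GrpSchLib.unitPt G ∈ (GrpSchLib.invM G).left '' GrpSchLib.idComp G :=
          ⟨_, mem_irreducibleComponent, GrpSchLib.invM_unitPt⟩
        refine GrpSchLib.subset_irreducibleComponent (isIrreducible_irreducibleComponent.image _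
          (GrpSchLib.invM G).left.continuous.continuousOn) h1 ⟨_, ?_, rfl⟩
        have h2 : g₁.left pt = pullback.fst G.hom j (gam.left pt) := rfl
        rw [h2, hgam]
        exact hcI
      · show (snd G X).left (m.left pt) ∈ V
        rw [← Scheme.Hom.comp_apply, ← Over.comp_left, lift_snd]
        have h1 : (lift g₁ x₁ ≫ a.act).left = (gam ≫ A.orbitMap xK).left ≫ q := by
          rw [← bcAction_counit, ← left_comp_fst]
          congr 2
          simp only [AlgGrp.Action.orbitMap, comp_lift_assoc, Category.comp_id, comp_toUnit_assoc]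
          rw [toUnit_unique (toUnit _) (𝟙 _), Category.id_comp]
        rw [h1]
        show q ((A.orbitMap xK).left (gam.left pt)) ∈ V
        rw [hgam]
        exact hcV
      · rw [← Scheme.Hom.comp_apply, ← Over.comp_left]
        have h1 : m ≫ a.act = x₁ := by
          show lift g₁⁻¹ (lift g₁ x₁ ≫ a.act) ≫ a.act = x₁
          rw [← act_mul, inv_mul_cancel, act_one]
        rw [h1]
        exact hqx
    haveI : UniversallyOpen (snd G X).left :=
      MorphismProperty.of_isPullback (P := @UniversallyOpen) GrpSchLib.isPullback_fst_snd inferInstance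
    let e : G ⊗ X ⟶ G ⊗ X := lift (fst G X) a.act
    have he : IsIso e := ⟨lift (fst G X) (lift (fst G X)⁻¹ (snd G X) ≫ a.act), by
      have hid : a.act = lift (fst G X) (snd G X) ≫ a.act := by rw [lift_fst_snd, Category.id_comp]
      have key : lift (fst G X)⁻¹ a.act ≫ a.act = snd G X := by
        conv_lhs => arg 1; arg 2; rw [hid]
        rw [← act_mul, inv_mul_cancel, act_one]
      constructor <;> apply hom_ext <;>
        simp [e, comp_lift_assoc, GrpObj.comp_inv, ← act_mul, act_one, key]⟩
    haveI : IsIso e.left := inferInstanceAs (IsIso ((Over.forget _).map e))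
    have hact : IsOpenMap a.act.left := by
      have h1 : e ≫ snd G X = a.act := lift_snd _ _
      rw [← h1, Over.comp_left]
      exact (snd G X).left.isOpenMap.comp (Scheme.Hom.homeomorph e.left).isOpenMap
    have hO : IsOpen (a.act.left '' Q) :=
      hact _ ((I.2.preimage (fst G X).left.continuous).inter (V.2.preimage (snd G X).left.continuous))
    have hQc : IsCompact Q := by
      haveI : CompactSpace I := isCompact_iff_compactSpace.mp hIc
      haveI : CompactSpace V := isCompact_iff_compactSpace.mp hV.isCompact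
      haveI : QuasiCompact (V.ι ≫ X.hom) := inferInstance
      haveI : CompactSpace ↥(pullback (I.ι ≫ G.hom) (V.ι ≫ X.hom)) :=
        QuasiCompact.compactSpace_of_compactSpace (pullback.fst (I.ι ≫ G.hom) (V.ι ≫ X.hom))
      have hr : Q = Set.range (pullback.map (I.ι ≫ G.hom) (V.ι ≫ X.hom) G.hom X.hom I.ι V.ι (𝟙 _) (by simp) (by simp)) := by
        rw [Scheme.Pullback.range_map, Scheme.Opens.range_ι, Scheme.Opens.range_ι]
        rfl
      rw [hr]
      exact isCompact_range (Scheme.Hom.continuous _)
    let O : X.left.Opens := ⟨a.act.left '' Q, hO⟩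
    haveI : CompactSpace O := isCompact_iff_compactSpace.mp (hQc.image a.act.left.continuous)
    have hspec : SpecializingMap O.ι := by
      intro z z' hzz'
      have hz : O.ι z ∈ a.act.left '' Q := z.2
      obtain ⟨p, hpQ, hp⟩ := hz
      obtain ⟨ν, hνz, hν⟩ := exists_isMaxPt (O.ι z)
      have hz' : z' ∈ O := hsurj z' ν hν (hνz.trans hzz') (hmax p hpQ ν hν (hp.symm ▸ hνz))
      exact ⟨⟨z', hz'⟩, O.ι.isEmbedding.isInducing.specializes_iff.mp hzz', rfl⟩
    have hcl : IsClosed (O : Set X.left) := by
      have := ((isClosedMap_iff_specializingMap O.ι).mpr hspec).isClosed_range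
      rwa [Scheme.Opens.range_ι] at this
    obtain ⟨v, hv⟩ := hVne
    obtain ⟨ν, hνv, hν⟩ := exists_isMaxPt v
    have hne : (O : Set X.left).Nonempty := ⟨v, hsurj v ν hν hνv (hνv.mem_open V.2 hv)⟩
    have huniv : (O : Set X.left) = Set.univ := IsClopen.eq_univ ⟨hcl, O.2⟩ hne
    obtain ⟨p, hpQ, hp⟩ := (huniv ▸ Set.mem_univ ξ : ξ ∈ (O : Set X.left))
    exact hmax p hpQ ξ hξ (hp ▸ specializes_rfl)
  obtain ⟨x₀⟩ := ‹Nonempty X.left›
  obtain ⟨ξ, -, hξ⟩ := exists_isMaxPt x₀
  have hd : closure ({ξ} : Set X.left) = Set.univ := Set.eq_univ_of_forall fun y =>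
    mem_closure_iff.2 fun U hU hy => by
      obtain ⟨V, hV, hyV, hVU⟩ := exists_isAffineOpen_mem_and_subset (X := X.left) (x := y) (U := ⟨U, hU⟩) hy
      exact ⟨ξ, hVU (key V hV ⟨y, hyV⟩ ξ hξ), rfl⟩
  rw [irreducibleSpace_def, Set.top_eq_univ, ← hd]
  exact isIrreducible_singleton.closure

end Field

end Groth.Agent.MonoFibre
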