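import Mathlib

/-!
# Finite type descends along a field extension from a principal open
-/

set_option autoImplicit false

universe u

open TensorProduct

namespace Groth.Agent.MonoFibre.LftAway

variable {k B K : Type u} [Field k] [CommRing B] [Algebra k B] [Field K] [Algebra k K]

/-- Every element of the tensor product comes from a finitely generated subalgebra. -/
theorem exists_finset_mem_range (t : K ⊗[k] B) :
    ∃ s : Finset B, ∀ B0 : Subalgebra k B, (s : Set B) ⊆ B0 →
      t ∈ (Algebra.TensorProduct.map (AlgHom.id K K) B0.val).range := by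
  classical
  induction t using TensorProduct.induction_on with
  | zero => exact ⟨∅, fun _ _ => zero_mem _⟩
  | tmul c b => exact ⟨{b}, fun B0 h => ⟨c ⊗ₜ ⟨b, h (by simp)⟩, rfl⟩⟩
  | add x y hx hy =>
    obtain ⟨s, hs⟩ := hx
    obtain ⟨t, ht⟩ := hy
    refine ⟨s ∪ t, fun B0 h => add_mem (hs B0 ?_) (ht B0 ?_)⟩
    · exact fun a ha => h (by simp [Finset.mem_coe.mp ha])
    · exact fun a ha => h (by simp [Finset.mem_coe.mp ha])

/-- A power of `f` moves the algebra into a subalgebra containing generators of the localization. -/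
theorem exists_pow_mul_mem {R A : Type u} [CommRing R] [CommRing A] [Algebra R A] (f : A)
    (R0 : Subalgebra R A) (hf : f ∈ R0) (s : Set (Localization.Away f)) (hs : Algebra.adjoin R s = ⊤)
    (hgen : ∀ y ∈ s, ∃ N : ℕ, ∃ a ∈ R0, y * algebraMap A _ (f ^ N) = algebraMap A _ a) (a : A) :
    ∃ N : ℕ, f ^ N * a ∈ R0 := by
  have key : ∀ y ∈ Algebra.adjoin R s, ∃ N : ℕ, ∃ c ∈ R0,
      y * algebraMap A (Localization.Away f) (f ^ N) = algebraMap A _ c := by
    intro y hy
    induction hy using Algebra.adjoin_induction with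
    | mem y hy => exact hgen y hy
    | algebraMap r =>
      exact ⟨0, algebraMap R A r, R0.algebraMap_mem r, by simp [← IsScalarTower.algebraMap_apply]⟩
    | add y z _ _ hy hz =>
      obtain ⟨N, c, hc, e⟩ := hy
      obtain ⟨M, d, hd, e'⟩ := hz
      refine ⟨N + M, c * f ^ M + d * f ^ N,
        add_mem (mul_mem hc (pow_mem hf M)) (mul_mem hd (pow_mem hf N)), ?_⟩
      rw [map_add, map_mul, map_mul, ← e, ← e', pow_add, map_mul]
      ring
    | mul y z _ _ hy hz =>
      obtain ⟨N, c, hc, e⟩ := hy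
      obtain ⟨M, d, hd, e'⟩ := hz
      refine ⟨N + M, c * d, mul_mem hc hd, ?_⟩
      rw [map_mul, ← e, ← e', pow_add, map_mul]
      ring
  obtain ⟨N, c, hc, e⟩ := key (algebraMap A _ a) (hs ▸ Algebra.mem_top)
  rw [← map_mul, IsLocalization.eq_iff_exists (Submonoid.powers f)] at e
  obtain ⟨⟨_, M, rfl⟩, hM⟩ := e
  refine ⟨M + N, ?_⟩
  rw [pow_add, _root_.mul_assoc, _root_.mul_comm (f ^ N) a]
  exact hM ▸ mul_mem (pow_mem hf M) hc

/-- Finite type descends along a field extension, from a principal open of the extended algebra. -/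
theorem finiteType_away (f : K ⊗[k] B) (b : B) (hft : Algebra.FiniteType K (Localization.Away f))
    (hsurj : ∀ P : PrimeSpectrum B, b ∉ P.asIdeal → ∃ Q : PrimeSpectrum (K ⊗[k] B), f ∉ Q.asIdeal ∧
      PrimeSpectrum.comap (Algebra.TensorProduct.includeRight (R := k) (A := K) (B := B)).toRingHom Q = P) :
    Algebra.FiniteType k (Localization.Away b) := by
  classical
  obtain ⟨sR, hsR⟩ := hft.out
  choose ca hca using fun y : Localization.Away f => IsLocalization.Away.surj f y
  choose cb hcb using hca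
  choose sf hsf using exists_finset_mem_range (k := k) (B := B) (K := K)
  let s : Finset B := insert b (sf f ∪ sR.biUnion fun y => sf (cb y))
  let B0 : Subalgebra k B := Algebra.adjoin k (s : Set B)
  have hsB0 : (s : Set B) ⊆ B0 := Algebra.subset_adjoin
  have hbB0 : b ∈ B0 := hsB0 (by simp [s])
  haveI : Algebra.FiniteType k B0 := (Subalgebra.fg_iff_finiteType B0).mp (Subalgebra.fg_adjoin_finset s)
  let Φ : K ⊗[k] B0 →ₐ[K] K ⊗[k] B := Algebra.TensorProduct.map (AlgHom.id K K) B0.val
  obtain ⟨f0, hf0⟩ : f ∈ Φ.range := hsf f B0 fun a ha => hsB0 (by simp [s, Finset.mem_coe.mp ha])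
  have hR0 : ∀ a, ∃ N : ℕ, f ^ N * a ∈ Φ.range := exists_pow_mul_mem f Φ.range ⟨f0, hf0⟩ _ hsR fun y hy =>
    ⟨ca y, cb y, hsf (cb y) B0 fun a ha => hsB0 (Finset.mem_coe.mpr (Finset.mem_insert_of_mem
      (Finset.mem_union_right _ (Finset.mem_biUnion.mpr ⟨y, hy, ha⟩)))), by rw [map_pow]; exact hcb y⟩
  -- the ideal of elements moving `x` into `B0`
  let J : B → Ideal B0 := fun x =>
    { carrier := {g | (g : B) * x ∈ B0}
      add_mem' := fun {a c} ha hc => by simpa [add_mul] using add_mem ha hc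
      zero_mem' := by simp
      smul_mem' := fun c a ha => by simpa [_root_.mul_assoc] using mul_mem c.2 ha }
  have hJ : ∀ x : B, ∀ q : PrimeSpectrum (K ⊗[k] B0), f0 ∉ q.asIdeal →
      ¬ (J x ≤ q.asIdeal.comap (Algebra.TensorProduct.includeRight (R := k) (A := K) (B := B0)).toRingHom) := by
    intro x q hq hle
    obtain ⟨N, hN⟩ := hR0 (1 ⊗ₜ x)
    let m : B0 →ₗ[k] B := (LinearMap.mulRight k x) ∘ₗ B0.val.toLinearMap
    let π := (Subalgebra.toSubmodule B0).mkQ
    have hexact : Function.Exact ((LinearMap.ker (π ∘ₗ m)).subtype.lTensor K) ((π ∘ₗ m).lTensor K) :=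
      Module.Flat.lTensor_exact K (LinearMap.exact_subtype_ker_map _)
    have hm : ∀ w : K ⊗[k] B0, m.lTensor K w = Φ w * (1 ⊗ₜ x) := by
      intro w
      induction w using TensorProduct.induction_on with
      | zero => simp
      | tmul c g => simp [m, Φ]
      | add y z hy hz => simp [hy, hz, add_mul]
    have hz : (π ∘ₗ m).lTensor K (f0 ^ N) = 0 := by
      rw [LinearMap.lTensor_comp, LinearMap.comp_apply, hm, map_pow, show Φ f0 = f from hf0]
      obtain ⟨w, hw⟩ := hN
      rw [← hw]
      have : ∀ w : K ⊗[k] B0, π.lTensor K (Φ w) = 0 := by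
        intro w
        induction w using TensorProduct.induction_on with
        | zero => simp
        | tmul c g =>
          have : π (g : B) = 0 := (Submodule.Quotient.mk_eq_zero _).mpr (show (g : B) ∈ Subalgebra.toSubmodule B0 from g.property)
          simp [Φ, this]
        | add y z hy hz => simp [hy, hz]
      exact this w
    obtain ⟨v, hv⟩ := (hexact _).mp hz
    have : ∀ v, ((LinearMap.ker (π ∘ₗ m)).subtype.lTensor K) v ∈ q.asIdeal := by
      intro v
      induction v using TensorProduct.induction_on with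
      | zero => simp
      | tmul c g =>
        have hg : (g : B0) ∈ J x := (Submodule.Quotient.mk_eq_zero (Subalgebra.toSubmodule B0)).mp (LinearMap.mem_ker.mp g.2)
        have h1 : (1 : K) ⊗ₜ[k] (g : B0) ∈ q.asIdeal := hle hg
        have := q.asIdeal.mul_mem_left (c ⊗ₜ[k] (1 : B0)) h1
        simpa using this
      | add y z hy hz => rw [map_add]; exact add_mem hy hz
    exact hq (q.2.mem_of_pow_mem N (hv ▸ this v))
  -- the image of the principal open
  let ir : B0 →+* K ⊗[k] B0 := (Algebra.TensorProduct.includeRight (R := k) (A := K) (B := B0)).toRingHom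
  let U : Set (PrimeSpectrum B0) := PrimeSpectrum.comap ir '' (PrimeSpectrum.basicOpen f0)
  have hUo : IsOpen U := by
    have h := PrimeSpectrum.isOpenMap_comap_algebraMap_tensorProduct_of_field (K := k) (A := B0) (B := K)
    let e : K ⊗[k] B0 ≃ₐ[k] B0 ⊗[k] K := Algebra.TensorProduct.comm k K B0
    have he : ir = (e.symm : B0 ⊗[k] K →+* K ⊗[k] B0).comp (algebraMap B0 (B0 ⊗[k] K)) := by
      ext g; simp [ir, e]
    have hcomp : (PrimeSpectrum.comap ir : PrimeSpectrum (K ⊗[k] B0) → _) =
        PrimeSpectrum.comap (algebraMap B0 (B0 ⊗[k] K)) ∘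
          PrimeSpectrum.comap (e.symm : B0 ⊗[k] K →+* K ⊗[k] B0) := by
      rw [he, PrimeSpectrum.comap_comp]
    show IsOpen (PrimeSpectrum.comap ir '' _)
    rw [hcomp, Set.image_comp]
    exact h _ ((PrimeSpectrum.homeomorphOfRingEquiv e.toRingEquiv).isOpenMap _ (PrimeSpectrum.basicOpen f0).2)
  let I : Ideal B0 := PrimeSpectrum.vanishingIdeal Uᶜ
  have hIJ : ∀ x, I ≤ (J x).radical := by
    intro x
    rw [← PrimeSpectrum.vanishingIdeal_zeroLocus_eq_radical]
    refine PrimeSpectrum.vanishingIdeal_anti_mono ?_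
    rintro p hp ⟨q, hq, rfl⟩
    exact hJ x q hq fun g hg => hp hg
  have hb : b ∈ (I.map B0.val.toRingHom).radical := by
    rw [Ideal.radical_eq_sInf, Ideal.mem_sInf]
    intro P hP
    by_contra hbP
    haveI := hP.2
    obtain ⟨Q, hQ, hQP⟩ := hsurj ⟨P, hP.2⟩ hbP
    let p : PrimeSpectrum B0 := PrimeSpectrum.comap B0.val.toRingHom ⟨P, hP.2⟩
    have hp : p ∈ U := by
      refine ⟨PrimeSpectrum.comap Φ.toRingHom Q, ?_, ?_⟩
      · show Φ f0 ∉ Q.asIdeal
        rw [show Φ f0 = f from hf0]; exact hQ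
      · show _ = PrimeSpectrum.comap B0.val.toRingHom ⟨P, hP.2⟩
        rw [← hQP, ← PrimeSpectrum.comap_comp_apply, ← PrimeSpectrum.comap_comp_apply]
        exact congrArg (fun φ => PrimeSpectrum.comap φ Q) (RingHom.ext fun g => by simp [ir, Φ])
    have : p ∈ PrimeSpectrum.zeroLocus (I : Set B0) := fun g hg => hP.1 (Ideal.mem_map_of_mem _ hg)
    rw [PrimeSpectrum.zeroLocus_vanishingIdeal_eq_closure, hUo.isClosed_compl.closure_eq] at this
    exact this hp
  obtain ⟨M, hM⟩ := hb
  obtain ⟨c, hc⟩ := Finsupp.mem_span_iff_linearCombination _ _ _ |>.mp hM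
  let B1 : Subalgebra k B := B0 ⊔ Algebra.adjoin k ((c.support.image c : Finset B) : Set B)
  haveI : Algebra.FiniteType k B1 := (Subalgebra.fg_iff_finiteType B1).mp
    ((Subalgebra.fg_adjoin_finset s).sup (Subalgebra.fg_adjoin_finset _))
  have hx : ∀ x : B, ∃ N : ℕ, b ^ N * x ∈ B1 := by
    intro x
    let J1 : Ideal B1 :=
      { carrier := {g | (g : B) * x ∈ B1}
        add_mem' := fun {a c} ha hc => by simpa [add_mul] using add_mem ha hc
        zero_mem' := by simp
        smul_mem' := fun c a ha => by simpa [_root_.mul_assoc] using mul_mem c.2 ha }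
    have hcB : ∀ y, c y ∈ B1 := fun y => by
      by_cases hy : y ∈ c.support
      · exact le_sup_right (α := Subalgebra k B) (Algebra.subset_adjoin (Finset.mem_image_of_mem c hy))
      · rw [Finsupp.notMem_support_iff.mp hy]; exact zero_mem _
    have hB01 : B0 ≤ B1 := le_sup_left
    have hgB : ∀ y : ↥(B0.val.toRingHom '' (I : Set B0)), (y : B) ∈ B1 := by
      rintro ⟨_, g, -, rfl⟩
      exact hB01 g.2
    have hgI : ∀ y, (⟨_, hgB y⟩ : B1) ∈ J1.radical := by
      rintro ⟨_, g, hg, rfl⟩
      obtain ⟨N, hN⟩ := hIJ x hg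
      exact ⟨N, hB01 (show ((g ^ N : B0) : B) * x ∈ B0 from hN)⟩
    have hbJ : (⟨b ^ M, pow_mem (hB01 hbB0) M⟩ : B1) ∈ J1.radical := by
      have hsum : b ^ M = ∑ y ∈ c.support, c y * (y : B) := by
        rw [← hc, Finsupp.linearCombination_apply, Finsupp.sum]
        rfl
      have e : (⟨b ^ M, pow_mem (hB01 hbB0) M⟩ : B1) =
          ∑ y ∈ c.support, (⟨c y, hcB y⟩ : B1) * ⟨_, hgB y⟩ := by
        exact Subtype.ext (hsum.trans (by simp))
      rw [e]
      exact Ideal.sum_mem _ fun y _ => Ideal.mul_mem_left _ _ (hgI y)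
    obtain ⟨L, hL⟩ := hbJ
    exact ⟨M * L, by rw [pow_mul]; exact hL⟩
  obtain ⟨s1, hs1⟩ := (Subalgebra.fg_adjoin_finset s).sup
    (Subalgebra.fg_adjoin_finset (c.support.image c) (R := k))
  refine ⟨⟨insert (IsLocalization.Away.invSelf b) (s1.image (algebraMap B (Localization.Away b))), ?_⟩⟩
  rw [eq_top_iff]
  intro y _
  obtain ⟨n, a, ha⟩ := IsLocalization.Away.surj b y
  obtain ⟨N, hN⟩ := hx a
  let T := Algebra.adjoin k ((insert (IsLocalization.Away.invSelf b)
    (s1.image (algebraMap B (Localization.Away b))) : Finset (Localization.Away b)) : Set (Localization.Away b))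
  have hi : IsLocalization.Away.invSelf b ∈ T := Algebra.subset_adjoin (by simp)
  have hB1 : ∀ z ∈ B1, algebraMap B (Localization.Away b) z ∈ T := by
    intro z hz
    have hz' : z ∈ Algebra.adjoin k (s1 : Set B) := hs1 ▸ hz
    have : IsScalarTower.toAlgHom k B (Localization.Away b) z ∈
        (Algebra.adjoin k (s1 : Set B)).map (IsScalarTower.toAlgHom k B (Localization.Away b)) :=
      Subalgebra.mem_map.mpr ⟨z, hz', rfl⟩
    rw [AlgHom.map_adjoin] at this
    exact Algebra.adjoin_mono (by simp) this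
  have : y = algebraMap B _ (b ^ N * a) * IsLocalization.Away.invSelf b ^ (n + N) := by
    have hb1 : algebraMap B (Localization.Away b) b * IsLocalization.Away.invSelf b = 1 :=
      IsLocalization.Away.mul_invSelf b
    calc y = y * (algebraMap B _ b * IsLocalization.Away.invSelf b) ^ (n + N) := by rw [hb1]; simp
      _ = _ := by rw [map_mul, map_pow, ← ha]; ring
  rw [this]
  exact mul_mem (hB1 _ hN) (pow_mem hi _)

end Groth.Agent.MonoFibre.LftAway
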