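import Groth.Agent.MonoFibre.Homogeneous

/-!
# Universally open groups with connected fibres are separated and quasi-compact
-/

set_option autoImplicit false

universe u

open CategoryTheory MonoidalCategory CartesianMonoidalCategory MonObj GrpObj AlgebraicGeometry Limits

noncomputable section

namespace Groth.Agent.MonoFibre

variable {S : Scheme.{u}} (G : Over S) [GrpObj G]

/-- Left translation. -/
def selfAction : AlgGrp.Action G G where
  act := μ[G]
  one_act := MonObj.one_mul G
  mul_act := MonObj.mul_assoc G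

theorem selfAction_surjective : Surjective (lift (selfAction G).act (snd G G)).left := by
  let r : G ⊗ G ⟶ G ⊗ G := lift (fst G G * (snd G G)⁻¹) (snd G G)
  have hμ : μ[G] = fst G G * snd G G := by rw [Hom.mul_def, lift_fst_snd, Category.id_comp]
  have h : r ≫ lift (selfAction G).act (snd G G) = 𝟙 _ := by
    apply hom_ext
    · rw [Category.assoc, lift_fst, Category.id_comp]
      show r ≫ μ[G] = _
      rw [hμ, MonObj.comp_mul, lift_fst, lift_snd, inv_mul_cancel_right]
    · rw [Category.assoc, lift_snd, lift_snd, Category.id_comp]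
  refine ⟨fun z => ⟨r.left z, ?_⟩⟩
  rw [← Scheme.Hom.comp_apply, ← Over.comp_left, h]
  rfl

variable [UniversallyOpen G.hom] (hconn : ∀ s : S, ConnectedSpace (G.hom.fiber s))

include hconn in
theorem quasiCompact_of_connected_fibres : QuasiCompact G.hom := by
  rw [quasiCompact_iff_forall_isAffineOpen]
  intro V hV
  have he : ∀ s : S, G.hom (η[G].left s) = s := fun s => by
    rw [← Scheme.Hom.comp_apply, Over.w η[G]]
    rfl
  -- a quasi-compact open containing the unit section over `V`
  obtain ⟨U, hUc, hUV, heU⟩ : ∃ U : G.left.Opens, IsCompact (U : Set G.left) ∧ U ≤ G.hom ⁻¹ᵁ V ∧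
      ∀ s : S, s ∈ V → η[G].left s ∈ U := by
    have hch : ∀ s : (V : Set S), ∃ A : G.left.Opens, IsAffineOpen A ∧ η[G].left s.1 ∈ A ∧ A ≤ G.hom ⁻¹ᵁ V :=
      fun s => exists_isAffineOpen_mem_and_subset (X := G.left) (x := η[G].left s.1)
        (show η[G].left s.1 ∈ G.hom ⁻¹ᵁ V by
          show G.hom (η[G].left s.1) ∈ V
          rw [he]; exact s.2)
    choose A hA hsA hAV using hch
    obtain ⟨t, ht⟩ := hV.isCompact.elim_finite_subcover (fun s => η[G].left ⁻¹' (A s : Set G.left))
      (fun s => (A s).2.preimage η[G].left.continuous) fun s hs => Set.mem_iUnion.mpr ⟨⟨s, hs⟩, hsA _⟩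
    refine ⟨⨆ s ∈ t, A s, ?_, iSup₂_le fun s _ => hAV s, fun s hs => ?_⟩
    · simp only [TopologicalSpace.Opens.coe_iSup]
      exact t.isCompact_biUnion fun s _ => (hA s).isCompact
    · obtain ⟨i, hi, hsi⟩ := Set.mem_iUnion₂.mp (ht hs)
      exact TopologicalSpace.Opens.mem_iSup.mpr ⟨i, TopologicalSpace.Opens.mem_iSup.mpr ⟨hi, hsi⟩⟩
  haveI : IsAffine (V : Scheme.{u}) := hV
  haveI : CompactSpace U := isCompact_iff_compactSpace.mp hUc
  let uV : (U : Scheme.{u}) ⟶ (V : Scheme.{u}) := IsOpenImmersion.lift V.ι (U.ι ≫ G.hom) (by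
    rw [Scheme.Opens.range_ι]
    rintro _ ⟨x, rfl⟩
    exact hUV x.2)
  haveI : QuasiCompact uV := inferInstance
  haveI : CompactSpace ↥(pullback uV uV) := QuasiCompact.compactSpace_of_compactSpace (pullback.fst uV uV)
  let q : pullback uV uV ⟶ (G ⊗ G).left := pullback.map uV uV G.hom G.hom U.ι U.ι V.ι
    (IsOpenImmersion.lift_fac _ _ _) (IsOpenImmersion.lift_fac _ _ _)
  suffices h : (G.hom ⁻¹ᵁ V : Set G.left) = μ[G].left '' Set.range q by
    show IsCompact (G.hom ⁻¹ᵁ V : Set G.left)
    rw [h]
    exact (isCompact_range q.continuous).image μ[G].left.continuous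
  have hrq : Set.range q = (fst G G).left ⁻¹' U ∩ (snd G G).left ⁻¹' U := by
    rw [Scheme.Pullback.range_map, Scheme.Opens.range_ι]
    rfl
  rw [hrq]
  refine Set.Subset.antisymm (fun z hz => ?_) ?_
  · let K : Type u := G.left.residueField z
    let j : Spec (CommRingCat.of K) ⟶ S := G.left.fromSpecResidueField z ≫ G.hom
    haveI := irreducibleSpace_bc (G := G) hconn j
    let GK := Red.bc j G
    let gK : (Over.map j).obj GK ⟶ G := (Over.mapPullbackAdj j).counit.app G
    let zG : Over.mk j ⟶ G := Over.homMk (G.left.fromSpecResidueField z) rfl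
    let str : (Over.map j).obj GK ⟶ Over.mk j := Over.homMk GK.hom rfl
    let pr : (Over.map j).obj GK ⟶ G ⊗ G := lift gK (gK⁻¹ * (str ≫ zG))
    let pt : ↥(Spec (CommRingCat.of K)) := IsLocalRing.closedPoint K
    have hzpt : zG.left pt = z := Scheme.fromSpecResidueField_apply z pt
    have sec : ∀ g : Over.mk j ⟶ G, ∃ s : Over.mk j ⟶ (Over.map j).obj GK, s ≫ gK = g ∧ s ≫ str = 𝟙 _ := fun g => by
      refine ⟨Over.homMk (pullback.lift g.left (𝟙 _) (by rw [Over.w g]; exact (Category.id_comp _).symm)) (by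
        show pullback.lift g.left (𝟙 _) _ ≫ pullback.snd G.hom j ≫ j = j
        rw [pullback.lift_snd_assoc, Category.id_comp]), Over.OverMorphism.ext ?_, Over.OverMorphism.ext ?_⟩
      · exact pullback.lift_fst _ _ _
      · exact pullback.lift_snd _ _ _
    have hA : (pr.left ⁻¹' ((fst G G).left ⁻¹' U)).Nonempty := by
      obtain ⟨s, hs, -⟩ := sec 1
      refine ⟨s.left pt, ?_⟩
      show (fst G G).left (pr.left (s.left pt)) ∈ U
      rw [← Scheme.Hom.comp_apply, ← Over.comp_left, lift_fst, ← Scheme.Hom.comp_apply, ← Over.comp_left, hs,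
        Hom.one_def, Over.comp_left, Scheme.Hom.comp_apply]
      refine heU _ ?_
      show j pt ∈ V
      rw [Scheme.Hom.comp_apply, Scheme.fromSpecResidueField_apply]
      exact hz
    have hB : (pr.left ⁻¹' ((snd G G).left ⁻¹' U)).Nonempty := by
      obtain ⟨s, hs, hs'⟩ := sec zG
      refine ⟨s.left pt, ?_⟩
      show (snd G G).left (pr.left (s.left pt)) ∈ U
      rw [← Scheme.Hom.comp_apply, ← Over.comp_left, lift_snd, ← Scheme.Hom.comp_apply, ← Over.comp_left,
        MonObj.comp_mul, GrpObj.comp_inv, hs, ← Category.assoc, hs', Category.id_comp, inv_mul_cancel,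
        Hom.one_def, Over.comp_left, Scheme.Hom.comp_apply]
      refine heU _ ?_
      show j pt ∈ V
      rw [Scheme.Hom.comp_apply, Scheme.fromSpecResidueField_apply]
      exact hz
    haveI : PreirreducibleSpace ↥((Over.map j).obj GK).left := inferInstanceAs (PreirreducibleSpace ↥GK.left)
    obtain ⟨w, hwA, hwB⟩ := nonempty_preirreducible_inter ((U.2.preimage (fst G G).left.continuous).preimage pr.left.continuous)
      ((U.2.preimage (snd G G).left.continuous).preimage pr.left.continuous) hA hB
    refine ⟨pr.left w, ⟨hwA, hwB⟩, ?_⟩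
    have hμ : μ[G] = fst G G * snd G G := by rw [Hom.mul_def, lift_fst_snd, Category.id_comp]
    rw [← Scheme.Hom.comp_apply, ← Over.comp_left, hμ, MonObj.comp_mul, lift_fst, lift_snd, mul_inv_cancel_left,
      Over.comp_left, Scheme.Hom.comp_apply]
    exact Scheme.fromSpecResidueField_apply z _
  · rintro _ ⟨p, ⟨hp, -⟩, rfl⟩
    show G.hom (μ[G].left p) ∈ V
    rw [← Scheme.Hom.comp_apply, Over.w μ[G], ← Over.w (fst G G), Scheme.Hom.comp_apply]
    exact hUV hp

end Groth.Agent.MonoFibre
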